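import Mathlib
import Cfsg.Agent.Lib.J4T.ThreeB

/-!
# Groups with an element of order 3 whose centraliser is `3.M22` or `6.M22`: definitions

* `KS0 w z θ`: `θ` maps `C(w)` onto `M22` with kernel `⟨z, w⟩` (`z = 1` is allowed); `KS`: the same on `N(⟨w⟩)`.
* `Gl G`: every element of order 3 has this structure and they are all conjugate.
* `Pa w a`: generators of an elementary abelian group `AA w a` of order 9.
* `InU A`, `InF A w`, `InD A w`: the groups `U = O_2(C(A))`, `F_w = Ω_1 O_2(C(w) ∩ C(U))`, `D_w = [F_w, A]`.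
-/

set_option autoImplicit false

namespace CfsgLib.J4X

open Cfsg CfsgLib.Golay CfsgLib.M24E CfsgLib.J4T CfsgLib.J4T.G3 Subgroup

variable {G : Type*} [Group G]

/-- the elements that centralise or invert `w` -/
def N3 (w : G) : Subgroup G where
  carrier := {k | k * w * k⁻¹ = w ∨ k * w * k⁻¹ = w⁻¹}
  one_mem' := Or.inl (by simp)
  mul_mem' := by
    rintro x y hx hy
    have e : x * y * w * (x * y)⁻¹ = x * (y * w * y⁻¹) * x⁻¹ := by group
    have e' : x * w⁻¹ * x⁻¹ = (x * w * x⁻¹)⁻¹ := by group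
    show _ ∨ _
    rw [e]
    rcases hy with h | h <;> rw [h]
    · exact hx
    · rw [e']
      rcases hx with h' | h' <;> rw [h']
      exacts [Or.inr rfl, Or.inl (inv_inv _)]
  inv_mem' := by
    rintro x (h | h)
    · left
      conv_lhs => rw [← h]
      group
    · right
      have : w = x * w⁻¹ * x⁻¹ := by
        rw [show x * w⁻¹ * x⁻¹ = (x * w * x⁻¹)⁻¹ by group, h, inv_inv]
      conv_lhs => rw [this]
      group

theorem mem_N3 {w k : G} : k ∈ N3 w ↔ k * w * k⁻¹ = w ∨ k * w * k⁻¹ = w⁻¹ := Iff.rfl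

theorem N3_of_comm {w k : G} (h : k * w = w * k) : k ∈ N3 w := Or.inl (by rw [h, mul_inv_cancel_right])

/-- coordinates on `C(w)` -/
structure KS0 (w z : G) (θ : G → P24) : Prop where
  ne : w ≠ 1
  three : w ^ 3 = 1
  zz : z * z = 1
  z_comm : ∀ k, k * w = w * k → k * z = z * k
  mul : ∀ a b, a * w = w * a → b * w = w * b → θ (a * b) = θ a * θ b
  mem : ∀ a, a * w = w * a → θ a ∈ DD ∧ θ a (pt 0) = pt 0
  surj : ∀ p ∈ DD, p (pt 0) = pt 0 → ∃ k, k * w = w * k ∧ θ k = p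
  ker : ∀ k, k * w = w * k → (θ k = 1 ↔ ∃ a i : ℕ, k = z ^ a * w ^ i)
  perf : w ∈ ⁅centralizer ({w} : Set G), centralizer ({w} : Set G)⁆

/-- coordinates on `N(⟨w⟩)` -/
structure KS (w z : G) (θ : G → P24) : Prop extends KS0 w z θ where
  z_comm2 : ∀ k ∈ N3 w, k * z = z * k
  mul2 : ∀ a ∈ N3 w, ∀ b ∈ N3 w, θ (a * b) = θ a * θ b
  mem2 : ∀ a ∈ N3 w, θ a ∈ DD
  surj2 : ∀ p ∈ DD, ∃ k ∈ N3 w, θ k = p
  inner : ∀ k ∈ N3 w, θ k (pt 0) = pt 0 → k * w = w * k

/-- the global hypothesis -/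
structure Gl (G : Type*) [Group G] where
  /-- the central involution (or 1) of the centraliser of an element of order 3 -/
  zf : G → G
  ks : ∀ w : G, w ≠ 1 → w ^ 3 = 1 → ∃ θ, KS w (zf w) θ
  conj : ∀ w w' : G, w ≠ 1 → w ^ 3 = 1 → w' ≠ 1 → w' ^ 3 = 1 → IsConj w w'

/-- `w` and `a` generate an elementary abelian group of order 9 -/
structure Pa (w a : G) : Prop where
  ne : w ≠ 1
  w3 : w ^ 3 = 1
  a3 : a ^ 3 = 1
  comm : a * w = w * a
  na : ∀ i : ℕ, a ≠ w ^ i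

/-- the group of order 9 -/
def AA (w a : G) : Subgroup G := closure {w, a}

/-- standard coordinates -/
structure Fm (w a z : G) (θ : G → P24) : Prop where
  ks : KS w z θ
  pa : Pa w a
  θa : θ a = pm qA

/-- membership in `U = O_2(C(A))` -/
def InU (A : Subgroup G) (u : G) : Prop := (∀ a ∈ A, u * a = a * u) ∧ u * u = 1

/-- membership in the preimage `F_w` of the hexad group -/
def InF (A : Subgroup G) (w f : G) : Prop := f * w = w * f ∧ (∀ u, InU A u → f * u = u * f) ∧ f * f = 1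

/-- membership in `D_w = [F_w, A]` -/
def InD (A : Subgroup G) (w d : G) : Prop :=
  InF A w d ∧ ∀ a ∈ A, (∀ i : ℕ, a ≠ w ^ i) → d * (a * d * a⁻¹) * (a⁻¹ * d * a) = 1

/-- the group generated by the `F_w` -/
def VV (A : Subgroup G) : Subgroup G := closure {f | ∃ w ∈ A, w ≠ 1 ∧ InF A w f}

/-- first case: the `F_w` commute, and `VV A` contains the 2-elements of `C(F_w)` -/
structure AllC (A : Subgroup G) : Prop where
  comm : ∀ w ∈ A, w ≠ 1 → ∀ w' ∈ A, w' ≠ 1 → ∀ f f', InF A w f → InF A w' f' → f * f' = f' * f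
  two : ∀ w ∈ A, w ≠ 1 → ∀ c : G, (∀ f, InF A w f → c * f = f * c) → (∃ n : ℕ, c ^ 2 ^ n = 1) → c ∈ VV A

/-- second case: `C(F_w / U) ∩ C(U) = F_w ⟨w⟩` -/
def NoneC (A : Subgroup G) : Prop :=
  ∀ w ∈ A, w ≠ 1 → ∀ c : G, (∀ u, InU A u → c * u = u * c) → (∀ f, InF A w f → InU A (c * f * c⁻¹ * f⁻¹)) →
    ∃ f, InF A w f ∧ ∃ i : ℕ, c = f * w ^ i

/-- the extraspecial group -/
structure EX (x z : G) (E : Subgroup G) : Prop where
  es : ExtraTwo.ES E z
  card : Nat.card E = 8192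
  norm : ∀ k ∈ N3 x, ∀ e ∈ E, k * e * k⁻¹ ∈ E
  fpf : ∀ e ∈ E, e * x = x * e → e = 1 ∨ e = z
  cent : ∀ y, Pa x y → ∀ c, c * y = y * c → c * z = z * c → ∃ e ∈ E, ∃ k ∈ N3 x, c = e * k

end CfsgLib.J4X
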