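import Mathlib
import Cfsg.Prelude.Def_JankoFourType
import Cfsg.Agent.Lib.J4T.DD
import Cfsg.Agent.Lib.J4X.Defs

/-! # Coordinates on the centraliser of an involution give the Janko-four type -/

set_option autoImplicit false
set_option linter.unusedSectionVars false

namespace CfsgLib.J4X

open Cfsg CfsgLib.Golay CfsgLib.M24E CfsgLib.J4T CfsgLib.J4T.G3 Subgroup CfsgLib.LargeExtra

namespace Fn

/-- a subgroup of `M22.2` normalised by `M22` is trivial or contains `M22` -/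
theorem bot_or_le {Q : Subgroup P24} (hQ : Q ≤ DD) (hn : ∀ g ∈ Spor.M22, ∀ q ∈ Q, g * q * g⁻¹ ∈ Q) :
    Q = ⊥ ∨ Spor.M22 ≤ Q := by
  have := CfsgLib.Mathieu.simple_M22
  have hN : (Q.subgroupOf Spor.M22).Normal := ⟨fun q hq g => hn g g.2 q hq⟩
  refine (hN.eq_bot_or_eq_top).imp (fun h => ?_) fun h g hg => ?_
  · refine eq_bot_iff.2 fun q hq => mem_bot.2 (eq_one_of_cent_M22 (hQ hq) fun g hg => ?_)
    have h1 : q * g * q⁻¹ * g⁻¹ ∈ Spor.M22 :=
      mul_mem ((mem_normalizer_iff.1 (DD_le_normalizer (hQ hq)) g).1 hg) (inv_mem hg)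
    have h2 : q * g * q⁻¹ * g⁻¹ ∈ Q := by
      have := mul_mem hq (hn g hg _ (inv_mem hq))
      rwa [← mul_assoc, ← mul_assoc] at this
    have h3 : (⟨_, h1⟩ : Spor.M22) ∈ Q.subgroupOf Spor.M22 := h2
    rw [h, mem_bot] at h3
    have h4 : q * g * q⁻¹ * g⁻¹ = 1 := congrArg Subtype.val h3
    calc q * g = q * g * q⁻¹ * g⁻¹ * (g * q) := by group
      _ = g * q := by rw [h4, one_mul]
  · have : (⟨g, hg⟩ : Spor.M22) ∈ Q.subgroupOf Spor.M22 := h ▸ mem_top _
    exact this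

theorem A_M22 : pm qA ∈ Spor.M22 := mem_M22.2 ⟨(HM.chkL_DD chkL_A).2, TT_inner A_TT⟩

variable {G : Type*} [Group G] [Finite G] {z : G}

theorem range_θ (h : HM z) : h.θhom.range = DD := by
  ext p
  refine ⟨?_, fun hp => ?_⟩
  · rintro ⟨x, rfl⟩
    exact h.θ_mem _ (mem_cent.1 x.2)
  · obtain ⟨k, hk, e⟩ := h.θ_surj p hp
    exact ⟨⟨k, mem_cent.2 (h.K2_z hk)⟩, e⟩

theorem core_eq (h : HM z) : twoCoreOfCentralizer z = h.E := by
  have : Fact (Nat.Prime 2) := ⟨Nat.prime_two⟩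
  refine le_antisymm ?_ (CfsgLib.Core.le_map_pCore h.pre.le_cent
    (fun g hg => h.pre.mem_normalizer (mem_cent.1 hg)) h.pre.es.isPGroup)
  have hn := pCore_normal 2 (centralizer ({z} : Set G))
  have h2 := CfsgLib.Core.isPGroup_pCore 2 (centralizer ({z} : Set G))
  have hb : (pCore 2 (centralizer ({z} : Set G))).map h.θhom = ⊥ := by
    refine (bot_or_le (range_θ h ▸ map_le_range _ _) ?_).resolve_right fun hle => ?_
    · rintro g hg _ ⟨q, hq, rfl⟩
      obtain ⟨c, rfl⟩ : g ∈ h.θhom.range := range_θ h ▸ (mem_M22.1 hg).1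
      exact ⟨_, hn.conj_mem q hq c, by simp⟩
    · obtain ⟨n, e⟩ := h2.map h.θhom ⟨_, hle A_M22⟩
      have e' : pm qA ^ 2 ^ n = 1 := congrArg Subtype.val e
      exact A_ne ((pow_eq_one_iff_of_coprime (Nat.Coprime.pow_left n (by norm_num : Nat.Coprime 2 3))).1 ⟨e', A3⟩)
  rintro _ ⟨q, hq, rfl⟩
  obtain ⟨n, e⟩ := h2 ⟨q, hq⟩
  refine h.mem_E_of_two (mem_cent.1 q.2) ?_ (n := n) (congrArg (fun t => ((t : pCore 2 _) : G)) e)
  exact mem_bot.1 (hb ▸ mem_map_of_mem h.θhom hq)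

end Fn

variable {G : Type*} [Group G] [Finite G]

theorem jof {z : G} (h : HM z) : IsOfJankoFourTypeWith z (zpowers h.ρ) := by
  have hc : ∀ g : G, g ∈ centralizer (zpowers h.ρ : Set G) ↔ g * h.ρ = h.ρ * g := fun g => by
    rw [CfsgLib.Core.centralizer_zpowers, mem_cent]
  have hk : (amb h.θhom.ker).subgroupOf (centralizer ({z} : Set G)) = h.θhom.ker := amb_subgroupOf _
  have hN : ((amb h.θhom.ker).subgroupOf (centralizer ({z} : Set G))).Normal := by rw [hk]; infer_instance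
  unfold IsOfJankoFourTypeWith
  rw [Fn.core_eq h]
  refine ⟨h.orderOf_z, h.pre.es.isExtraspecial, h.card_E, inf_le_right.trans h.pre.centralizer_le,
    ⟨amb h.θhom.ker, fun e he => mem_amb.2 ⟨mem_cent.2 (h.E_z he), h.θ_E e he⟩, map_subtype_le _, ?_, ?_,
      ⟨hN, ?_⟩, zpowers_le.2 (mem_amb.2 ⟨mem_cent.2 h.rho_z, h.θ_rho⟩)⟩,
    by rw [Nat.card_zpowers, h.orderOf_rho], ?_, fun e => ?_, ?_⟩
  · exact (normal_subgroupOf_iff_le_normalizer (map_subtype_le _)).1 hN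
  · have e := card_mul_index h.θhom.ker
    rw [index_ker, Fn.range_θ h, card_DD, h.card_H] at e
    rw [card_amb, h.card_E]
    omega
  · obtain ⟨d⟩ := dd_equiv
    exact ⟨(QuotientGroup.quotientMulEquivOfEq hk).trans ((QuotientGroup.quotientKerEquivRange _).trans
      ((MulEquiv.subgroupCongr (Fn.range_θ h)).trans d))⟩
  · ext e
    rw [h.pre.es.mem_zpowers, mem_inf, hc]
    refine ⟨fun ⟨a, b⟩ => h.E_inf_K2 a (h.mem_K2_of_comm (h.E_z a) b), ?_⟩
    rintro (rfl | rfl)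
    · exact ⟨one_mem _, by simp⟩
    · exact ⟨h.z_mem, h.rho_z.symm⟩
  · obtain ⟨k, hk, e'⟩ := exists_outer h
    have h1 : k ∈ centralizer ({z} : Set G) ⊓ normalizer (zpowers h.ρ : Set G) := by
      refine ⟨mem_cent.2 (h.K2_z hk), mem_normalizer_fintype ?_⟩
      rintro _ ⟨n, rfl⟩
      show k * h.ρ ^ n * k⁻¹ ∈ zpowers h.ρ
      rw [← _root_.conj_zpow, e']
      exact zpow_mem (inv_mem (mem_zpowers _)) n
    rw [e] at h1
    rw [(hc k).1 h1.2, mul_inv_cancel_right, h.rho_inv] at e'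
    exact h.rho_ne (by simpa using e')
  · obtain ⟨a, b, g⟩ := exists_gens h
    have m : ∀ x ∈ R0 h, x ∈ centralizer ({z} : Set G) ⊓ centralizer (zpowers h.ρ : Set G) := fun x hx =>
      have := h.mem_KK.1 (R0_KK h hx)
      ⟨mem_cent.2 (h.K2_z this.1), (hc x).2 (h.conj_rho_in this.1 this.2)⟩
    have := commutator_mem_commutator (m a g.a_mem) (m b g.b_mem)
    rw [commutatorElement_def, g.ab] at this
    exact zpowers_le.2 (by simpa [mul_assoc] using this)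

end CfsgLib.J4X
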