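import Mathlib

/-!
# Linear algebra over `F_2` for the case `AllC`
-/

set_option autoImplicit false

namespace CfsgLib.J4X.Al

variable {Γ V : Type*} [Group Γ] [AddCommGroup V] [DistribMulAction Γ V]

/-- `1 + w + w⁻¹` -/
def P (w : Γ) : V →+ V :=
  AddMonoidHom.id V + DistribSMul.toAddMonoidHom V w + DistribSMul.toAddMonoidHom V w⁻¹

theorem P_apply (w : Γ) (v : V) : P w v = v + w • v + w⁻¹ • v := rfl

/-- `t` centralises `C_W(w)` -/
def K (V : Type*) [AddCommGroup V] [DistribMulAction Γ V] (t y w : Γ) : Prop :=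
  ∀ d : V, w • d = d → P y d = 0 → t • d = d

/-- the two possibilities -/
def AB (V : Type*) [AddCommGroup V] [DistribMulAction Γ V] (t y x : Γ) : Prop :=
  (K V t y (x * y) ∧ K V t y (x * y⁻¹)) ∨
    (K V t y x ∧ ∀ v : V, P y v = 0 → x • (v + t • v) = v + t • v)

/-- `C_W(w)` is generated by one orbit of `y` -/
def Four (V : Type*) [AddCommGroup V] [DistribMulAction Γ V] (y w : Γ) : Prop :=
  ∃ d : V, ∀ e : V, w • e = e → P y e = 0 → e = 0 ∨ e = d ∨ e = y • d ∨ e = y⁻¹ • d

theorem P_smul {w g : Γ} (h : Commute g w) (v : V) : P w (g • v) = g • P w v := by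
  simp only [P_apply, smul_add, smul_smul, h.eq, h.inv_right.eq]

theorem smul_P {w : Γ} (h : w ^ 3 = 1) (v : V) : w • P w v = P w v := by
  have : w * w = w⁻¹ := eq_inv_of_mul_eq_one_left (by rw [← h, pow_three'])
  simp only [P_apply, smul_add, smul_smul, this, mul_inv_cancel, one_smul]
  abel

theorem P_P {w y : Γ} (h : Commute w y) (v : V) : P y (P w v) = P w (P y v) := by
  rw [P_apply w, P_apply w, map_add, map_add, P_smul h, P_smul h.inv_left]

theorem Four.kill {y w : Γ} (h : Four V y w) (f : V →+ V) (hf : ∀ v, f (y • v) = y • f v) {d : V}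
    (h0 : d ≠ 0) (h1 : w • d = d) (h2 : P y d = 0) (h3 : f d = 0) {e : V} (h4 : w • e = e)
    (h5 : P y e = 0) : f e = 0 := by
  obtain ⟨c, hc⟩ := h
  have hf' : ∀ v, f (y⁻¹ • v) = y⁻¹ • f v := fun v => by
    rw [eq_inv_smul_iff, ← hf, smul_inv_smul]
  have : f c = 0 := by
    rcases hc d h1 h2 with rfl | rfl | rfl | rfl
    · exact absurd rfl h0
    · exact h3
    · simpa [hf, smul_eq_zero_iff_eq] using h3
    · simpa [hf', smul_eq_zero_iff_eq] using h3
  rcases hc e h4 h5 with rfl | rfl | rfl | rfl <;> simp [hf, hf', this]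

theorem dich (two : ∀ v : V, v + v = 0) {x y t : Γ} (x3 : x ^ 3 = 1) (y3 : y ^ 3 = 1)
    (hxy : Commute x y) (hty : Commute t y) (tt : t * t = 1)
    (ht : t * (x * t * x⁻¹) = x⁻¹ * t * x) (f0 : Four V y x) (f1 : Four V y (x * y))
    (f2 : Four V y (x * y⁻¹)) : AB V t y x ∨ AB V t y (x * y) ∨ AB V t y (x * y⁻¹) := by
  have xx : x * x = x⁻¹ := eq_inv_of_mul_eq_one_left (by rw [← x3, pow_three'])
  have yy : y * y = y⁻¹ := eq_inv_of_mul_eq_one_left (by rw [← y3, pow_three'])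
  have ht' : t * (x⁻¹ * t * x) = x * t * x⁻¹ := by rw [← ht, ← mul_assoc, tt, one_mul]
  let N : V →+ V := AddMonoidHom.id V + DistribSMul.toAddMonoidHom V t
  have hN : ∀ v, N v = v + t • v := fun _ => rfl
  let N0 : V →+ V := N + DistribSMul.toAddMonoidHom V (x * t * x⁻¹) +
    DistribSMul.toAddMonoidHom V (x⁻¹ * t * x)
  have hN0 : ∀ v, N0 v = v + t • v + (x * t * x⁻¹) • v + (x⁻¹ * t * x) • v := fun _ => rfl
  have Ns : ∀ {s : Γ}, Commute t s → ∀ v, N (s • v) = s • N v := fun hs v => by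
    simp only [hN, smul_add, smul_smul, hs.eq]
  have N0s : ∀ {s : Γ}, Commute t s → Commute x s → ∀ v, N0 (s • v) = s • N0 v :=
    fun hs hs' v => by
      simp only [hN0, smul_add, smul_smul, hs.eq, ((hs'.mul_left hs).mul_left hs'.inv_left).eq,
        ((hs'.inv_left.mul_left hs).mul_left hs').eq]
  have N0x : ∀ v, N0 (x • v) = x • N0 v := fun v => by
    have e1 : x * (x * t * x⁻¹) = x⁻¹ * t * x * x := by
      rw [mul_assoc _ x x, xx, ← xx]; group
    have e2 : x * t = x * t * x⁻¹ * x := by group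
    have e3 : x * (x⁻¹ * t * x) = t * x := by group
    simp only [hN0, smul_add, smul_smul, e1, e3, ← e2]
    abel
  have N0x' : ∀ v, N0 (x⁻¹ • v) = x⁻¹ • N0 v := fun v => by
    rw [eq_inv_smul_iff, ← N0x, smul_inv_smul]
  have tN0 : ∀ v, t • N0 v = N0 v := fun v => by
    simp only [hN0, smul_add, smul_smul, tt, ht, ht', one_smul]
    abel
  have N00 : ∀ v, N0 (N0 v) = 0 := fun v => by
    rw [hN0 (N0 v), mul_smul, mul_smul, mul_smul, mul_smul, ← N0x, ← N0x', tN0, tN0, tN0, N0x,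
      N0x', smul_inv_smul, inv_smul_smul]
    linear_combination (norm := abel) two (N0 v) + two (N0 v)
  have PN : ∀ {f : V →+ V}, (∀ v, f (y • v) = y • f v) → ∀ v, P y v = 0 → P y (f v) = 0 := by
    intro f hf v hv
    have hf' : f (y⁻¹ • v) = y⁻¹ • f v := by rw [eq_inv_smul_iff, ← hf, smul_inv_smul]
    rw [P_apply, ← hf, ← hf', ← map_add, ← map_add, ← P_apply, hv, map_zero]
  have dec : ∀ v : V, P y v = 0 → v = P x v + P (x * y) v + P (x * y⁻¹) v := fun v hv => by
    have h1 := congrArg (x • ·) hv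
    have h2 := congrArg (x⁻¹ • ·) hv
    simp only [P_apply, smul_add, smul_zero, smul_smul] at h1 h2
    simp only [P_apply, mul_inv_rev, inv_inv, ← hxy.inv_left.eq, ← hxy.inv_inv.eq]
    linear_combination (norm := abel) -h1 - h2 - two v
  have w3 : ∀ {s : Γ}, Commute x s → s ^ 3 = 1 → (x * s) ^ 3 = 1 := fun hs hs' => by
    rw [hs.mul_pow, x3, hs', mul_one]
  have c1 : Commute (x * y) y := hxy.mul_left (Commute.refl y)
  have c2 : Commute (x * y⁻¹) y := hxy.mul_left (Commute.refl y).inv_left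
  have y3' : y⁻¹ ^ 3 = 1 := by rw [inv_pow, y3, inv_one]
  have N0D : ∀ s : Γ, Commute t s → Commute x s → Commute s y → s ^ 3 = 1 → Four V y (x * s) →
      ∀ v, P y v = 0 → N0 (P (x * s) v) = 0 := fun s h1 h2 h3 h4 h5 v hv => by
    by_contra h0
    have e1 := smul_P (w3 h2 h4) v
    have e2 : P y (P (x * s) v) = 0 := by rw [P_P (hxy.mul_left h3), hv, map_zero]
    exact h0 (h5.kill N0 (N0s hty hxy) h0 (by rw [mul_smul, ← N0s h1 h2, ← N0x, ← mul_smul, e1])
      (PN (N0s hty hxy) _ e2) (N00 _) e1 e2)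
  have N0W : ∀ v, P y v = 0 → N0 v = 0 := fun v hv => by
    have a0 := N0D 1 (Commute.one_right t) (Commute.one_right x) (Commute.one_left y) (one_pow 3)
      (by rwa [mul_one]) v hv
    rw [mul_one] at a0
    rw [dec v hv, map_add, map_add, a0, N0D y hty hxy (Commute.refl y) y3 f1 v hv,
      N0D y⁻¹ hty.inv_right hxy.inv_right (Commute.refl y).inv_left y3' f2 v hv]
    simp
  have NN : ∀ v, N (N v) = 0 := fun v => by
    simp only [hN, smul_add, smul_smul, tt, one_smul]
    linear_combination (norm := abel) two v + two (t • v)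
  have NxN : ∀ v, P y v = 0 → N (x • N v) = 0 := fun v hv => by
    rw [← N0W (x • v) (by rw [P_smul hxy, hv, smul_zero])]
    simp only [hN, hN0, smul_add, smul_smul, ← ht, inv_mul_cancel_right, mul_assoc, inv_mul_cancel,
      mul_one]
    abel
  have NxN' : ∀ v, P y v = 0 → N (x⁻¹ • N v) = 0 := fun v hv => by
    rw [← N0W (x⁻¹ • v) (by rw [P_smul hxy.inv_left, hv, smul_zero])]
    simp only [hN, hN0, smul_add, smul_smul, ← ht', mul_assoc, mul_inv_cancel, mul_one]
    abel
  have KI : ∀ s : Γ, Commute t s → Commute x s → Commute s y → s ^ 3 = 1 → Four V y (x * s) →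
      K V t y (x * s) ∨ ∀ v, P y v = 0 → P (x * s) (N v) = 0 := fun s h1 h2 h3 h4 h5 => by
    refine or_iff_not_imp_right.2 fun h0 d e1 e2 => ?_
    push Not at h0
    obtain ⟨v, hv, h0⟩ := h0
    have := h5.kill N (Ns hty) h0 (smul_P (w3 h2 h4) _)
      (by rw [P_P (hxy.mul_left h3), PN (Ns hty) v hv, map_zero]) (by
        rw [P_apply, map_add, map_add, NN, mul_smul, ← Ns h1, mul_inv_rev, ← h2.inv_inv.eq, mul_smul,
          ← Ns h1.inv_right, NxN _ (by rw [P_smul h3, hv, smul_zero]),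
          NxN' _ (by rw [P_smul h3.inv_left, hv, smul_zero])]
        simp) e1 e2
    rw [hN] at this
    linear_combination (norm := abel) this - two d
  have k0 := KI 1 (Commute.one_right t) (Commute.one_right x) (Commute.one_left y) (one_pow 3)
    (by rwa [mul_one])
  rw [mul_one] at k0
  have k1 := KI y hty hxy (Commute.refl y) y3 f1
  have k2 := KI y⁻¹ hty.inv_right hxy.inv_right (Commute.refl y).inv_left y3' f2
  have dN : ∀ v, P y v = 0 → N v = P x (N v) + P (x * y) (N v) + P (x * y⁻¹) (N v) :=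
    fun v hv => dec _ (PN (Ns hty) v hv)
  have e1 : x * y * y = x * y⁻¹ := by rw [mul_assoc, yy]
  have e2 : x * y⁻¹ * y⁻¹ = x * y := by rw [← yy]; nth_rw 2 [yy]; group
  have fin : ∀ w : Γ, w ^ 3 = 1 → (∀ v, P y v = 0 → N v = P w (N v)) →
      (K V t y w ∨ ∀ v, P y v = 0 → P w (N v) = 0) → AB V t y w := fun w h1 h2 h3 =>
    Or.inr ⟨h3.elim id fun h4 d _ hd => by
      have := (h2 d hd).trans (h4 d hd)
      rw [hN] at this
      linear_combination (norm := abel) this - two d,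
      fun v hv => by rw [← hN, h2 v hv, smul_P h1]⟩
  rcases k0 with a0 | a0 <;> rcases k1 with a1 | a1
  · exact Or.inr (Or.inr (Or.inl ⟨by rwa [inv_mul_cancel_right], by rwa [e2]⟩))
  · rcases k2 with a2 | a2
    · exact Or.inr (Or.inl (Or.inl ⟨by rwa [e1], by rwa [mul_inv_cancel_right]⟩))
    · exact Or.inl (fin x x3 (fun v hv => by simpa [a1 v hv, a2 v hv] using dN v hv) (Or.inl a0))
  · rcases k2 with a2 | a2
    · exact Or.inl (Or.inl ⟨a1, a2⟩)
    · exact Or.inr (Or.inl (fin _ (w3 hxy y3)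
        (fun v hv => by simpa [a0 v hv, a2 v hv] using dN v hv) (Or.inl a1)))
  · exact Or.inr (Or.inr (fin _ (w3 hxy.inv_right y3')
      (fun v hv => by simpa [a0 v hv, a1 v hv] using dN v hv) k2))

/-- the subgroup `{0, d}` -/
def tw (two : ∀ v : V, v + v = 0) (d : V) : AddSubgroup V where
  carrier := {z | z = 0 ∨ z = d}
  add_mem' := by rintro _ _ (rfl | rfl) (rfl | rfl) <;> simp [two]
  zero_mem' := Or.inl rfl
  neg_mem' := by rintro _ (rfl | rfl) <;> simp [neg_eq_of_add_eq_zero_left (two _)]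

/-- fixed points -/
def fx (V : Type*) [AddCommGroup V] [DistribMulAction Γ V] (g : Γ) : AddSubgroup V where
  carrier := {z | g • z = z}
  add_mem' {a b} (ha : g • a = a) (hb : g • b = b) := show g • (a + b) = a + b by
    rw [smul_add, ha, hb]
  zero_mem' := smul_zero g
  neg_mem' {a} (ha : g • a = a) := show g • (-a) = -a by rw [smul_neg, ha]

theorem dbl [Finite V] {A B : AddSubgroup V} (h : A ≤ B) {b : V} (h1 : b ∈ B) (h2 : b ∉ A) :
    2 * Nat.card A ≤ Nat.card B := by
  obtain ⟨k, hk⟩ := AddSubgroup.card_dvd_of_le h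
  have h3 : 0 < Nat.card B := Nat.card_pos
  have h4 : k ≠ 1 := by
    rintro rfl
    exact h2 (AddSubgroup.eq_of_le_of_card_ge h (by omega) ▸ h1)
  have h5 : k ≠ 0 := by rintro rfl; omega
  rw [hk, mul_comm]
  exact Nat.mul_le_mul_left _ (by omega)

theorem inv_closure {S : Set V} {g : Γ} (h : ∀ s ∈ S, g • s ∈ AddSubgroup.closure S) {y : V}
    (hy : y ∈ AddSubgroup.closure S) : g • y ∈ AddSubgroup.closure S :=
  (AddSubgroup.closure_le (K := (AddSubgroup.closure S).comap (DistribSMul.toAddMonoidHom V g))).2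
    h hy

theorem pow_coset {Y : AddSubgroup V} {g : Γ} (h : ∀ y ∈ Y, g • y ∈ Y) {v : V}
    (hv : g • v - v ∈ Y) (n : ℕ) : g ^ n • v - v ∈ Y := by
  induction n with
  | zero => simp
  | succ n ih =>
    have := Y.add_mem (h _ ih) hv
    rwa [smul_sub, smul_smul, ← pow_succ', sub_add_sub_cancel] at this

theorem three_dvd [Finite Γ] {Y : AddSubgroup V} {g : Γ} (h : ∀ y ∈ Y, g • y ∈ Y) {a b c : V}
    (h1 : g • a - b ∈ Y) (h2 : g • b - c ∈ Y) (h3 : g • c - a ∈ Y) (h4 : b - a ∉ Y)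
    (h5 : c - a ∉ Y) : 3 ∣ orderOf g := by
  have e2 : g • g • a - c ∈ Y := by
    have := Y.add_mem (h _ h1) h2
    rwa [smul_sub, sub_add_sub_cancel] at this
  have e3 : g ^ 3 • a - a ∈ Y := by
    have := Y.add_mem (h _ e2) h3
    rwa [smul_sub, sub_add_sub_cancel, smul_smul, smul_smul, ← pow_three'] at this
  have h' : ∀ y ∈ Y, g ^ 3 • y ∈ Y := fun y hy => by
    rw [pow_three, mul_smul, mul_smul]; exact h _ (h _ (h _ hy))
  have e4 := pow_coset h' e3 (orderOf g / 3)
  have e5 := pow_orderOf_eq_one g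
  rw [← pow_mul] at e4
  by_contra h6
  rcases show orderOf g = 3 * (orderOf g / 3) + 1 ∨ orderOf g = 3 * (orderOf g / 3) + 1 + 1 by
    omega with h7 | h7 <;> rw [h7] at e5
  · have := Y.add_mem (h _ e4) h1
    rw [smul_sub, sub_add_sub_cancel, smul_smul, ← pow_succ', e5, one_smul] at this
    exact h4 (by simpa using Y.neg_mem this)
  · have := Y.add_mem (h _ (h _ e4)) e2
    rw [smul_sub, smul_sub, sub_add_sub_cancel, smul_smul, smul_smul, mul_assoc, ← pow_succ',
      ← pow_succ', e5, one_smul] at this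
    exact h5 (by simpa using Y.neg_mem this)

theorem fin [Finite Γ] [Finite V] (two : ∀ v : V, v + v = 0)
    (rank : ∀ h : Γ, h ≠ 1 → h ^ 3 = 1 → Nat.card (fx V h) ≤ 16)
    {x y t r : Γ} (hxy : Commute x y) (hty : Commute t y) (rx : Commute r x)
    (ry : r * y * r⁻¹ = y * x) (x3 : x ^ 3 = 1) (y3 : y ^ 3 = 1) (r3 : r ^ 3 = 1) {u d e : V}
    (u0 : u ≠ 0) (xu : x • u = u) (yu : y • u = u) (ru : r • u ≠ u) (tu : t • u = u)
    (hU : ∀ v : V, x • v = v → y • v = v → v ≠ 0 → v ≠ u → t • v = v + u + d)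
    (d0 : d ≠ 0) (yd : y • d = d) (pd : P x d = 0) (td : t • d = d) (td' : t • x • d = x • d + u)
    (e0 : e ≠ 0) (xe : x • e = e) (pe : P y e = 0) (hAB : AB V t y x) : False := by
  have neg : ∀ v : V, -v = v := fun v => neg_eq_of_add_eq_zero_left (two v)
  have sub : ∀ v w : V, v - w = v + w := fun v w => by rw [sub_eq_add_neg, neg]
  have inv : ∀ {g : Γ} {v : V}, g • v = v → g⁻¹ • v = v := fun h => inv_smul_eq_iff.2 h.symm
  have Pfix : ∀ {g : Γ} {v : V}, g • v = v → P g v = v := fun h => by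
    rw [P_apply, h, inv h, two, zero_add]
  have xx : x * x = x⁻¹ := eq_inv_of_mul_eq_one_left (by rw [← x3, pow_three'])
  have rr : r⁻¹ = r * r := (eq_inv_of_mul_eq_one_left (by rw [← r3, pow_three'])).symm
  have rrr : ∀ v : V, r • r • r • v = v := fun v => by
    rw [smul_smul, smul_smul, ← pow_three', r3, one_smul]
  have yr : ∀ v : V, y • r • v = r • y • x⁻¹ • v := fun v => by
    simp only [smul_smul]
    rw [← mul_assoc, eq_mul_inv_iff_mul_eq.2 (show y * r * x = r * y by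
      rw [mul_assoc, rx.eq, ← mul_assoc, ← ry]; group)]
  have yr' : ∀ v : V, y⁻¹ • r • v = r • y⁻¹ • x • v := fun v => by
    rw [inv_smul_eq_iff, yr, smul_smul x⁻¹, hxy.inv_inv.eq, mul_smul, smul_inv_smul, inv_smul_smul]
  have xr : ∀ v : V, x • r • v = r • x • v := fun v => by rw [smul_smul, ← rx.eq, mul_smul]
  have xy : ∀ v : V, x • y • v = y • x • v := fun v => by rw [smul_smul, hxy.eq, mul_smul]
  have D23 : ∀ v : V, y • v = v → P x v = 0 → (x * y) • r • v = r • v ∧ P y (r • v) = 0 := by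
    intro v h1 h2
    have h3 : y • x⁻¹ • v = x⁻¹ • v := by rw [smul_smul, ← hxy.inv_left.eq, mul_smul, h1]
    have h4 : y⁻¹ • x • v = x • v := inv (by rw [← xy, h1])
    refine ⟨by rw [mul_smul, yr, xr, h3, smul_inv_smul], ?_⟩
    rw [P_apply, yr, yr', h3, h4, ← smul_add, ← smul_add, add_right_comm, ← P_apply, h2, smul_zero]
  have D34 : ∀ v : V, (x * y) • v = v → P y v = 0 →
      (x * y⁻¹) • r • v = r • v ∧ P y (r • v) = 0 := by
    intro v h1 h2
    have h3 : x • v = y⁻¹ • v := by rw [eq_inv_smul_iff, ← xy, ← mul_smul, h1]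
    have h4 : x⁻¹ • v = y • v := by rw [inv_smul_eq_iff, ← mul_smul, h1]
    have yy : y * y = y⁻¹ := eq_inv_of_mul_eq_one_left (by rw [← y3, pow_three'])
    have h5 : y⁻¹ • x • v = y • v := by
      rw [h3, smul_smul, ← yy]; nth_rw 2 [yy]; rw [mul_inv_cancel_right]
    refine ⟨by rw [mul_smul, yr', xr, h5, ← mul_smul x, h1], ?_⟩
    rw [P_apply, yr, yr', h5, h4, smul_smul y, yy, ← smul_add, ← smul_add, add_right_comm,
      ← P_apply, h2, smul_zero]
  have D11 : ∀ v : V, x • v = v → P y v = 0 → x • r • v = r • v ∧ P y (r • v) = 0 := by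
    intro v h1 h2
    refine ⟨by rw [xr, h1], ?_⟩
    rw [P_apply, yr, yr', h1, inv h1, ← smul_add, ← smul_add, ← P_apply, h2, smul_zero]
  have zero : ∀ {g : Γ} {v : V}, g • v = v → P g v = 0 → v = 0 := fun h1 h2 => (Pfix h1).symm.trans h2
  have yd' : y • x • d = x • d := by rw [← xy, yd]
  have pd' : P x (x • d) = 0 := by rw [P_smul (Commute.refl x), pd, smul_zero]
  have xd : x • d ≠ d := fun h => d0 (zero h pd)
  obtain ⟨a3, b3⟩ := D23 d yd pd
  obtain ⟨a3', b3'⟩ := D23 _ yd' pd'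
  obtain ⟨a4, b4⟩ := D34 _ a3 b3
  obtain ⟨a4', b4'⟩ := D34 _ a3' b3'
  have xu' : x • r • u = r • u := by rw [xr, xu]
  have yu' : y • r • u = r • u := by rw [yr, inv xu, yu]
  have ht3 : ∀ v : V, (r * t * r⁻¹) • r • v = r • t • v := fun v => by
    rw [mul_smul, inv_smul_smul, mul_smul]
  have ht3' : ∀ v : V, (r * t * r⁻¹) • v = r • t • r • r • v := fun v => by
    rw [← ht3, rrr]
  have tb : t • r • u = r • u + u + d := hU _ xu' yu' (by simpa [smul_eq_zero_iff_eq]) ru
  have ta : (r * t * r⁻¹) • u = u + r • u + r • d := by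
    rw [ht3', hU (r • r • u) (by rw [xr, xu']) (by rw [yr, inv xu', yu'])
      (by simpa [smul_eq_zero_iff_eq])
      (fun h => ru (by rw [← h, rrr, h])), smul_add, smul_add, rrr]
  have tb3 : (r * t * r⁻¹) • r • u = r • u := by rw [ht3, tu]
  have td3 : (r * t * r⁻¹) • r • d = r • d := by rw [ht3, td]
  generalize hs : r * t * r⁻¹ = s at *
  -- the subgroup of `D1` fixed by `t` and `s`
  let E : AddSubgroup V := fx V x ⊓ (P y).ker ⊓ fx V t ⊓ fx V s
  have hE : ∀ v : V, P y v = 0 → (v + t • v ∈ E ∧ r • v + s • r • v ∈ E) ∨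
      ¬ ((x * y) • v = v ∨ (x * y⁻¹) • v = v) := fun v hv => by
    rcases hAB with ⟨k1, k2⟩ | ⟨k1, k2⟩
    · refine or_iff_not_imp_right.2 fun h => ?_
      have : t • v = v := (not_not.1 h).elim (k1 v · hv) (k2 v · hv)
      rw [ht3, this, two, two]
      exact ⟨E.zero_mem, E.zero_mem⟩
    · have h0 : ∀ w : V, x • w = w → P y w = 0 → w ∈ E := fun w h1 h2 => by
        obtain ⟨h3, h4⟩ := D11 w h1 h2
        obtain ⟨h5, h6⟩ := D11 _ h3 h4
        exact ⟨⟨⟨h1, h2⟩, k1 w h1 h2⟩, show s • w = w by rw [ht3', k1 _ h5 h6, rrr]⟩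
      have h1 : P y (v + t • v) = 0 := by rw [map_add, P_smul hty, hv, smul_zero, add_zero]
      obtain ⟨h2, h3⟩ := D11 _ (k2 v hv) h1
      exact Or.inl ⟨h0 _ (k2 v hv) h1, by rw [ht3, ← smul_add]; exact h0 _ h2 h3⟩
  obtain ⟨E3, E3r⟩ := (hE _ b3).resolve_right (not_not.2 (Or.inl a3))
  obtain ⟨E3', E3r'⟩ := (hE _ b3').resolve_right (not_not.2 (Or.inl a3'))
  obtain ⟨E4, E4r⟩ := (hE _ b4).resolve_right (not_not.2 (Or.inr a4))
  obtain ⟨E4', E4r'⟩ := (hE _ b4').resolve_right (not_not.2 (Or.inr a4'))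
  rw [rrr] at E4r E4r'
  have gE : ∀ v ∈ E, (t * s) • v = v := fun v hv => by rw [mul_smul, hv.2, hv.1.2]
  have h3 : 3 ∣ orderOf (t * s) := by
    let Y := AddSubgroup.closure ((E : Set V) ∪ {d, r • d})
    have m0 : ∀ v ∈ E, v ∈ Y := fun v hv => AddSubgroup.subset_closure (Or.inl hv)
    have m1 : d ∈ Y := AddSubgroup.subset_closure (by simp)
    have m2 : r • d ∈ Y := AddSubgroup.subset_closure (by simp)
    have m3 : t • r • d ∈ Y := by simpa using Y.sub_mem (m0 _ E3) m2
    have i1 : ∀ v ∈ Y, t • v ∈ Y := fun v => inv_closure (by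
      rintro v (hv | rfl | rfl)
      · rw [hv.1.2]; exact m0 v hv
      · rwa [td]
      · exact m3)
    have i2 : ∀ v ∈ Y, s • v ∈ Y := fun v => inv_closure (by
      rintro v (hv | rfl | rfl)
      · rw [hv.2]; exact m0 v hv
      · have := Y.sub_mem (m0 _ E4r) m1
        rwa [add_sub_cancel_left] at this
      · rwa [td3])
    have hY : ∀ v ∈ Y, x • v = v → y • v = v → v = 0 := fun v hv h1 h2 => by
      have : Y ≤ ((P x).comp (P y)).ker := (AddSubgroup.closure_le _).2 (by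
        rintro v (hv | rfl | rfl)
        · exact show P x (P y v) = 0 by rw [hv.1.1.2, map_zero]
        · exact show P x (P y v) = 0 by rw [Pfix yd, pd]
        · exact show P x (P y (r • d)) = 0 by rw [b3, map_zero])
      have h3 : P x (P y v) = 0 := this hv
      rwa [Pfix h2, Pfix h1] at h3
    refine three_dvd (Y := Y) (fun v hv => by rw [mul_smul]; exact i1 _ (i2 _ hv)) (a := u)
      (b := r • u) (c := u + r • u) ?_ ?_ ?_ (fun h => ru (sub_eq_zero.1 (hY _ h ?_ ?_)))
      fun h => u0 (by simpa [smul_eq_zero_iff_eq] using hY _ (by simpa using h) xu' yu')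
    · convert Y.add_mem m1 m3 using 1
      rw [mul_smul, ta, smul_add, smul_add, tu, tb]
      linear_combination (norm := abel) two u
    · convert m1 using 1
      rw [mul_smul, tb3, tb]; abel
    · convert m3 using 1
      rw [mul_smul, smul_add, ta, tb3, add_right_comm, add_assoc u, two, add_zero, smul_add, tu]
      abel
    · rw [smul_sub, xu, xu']
    · rw [smul_sub, yu, yu']
  obtain ⟨n, hn⟩ := h3
  have n0 : 0 < n := Nat.pos_of_ne_zero (by rintro rfl; exact (orderOf_pos _).ne' hn)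
  have h1 : (t * s) ^ n ≠ 1 := pow_ne_one_of_lt_orderOf n0.ne' (by omega)
  have h2 : ((t * s) ^ n) ^ 3 = 1 := by rw [← pow_mul, mul_comm, ← hn, pow_orderOf_eq_one]
  have hr := rank _ h1 h2
  have fE : ∀ v ∈ E, (t * s) ^ n • v = v := fun v hv => by
    simpa [sub_eq_zero] using pow_coset (Y := ⊥) (g := t * s) (by simp) (by simp [gE v hv]) n
  have fM : ∀ v : V, v + t • v ∈ E → v + s • v ∈ E → v ∈ fx V ((t * s) ^ n) := fun v k1 k2 => by
    have k3 := pow_coset (Y := E) (g := t * s) (fun v hv => by rwa [gE v hv]) (v := v) (by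
      have := E.add_mem k1 k2
      have k4 : t • (v + s • v) = v + s • v := k2.1.2
      rw [smul_add] at k4
      convert this using 1
      rw [mul_smul]
      linear_combination (norm := abel) k4 - two v - two (t • v)) n
    have k4 := fE _ k3
    have k5 : (t * s) ^ n • (t * s) ^ n • (t * s) ^ n • v = v := by
      rw [smul_smul, smul_smul, ← pow_three', h2, one_smul]
    have k6 := congrArg ((t * s) ^ n • ·) k4
    simp only [smul_sub] at k4 k6
    show (t * s) ^ n • v = v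
    linear_combination (norm := abel) k5 - k6 - k4 - k4 - two ((t * s) ^ n • v) + two v
  have f2 := fM d (by rw [td, two]; exact E.zero_mem) E4r
  have f3 := fM _ E3 (by rw [td3, two]; exact E.zero_mem)
  have f4 := fM _ E4 E3r
  have f4' := fM _ E4' E3r'
  have Q0 : ∀ {v : V}, x • v = v → v + P x v = 0 := fun h => by rw [Pfix h, two]
  have Q4 : ∀ {v : V}, (x * y⁻¹) • v = v → P y v = 0 → P x v = 0 := fun {v} k1 k2 => by
    have k3 : x⁻¹ • v = y⁻¹ • v := by rw [inv_smul_eq_iff, ← mul_smul, k1]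
    have k4 : x • v = y • v := by
      rw [← inv_smul_eq_iff, smul_smul, ← hxy.inv_right.eq, k1]
    rw [P_apply, k3, k4, ← P_apply, k2]
  have c0 : ∀ v : V, v ≠ 0 → 2 ≤ Nat.card (tw two v) := fun v hv => by
    simpa using dbl (A := ⊥) (B := tw two v) bot_le (Or.inr rfl) hv
  have ne4 : ¬ (r • r • x • d = 0 ∨ r • r • x • d = r • r • d) := by
    simp [d0, xd, smul_eq_zero_iff_eq]
  rcases hAB with ⟨k1, k2⟩ | ⟨k1, -⟩
  · let φ : V →+ V := (AddMonoidHom.id V + P x).comp (P y)
    have hφ : ∀ v, φ v = P y v + P x (P y v) := fun _ => rfl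
    let Y := AddSubgroup.closure {u, r • u, d, r • d, r • r • d, r • r • x • d}
    have m1 : u ∈ Y := AddSubgroup.subset_closure (by simp)
    have m2 : r • u ∈ Y := AddSubgroup.subset_closure (by simp)
    have m3 : d ∈ Y := AddSubgroup.subset_closure (by simp)
    have m4 : r • d ∈ Y := AddSubgroup.subset_closure (by simp)
    have m5 : r • r • d ∈ Y := AddSubgroup.subset_closure (by simp)
    have m6 : r • r • x • d ∈ Y := AddSubgroup.subset_closure (by simp)
    have i1 : ∀ v ∈ Y, t • v ∈ Y := fun v => inv_closure (by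
      rintro v (rfl | rfl | rfl | rfl | rfl | rfl)
      · rwa [tu]
      · rw [tb]; exact Y.add_mem (Y.add_mem m2 m1) m3
      · rwa [td]
      · rwa [k1 _ a3 b3]
      · rwa [k2 _ a4 b4]
      · rwa [k2 _ a4' b4'])
    have i2 : ∀ v ∈ Y, s • v ∈ Y := fun v => inv_closure (by
      rintro v (rfl | rfl | rfl | rfl | rfl | rfl)
      · rw [ta]; exact Y.add_mem (Y.add_mem m1 m2) m4
      · rwa [tb3]
      · rwa [ht3', k2 _ a4 b4, rrr]
      · rwa [td3]
      · rwa [ht3, k1 _ a3 b3]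
      · rwa [ht3, k1 _ a3' b3'])
    have hY : Y ≤ (tw two d).comap φ := (AddSubgroup.closure_le _).2 (by
      rintro v (rfl | rfl | rfl | rfl | rfl | rfl)
      · exact Or.inl (by rw [hφ, Pfix yu, Q0 xu])
      · exact Or.inl (by rw [hφ, Pfix yu', Q0 xu'])
      · exact Or.inr (by rw [hφ, Pfix yd, pd, add_zero])
      · exact Or.inl (by rw [hφ, b3, map_zero, add_zero])
      · exact Or.inl (by rw [hφ, b4, map_zero, add_zero])
      · exact Or.inl (by rw [hφ, b4', map_zero, add_zero]))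
    have j1 : ∀ v ∈ Y, (t * s) • v ∈ Y := fun v hv => by rw [mul_smul]; exact i1 _ (i2 _ hv)
    have j2 : (t * s) • x • d - x • d ∈ Y := by
      rw [mul_smul, ht3', k2 _ a4' b4', rrr, td', add_sub_cancel_left]; exact m1
    have j3 := pow_coset j1 j2 n
    have j4 := pow_coset j1 j2 (n + n)
    rw [pow_add, eq_inv_of_mul_eq_one_left (show (t * s) ^ n * (t * s) ^ n * (t * s) ^ n = 1 by
      rw [← pow_three', h2])] at j4
    have s5 := dbl (A := fx V ((t * s) ^ n) ⊓ (tw two d).comap φ) inf_le_left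
      (b := P ((t * s) ^ n) (x • d)) (smul_P h2 _) fun h => by
        have h5 := ((tw two d).comap φ).sub_mem h.2 (hY (Y.add_mem j3 j4))
        rw [show P ((t * s) ^ n) (x • d) - ((t * s) ^ n • x • d - x • d +
          (((t * s) ^ n)⁻¹ • x • d - x • d)) = x • d by
            rw [P_apply]; linear_combination (norm := abel) two (x • d)] at h5
        have h6 : φ (x • d) = 0 ∨ φ (x • d) = d := h5
        rw [hφ, Pfix yd', pd', add_zero] at h6
        exact h6.elim (by simpa [smul_eq_zero_iff_eq]) xd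
    have s4 := dbl (A := fx V ((t * s) ^ n) ⊓ (P y).ker)
      (B := fx V ((t * s) ^ n) ⊓ (tw two d).comap φ)
      (inf_le_inf_left _ fun v (hv : P y v = 0) => Or.inl (by rw [hφ, hv, map_zero, add_zero]))
      ⟨f2, hY m3⟩ fun h => d0 (zero yd h.2)
    have s3 := dbl (A := fx V ((t * s) ^ n) ⊓ (P y).ker ⊓ fx V (x * y⁻¹)) inf_le_left ⟨f3, b3⟩
      fun h => by
        have h5 : (x * y⁻¹) • r • d = r • d := h.2
        have h6 : y⁻¹ • r • d = y • r • d := by
          rw [← smul_left_cancel_iff x, ← mul_smul x, ← mul_smul x, h5, a3]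
        rw [P_apply, h6, add_assoc, two, add_zero] at b3
        exact d0 (by simpa [smul_eq_zero_iff_eq] using b3)
    have s2 := dbl (A := tw two (r • r • d))
      (B := fx V ((t * s) ^ n) ⊓ (P y).ker ⊓ fx V (x * y⁻¹))
      (by rintro _ (rfl | rfl); exacts [zero_mem _, ⟨⟨f4, b4⟩, a4⟩]) ⟨⟨f4', b4'⟩, a4'⟩ ne4
    have := c0 (r • r • d) (by simpa [smul_eq_zero_iff_eq])
    omega
  · have h0 : ∀ w : V, x • w = w → P y w = 0 → w ∈ fx V ((t * s) ^ n) := fun w h1 h2 => by
      obtain ⟨h3, h4⟩ := D11 w h1 h2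
      obtain ⟨h5, h6⟩ := D11 _ h3 h4
      exact fE w ⟨⟨⟨h1, h2⟩, k1 w h1 h2⟩, show s • w = w by rw [ht3', k1 _ h5 h6, rrr]⟩
    let φ : V →+ V := AddMonoidHom.id V + P x
    have hφ : ∀ v, φ v = v + P x v := fun _ => rfl
    have s5 := dbl (A := fx V ((t * s) ^ n) ⊓ (P y).ker) inf_le_left f2 fun h => d0 (zero yd h.2)
    have s4 := dbl (A := fx V ((t * s) ^ n) ⊓ (P y).ker ⊓ (tw two (r • r • d)).comap φ) inf_le_left
      ⟨f4', b4'⟩ fun h => by
        have h6 : φ (r • r • x • d) = 0 ∨ φ (r • r • x • d) = r • r • d := h.2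
        rw [hφ, Q4 a4' b4', add_zero] at h6
        exact ne4 h6
    have s3 := dbl (A := fx V ((t * s) ^ n) ⊓ (P y).ker ⊓ fx V x)
      (B := fx V ((t * s) ^ n) ⊓ (P y).ker ⊓ (tw two (r • r • d)).comap φ)
      (inf_le_inf_left _ fun v (hv : x • v = v) => Or.inl (by rw [hφ, Q0 hv]))
      ⟨⟨f4, b4⟩, Or.inr (by rw [hφ, Q4 a4 b4, add_zero])⟩
      fun h => d0 (by simpa [smul_eq_zero_iff_eq] using zero (g := x) h.2 (Q4 a4 b4))
    have xe' : x • y • e = y • e := by rw [xy, xe]
    have pe' : P y (y • e) = 0 := by rw [P_smul (Commute.refl y), pe, smul_zero]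
    have s2 := dbl (A := tw two e) (B := fx V ((t * s) ^ n) ⊓ (P y).ker ⊓ fx V x)
      (by rintro _ (rfl | rfl); exacts [zero_mem _, ⟨⟨h0 _ xe pe, pe⟩, xe⟩])
      ⟨⟨h0 _ xe' pe', pe'⟩, xe'⟩ (by
        rintro (h | h)
        · exact e0 (by simpa [smul_eq_zero_iff_eq] using h)
        · exact e0 (zero h pe))
    have := c0 e e0
    omega

end CfsgLib.J4X.Al
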