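import Mathlib
import Cfsg.Agent.Lib.J4X.Defs
import Cfsg.Agent.Lib.J4T.DD
import Cfsg.Agent.Lib.J4T.ExGen

/-!
# Facts on `M22` and `M22.2` near the Sylow 3-subgroup
-/

set_option autoImplicit false

namespace CfsgLib.J4X

open Cfsg CfsgLib.Golay CfsgLib.M24E CfsgLib.J4T CfsgLib.J4T.G3 Subgroup
open scoped Pointwise

/-- involution of `M22` inverting `qA` and `qB`; fixes `uE 0..3`, swaps `uE 6, uE 7` -/
def qS : ℕ := 0xbd9d43846f8552c129a8994c48ae40
/-- outer involution inverting `qA`; fixes `uE 0..7`, `[F, qI] = ⟨uE 3⟩` -/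
def qI : ℕ := 0x58343ba307c92c291a89896a19ab7
/-- maps `qA` to `qB`, `qB` to `qA⁻¹`; moves the octad `o0` -/
def qK : ℕ := 0xbd9d233481a41e28cd2a2a0e35b2a0
/-- maps `qA` to `qA qB`, `qB` to `qA qB²` -/
def qL : ℕ := 0xbd935650ef0c1b3312511ac45429c0
/-- the six involutions `g ∉ F` of `C(uE 1)` with `g g^qA g^(qA⁻¹) = 1`: `qA` permutes `0 → 1 → 2 → 0`, `3 → 5 → 4 → 3`;
`uE 6`, `uE 7` swap `i ↔ 5 - i`; `qS` swaps `0 ↔ 2`, `3 ↔ 5` -/
def sg (i : ℕ) : ℕ := [0xba64d4562f83a87312d362caa18820, 0xbd2563d63078528329ac9ac44195c0,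
  0xbb6a964a2f806d3592874184a195c0, 0xbd8689c64e0c1ac590f44984aa95e0, 0xbd8346ba111ca6c328e84ac44796a0,
  0xbd9e86c1d2ac66c311343acaa08860].getD i idq

theorem is22_S : is22 qS = true := by decide +kernel
theorem is22_K : is22 qK = true := by decide +kernel
theorem is22_L : is22 qL = true := by decide +kernel
theorem is22_A : is22 qA = true := by decide +kernel
theorem is22_B : is22 qB = true := by decide +kernel
theorem isM_I : isM qI = true := by decide +kernel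
theorem I_DD : pm qI ∈ DD := pm_mem_DD isM_I (by decide +kernel)
theorem I_outer : pm qI (pt 0) ≠ pt 0 := fun h =>
  absurd (((pm_rp isM_I).pt_eq_iff (by norm_num) (by norm_num)).1 h) (by decide +kernel)
theorem is22_sg {i : ℕ} (hi : i < 6) : is22 (sg i) = true :=
  of_allLT (n := 6) (f := fun i => is22 (sg i)) (by decide +kernel) hi
theorem is22_uE {i : ℕ} (hi : i < 16) : is22 (uE i) = true :=
  of_allLT (n := 16) (f := fun i => is22 (uE i)) (by decide +kernel) hi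

/-- search in the centraliser of `pm t` in `DD` (`v` maps `0..4` to a good base, `vi` is its inverse) -/
noncomputable def cS (v vi t : ℕ) (good : ℕ → Bool) : Bool :=
  asearch vi (okAnd (okS (ap v) 8388609 8388609) (okI (ap v) (ap t) (ap t)))
    fun φ => or (not (and (setTo φ 8388609 8388609) (intw φ (ap t) (ap t)))) (frc (mk φ) good)

theorem cS_spec {v vi t : ℕ} (hB : chkB v vi = true) (ht : isM t = true) {good : ℕ → Bool}
    (h : cS v vi t good = true) {g : P24} (hg : g ∈ DD) (hc : g * pm t = pm t * g) :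
    ∃ q, Rp (ap q) g ∧ good q = true := by
  have hr := pm_rp ht
  refine all_of_search (P := fun g => g • ofMask 8388609 = ofMask 8388609 ∧ g * pm t = pm t * g)
    (Q := fun g => ∃ q, Rp (ap q) g ∧ good q = true) hB
    ((sound_okS (chkB_lt hB) fun _ _ h => h.1).and (sound_okI (chkB_lt hB) hr hr fun _ _ h => h.2)) ?_ h g hg.1
    ⟨hg.2, hc⟩
  intro g _ hP φ hφ h
  rw [(hφ.intw_iff hr hr).2 hP.2, (hφ.setFix_iff _).2 hP.1, Bool.and_self, Bool.not_true, Bool.false_or,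
    frc_eq] at h
  exact ⟨_, hφ.mk, h⟩

/-- base for `qA` -/
def vA : ℕ := 0xb39aa4419235cf1292695d062abc20
/-- inverse of `vA` -/
def vAi : ℕ := 0x75c664c19215ab13d1136bd6a29020
/-- base for `uE 1` -/
def vU : ℕ := 0x9917552250a18f7495f6135911b820
/-- inverse of `vU` -/
def vUi : ℕ := 0x6228fbc490488c5acd726b95619c20

theorem chkB_A : chkB vA vAi = true := by decide +kernel
theorem chkB_U : chkB vU vUi = true := by decide +kernel

/-- enumeration of the centraliser of `qA` (72 elements) -/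
theorem cA_spec {good : ℕ → Bool} (h : cS vA vAi qA good = true) {g : P24} (hg : g ∈ DD)
    (hc : g * pm qA = pm qA * g) : ∃ q, Rp (ap q) g ∧ good q = true := cS_spec chkB_A isM_A h hg hc

/-- enumeration of the centraliser of `uE 1` (768 elements) -/
theorem cU_spec {good : ℕ → Bool} (h : cS vU vUi (uE 1) good = true) {g : P24} (hg : g ∈ DD)
    (hc : g * pm (uE 1) = pm (uE 1) * g) : ∃ q, Rp (ap q) g ∧ good q = true :=
  cS_spec chkB_U (isM_uE (by norm_num)) h hg hc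

/-- conjugating elements -/
def c3L : List ℕ := [0xbb86a3d4c8132655be8d848968a420, 0xbb8c9604a350a1191c8f5d915a3660, 0xb964d48a2158e0e258cfad10a3b260,
  0xb9452a12760d5717a4ea331a874060, 0xb9543b4dcb41c32a104c819ed8d520, 0xbb9a22422c7c8763503599d0b2a540,
  0xb94c968a21a8d4e7d2445d8f044d80, 0xbbaad608a138ed18114ba48c87cd20, 0xbbea99521659db388d862044543940,
  0xba8d45a48d94ec788d1580445639e0, 0xbb9b2784a3408f14c26ca555659880, 0xbb21452e7641aad13a47244a148de0,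
  0xbba02b362ba20643bc33a9a4c2a920, 0xbc501518a75c04dacc6fb313275080, 0xbba54388a160d317a8866d573822c0,
  0xbcacaa20d05cce4139956c4a178d20, 0xbd0cc93ed34c0871394dac4a140d60, 0xbc64242cafb506c3b43534d2a71200,
  0xba5f21d0b03914e5b5020b2668daa0, 0xbaa5623ea8a4ccb14527615c180da0, 0xbd9ed440d592a6970d943845159480,
  0xbb5049c28a3adf288ccc48445abac0, 0xbc6c9609c120de5a28e832e12ab660, 0xbba8d48ca2305f13aec89560453260]

theorem inner_of_three {g : P24} (hg : g ∈ DD) (h3 : g ^ 3 = 1) : g (pt 0) = pt 0 := by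
  by_contra h
  obtain ⟨h1, h2⟩ := DD_swap hg h
  have := congrArg (fun f : P24 => f (pt 0)) h3
  simp only [pow_three, Equiv.Perm.mul_apply, h1, h2, Equiv.Perm.one_apply] at this
  exact pt0_ne this.symm

/-- one class of elements of order 3 in `M22` -/
theorem class3 {g : P24} (hg : g ∈ DD) (h3 : g ^ 3 = 1) (h1 : g ≠ 1) :
    ∃ r ∈ DD, r (pt 0) = pt 0 ∧ r * pm qA * r⁻¹ = g := by
  have h0 := inner_of_three hg h3
  have h23 := DD_fix23 hg h0
  obtain ⟨p, hp, hp'⟩ := exists_moved (DD_le hg) h1 [pt 0, pt 23] (by decide) (by simp)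
  simp only [List.mem_cons, List.not_mem_nil, or_false, not_or] at hp
  have hgg : g (g (g p)) = p := by
    have := congrArg (fun f : P24 => f p) h3
    simpa only [pow_three, Equiv.Perm.mul_apply, Equiv.Perm.one_apply] using this
  have n1 : ∀ q, g q = q → p ≠ q → g p ≠ q ∧ g (g p) ≠ q := fun q hq h =>
    ⟨fun e => h (g.injective (e.trans hq.symm)),
      fun e => h (g.injective (g.injective (e.trans (by rw [hq, hq]))))⟩
  have n2 : g (g p) ≠ g p := fun e => hp' (g.injective e)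
  have n3 : g (g p) ≠ p := fun e => hp' (by rw [e] at hgg; exact hgg)
  have hnd : [pt 0, pt 23, p, g p, g (g p)].Nodup := by
    simp [pt0_ne, Ne.symm hp.1, Ne.symm hp.2, (n1 _ h0 hp.1).1.symm, (n1 _ h0 hp.1).2.symm,
      (n1 _ h23 hp.2).1.symm, (n1 _ h23 hp.2).2.symm, hp'.symm, n2.symm, n3.symm]
  obtain ⟨k, hk, h4⟩ := list_trans _ [pt 0, pt 23, pt 1, pt 2, pt 3] hnd (by decide) (by simp) rfl
  simp only [List.map_cons, List.map_nil, List.cons.injEq, and_true] at h4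
  obtain ⟨e0, e1, e2, e3, e4⟩ := h4
  have hkD : k ∈ DD := mem_DD.2 ⟨hk, Or.inl ⟨e0, e1⟩⟩
  have hB' : chkB 0x4c168ab2879aa5123ac62b5e3106e0 0xa6717b5962a8d2abaf4820eb20c40 = true := by decide +kernel
  have hc := chkB_lt hB'
  obtain ⟨r, hr, hr0, hr1⟩ := all_of_search (P := fun g => g ^ 3 = 1 ∧ g (pt 0) = pt 0 ∧ g (pt 23) = pt 23 ∧
      g (pt 1) = pt 2 ∧ g (pt 2) = pt 3 ∧ g (pt 3) = pt 1)
    (Q := fun g => ∃ r ∈ DD, r (pt 0) = pt 0 ∧ r * pm qA * r⁻¹ = g) hB'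
    (((sound_okPt hc (by norm_num) (by norm_num) fun _ _ h => h.2.1).and
      (sound_okPt hc (by norm_num) (by norm_num) fun _ _ h => h.2.2.1)).and
      ((sound_okPt hc (by norm_num) (by norm_num) fun _ _ h => h.2.2.2.1).and
        ((sound_okPt hc (by norm_num) (by norm_num) fun _ _ h => h.2.2.2.2.1).and
          (sound_okPt hc (by norm_num) (by norm_num) fun _ _ h => h.2.2.2.2.2))))
    (good := fun φ => or (not (powId φ 3)) (pk (cj c3L qA) φ))
    (fun g _ hP φ hφ h => by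
      rw [(hφ.powId_iff 3).2 hP.1, Bool.not_true, Bool.false_or, pk_eq] at h
      exact cj22 (by decide +kernel) isM_A hφ.mk h) (by decide +kernel)
    (k * g * k⁻¹) (mul_mem (mul_mem hk (DD_le hg)) (inv_mem hk))
    ⟨by rw [conj_pow, h3]; simp, conj_apply e0 e0 h0, conj_apply e1 e1 h23, conj_apply e2 e3 rfl,
      conj_apply e3 e4 rfl, conj_apply e4 e2 hgg⟩
  refine ⟨k⁻¹ * r, mul_mem (inv_mem hkD) hr, ?_, ?_⟩
  · rw [Equiv.Perm.mul_apply, hr0, Equiv.Perm.inv_eq_iff_eq, e0]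
  · rw [mul_inv_rev, inv_inv, mul_assoc k⁻¹, mul_assoc k⁻¹, ← mul_assoc (r * _), hr1]; group

/-- value of a word -/
noncomputable def evL (L w : List ℕ) : ℕ :=
  List.rec idq (fun b _ ih => frc ih (M24E.cmp (L.getD b idq))) w

theorem evL_spec {S : Subgroup P24} {L : List ℕ} (h : ∀ q ∈ L, isM q = true ∧ pm q ∈ S) (w : List ℕ) :
    ∃ g ∈ S, Rp (ap (evL L w)) g := by
  induction w with
  | nil => exact ⟨1, one_mem _, rp_idq⟩
  | cons b w ih =>
    obtain ⟨g, hg, r⟩ := ih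
    have e : evL L (b :: w) = M24E.cmp (L.getD b idq) (evL L w) := frc_eq _ _
    rw [e]
    by_cases hb : b < L.length
    · have := h _ (List.getElem_mem hb)
      rw [List.getD_eq_getElem _ _ hb]
      exact ⟨_, mul_mem this.2 hg, (pm_rp this.1).cmp r⟩
    · rw [List.getD_eq_default _ _ (not_lt.1 hb)]
      exact ⟨_, mul_mem (one_mem _) hg, rp_idq.cmp r⟩

theorem pm_mem_of_evL {S : Subgroup P24} {L : List ℕ} (h : ∀ q ∈ L, isM q = true ∧ pm q ∈ S) {w : List ℕ} {q : ℕ}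
    (e : evL L w = q) : pm q ∈ S := by
  obtain ⟨g, hg, r⟩ := evL_spec h w
  rw [e] at r
  rwa [r.pm_eq]

/-- `M22 = ⟨qA, qB, uE 1, qK, qL⟩` -/
theorem gen_M22' {S : Subgroup P24} (h1 : pm qA ∈ S) (h2 : pm qB ∈ S) (h3 : pm (uE 1) ∈ S) (h4 : pm qK ∈ S)
    (h5 : pm qL ∈ S) {g : P24} (hg : g ∈ DD) (h0 : g (pt 0) = pt 0) : g ∈ S := by
  have h : ∀ q ∈ [qA, qB, uE 1, qK, qL], isM q = true ∧ pm q ∈ S := by
    simp only [List.mem_cons, List.not_mem_nil, or_false, forall_eq_or_imp, forall_eq]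
    exact ⟨⟨isM_A, h1⟩, ⟨isM_B, h2⟩, ⟨isM_uE (by norm_num), h3⟩, ⟨(is22_spec is22_K).1, h4⟩,
      (is22_spec is22_L).1, h5⟩
  exact gen_M22 (pm_mem_of_evL h (w := [3, 2, 3, 4, 2, 3, 4, 2, 3, 1, 2, 1, 0, 0]) (by decide +kernel))
    (pm_mem_of_evL h (w := [2, 4, 2, 3, 1, 2, 3, 1, 2, 4, 3, 2, 0, 0]) (by decide +kernel)) hg h0

/-! ### the hexad group -/

theorem rp_uE {i : ℕ} (hi : i < 16) : Rp (ap (uE i)) (pm (uE i)) := pm_rp (isM_uE hi)

theorem uE_mul {i j : ℕ} (hi : i < 16) (hj : j < 16) : pm (uE i) * pm (uE j) = pm (uE (i ^^^ j)) := by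
  have := (rp_uE hi).cmp (rp_uE hj)
  rw [uE_add hi hj] at this
  exact this.pm_eq.symm

theorem uE_one : pm (uE 0) = 1 := (rp_uE (by norm_num)).isId_iff.1 (by decide +kernel)

theorem uE_sq {i : ℕ} (hi : i < 16) : pm (uE i) * pm (uE i) = 1 := by rw [uE_mul hi hi, Nat.xor_self, uE_one]

theorem uE_comm {i j : ℕ} (hi : i < 16) (hj : j < 16) : pm (uE i) * pm (uE j) = pm (uE j) * pm (uE i) := by
  rw [uE_mul hi hj, uE_mul hj hi, Nat.xor_comm]

theorem uE_injective {i j : ℕ} (hi : i < 16) (hj : j < 16) (h : pm (uE i) = pm (uE j)) : i = j :=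
  uE_inj hi hj (by rw [(rp_uE hi).app (by norm_num), (rp_uE hj).app (by norm_num), h])

theorem uE_in {i : ℕ} (hi : i < 16) : pm (uE i) (pt 0) = pt 0 := (is22_spec (is22_uE hi)).2.2

theorem xor16 {i j : ℕ} (hi : i < 16) (hj : j < 16) : i ^^^ j < 16 := xor_lt (n := 4) hi hj

/-- test: `p` conjugates `uE i` to `uE (f i)` -/
noncomputable def actF (p : ℕ) (f : List ℕ) : Bool :=
  and (isM p) (allLT 16 fun i => and (Nat.blt (f.getD i 0) 16) (intw (ap p) (ap (uE i)) (ap (uE (f.getD i 0)))))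

theorem actF_spec {p : ℕ} {f : List ℕ} (h : actF p f = true) {i : ℕ} (hi : i < 16) :
    f.getD i 0 < 16 ∧ pm p * pm (uE i) * (pm p)⁻¹ = pm (uE (f.getD i 0)) := by
  rw [actF, Bool.and_eq_true] at h
  have h1 := of_allLT h.2 hi
  rw [Bool.and_eq_true, Nat.blt_eq] at h1
  exact ⟨h1.1, by rw [((pm_rp h.1).intw_iff (rp_uE hi) (rp_uE h1.1)).1 h1.2, mul_inv_cancel_right]⟩

/-- action of `qA` -/
def fA : List ℕ := [0, 1, 15, 14, 9, 8, 6, 7, 11, 10, 4, 5, 2, 3, 13, 12]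
/-- action of `qB` -/
def fB : List ℕ := [0, 7, 10, 13, 11, 12, 1, 6, 2, 5, 8, 15, 9, 14, 3, 4]
/-- action of `qS` -/
def fS : List ℕ := [0, 1, 2, 3, 5, 4, 7, 6, 10, 11, 8, 9, 15, 14, 13, 12]
/-- action of `qI` -/
def fI : List ℕ := [0, 1, 2, 3, 4, 5, 6, 7, 11, 10, 9, 8, 15, 14, 13, 12]
/-- action of `sg 1` -/
def fT : List ℕ := [0, 1, 2, 3, 6, 7, 4, 5, 11, 10, 9, 8, 13, 12, 15, 14]

theorem actF_A : actF qA fA = true := by decide +kernel
theorem actF_B : actF qB fB = true := by decide +kernel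
theorem actF_S : actF qS fS = true := by decide +kernel
theorem actF_I : actF qI fI = true := by decide +kernel
theorem actF_T : actF (sg 1) fT = true := by decide +kernel

theorem S_A : pm qS * pm qA * (pm qS)⁻¹ = (pm qA)⁻¹ := by
  have hs := pm_rp (is22_spec is22_S).1
  have ha := pm_rp isM_A
  have : pm qA * (pm qS * pm qA) = pm qS := (((ha.mul (hs.mul ha))).eqF_iff hs).1 (by decide +kernel)
  calc _ = (pm qA)⁻¹ * (pm qA * (pm qS * pm qA)) * (pm qS)⁻¹ := by group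
    _ = _ := by rw [this, mul_inv_cancel_right]

theorem uE_fix {i : ℕ} (hi : i < 16) : ∀ p ∈ ofMask o0, pm (uE i) p = p :=
  ((rp_uE hi).ptsFix_iff _).1 (of_allLT (n := 16) (f := fun i => ptsFix (ap (uE i)) o0) (by decide +kernel) hi)

theorem conj_uE {g : P24} (hg : g ∈ M24) (h : g • ofMask o0 = ofMask o0) {i : ℕ} (hi : i < 16) :
    ∃ j < 16, g * pm (uE i) * g⁻¹ = pm (uE j) := by
  refine fix_o0 (mul_mem (mul_mem hg (DD_le (uE_mem hi))) (inv_mem hg)) fun p hp => ?_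
  have : g⁻¹ p ∈ ofMask o0 := by rw [← smul_mem_smul' g, h, app_inv]; exact hp
  rw [Equiv.Perm.mul_apply, Equiv.Perm.mul_apply, uE_fix hi _ this, app_inv]

theorem stab_A : pm qA • ofMask o0 = ofMask o0 := ((pm_rp isM_A).setFix_iff _).1 (by decide +kernel)
theorem stab_B : pm qB • ofMask o0 = ofMask o0 := ((pm_rp isM_B).setFix_iff _).1 (by decide +kernel)

theorem exists_of_not_allLT {n : ℕ} {f : ℕ → Bool} (h : (not (allLT n fun i => not (f i))) = true) :
    ∃ i < n, f i = true := by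
  rw [Bool.not_eq_true', ← Bool.not_eq_true, allLT_iff] at h
  push Not at h
  obtain ⟨i, hi, h⟩ := h
  exact ⟨i, hi, by simpa using h⟩

/-- the centraliser of `qA` in `M22` -/
theorem centA {g : P24} (hg : g ∈ DD) (h0 : g (pt 0) = pt 0) (hc : g * pm qA = pm qA * g) :
    (∃ u ∈ [0, 1, 6, 7], ∃ i < 3, ∃ j < 3, g = pm (uE u) * (pm qA ^ i * pm qB ^ j)) ∧
      (g * g = 1 → ∃ u ∈ [0, 1, 6, 7], g = pm (uE u)) := by
  obtain ⟨q, hq, h⟩ := cA_spec (good := fun q => or (not (Nat.beq (ap q 0) 0))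
    (and (anyL [0, 1, 6, 7] fun u => not (allLT 3 fun i => not (not (allLT 3 fun j =>
        not (eqF (ap q) fun x => ap (uE u) (tF i j x))))))
      (or (not (isId fun x => ap q (ap q x))) (anyL [0, 1, 6, 7] fun u => eqF (ap q) (ap (uE u))))))
    (by decide +kernel) hg hc
  have hl : ∀ u ∈ [0, 1, 6, 7], u < 16 := by decide
  rw [beq_iff'.2 ((hq.pt_eq_iff (by norm_num) (by norm_num)).1 h0), Bool.not_true, Bool.false_or,
    Bool.and_eq_true] at h
  constructor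
  · obtain ⟨u, hu, h1⟩ := (anyL_iff _ _).1 h.1
    obtain ⟨i, hi, h2⟩ := exists_of_not_allLT h1
    obtain ⟨j, hj, h3⟩ := exists_of_not_allLT h2
    exact ⟨u, hu, i, hi, j, hj, (hq.eqF_iff ((rp_uE (hl u hu)).mul (rp_tF i j))).1 h3⟩
  · intro h2
    have h3 := h.2
    rw [(hq.mul hq).isId_iff.2 h2, Bool.not_true, Bool.false_or] at h3
    obtain ⟨u, hu, h1⟩ := (anyL_iff _ _).1 h3
    exact ⟨u, hu, (hq.eqF_iff (rp_uE (hl u hu))).1 h1⟩

/-- the centraliser of `uE 1`, `uE 6` -/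
theorem centU {g : P24} (hg : g ∈ DD) (h1 : g * pm (uE 1) = pm (uE 1) * g) (h6 : g * pm (uE 6) = pm (uE 6) * g) :
    (g (pt 0) = pt 0 → ∃ f < 16, ∃ i < 3, g = pm (uE f) * pm qA ^ i) ∧
      (g (pt 0) = pt 0 → g * g = 1 → ∃ f < 16, g = pm (uE f)) ∧
      ((∃ u ∈ [0, 1, 6, 7], g * pm (uE 3) = pm (uE (u ^^^ 3)) * g) →
        (∃ u ∈ [0, 1, 6, 7], g * pm (uE 13) = pm (uE (u ^^^ 13)) * g) → ∃ f < 16, g = pm (uE f)) := by
  obtain ⟨q, hq, h⟩ := cU_spec (good := fun q => or (not (intw (ap q) (ap (uE 6)) (ap (uE 6))))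
    (or (not (allLT 16 fun f => not (eqF (ap q) (ap (uE f)))))
      (and (or (not (Nat.beq (ap q 0) 0))
          (and (not (isId fun x => ap q (ap q x))) (not (allLT 16 fun f => not (not (allLT 3 fun i =>
            not (eqF (ap q) fun x => ap (uE f) (itF (ap qA) i x))))))))
        (not (and (anyL [0, 1, 6, 7] fun u => intw (ap q) (ap (uE 3)) (ap (uE (Nat.xor u 3))))
          (anyL [0, 1, 6, 7] fun u => intw (ap q) (ap (uE 13)) (ap (uE (Nat.xor u 13)))))))))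
    (by decide +kernel) hg h1
  rw [(hq.intw_iff (rp_uE (by norm_num)) (rp_uE (by norm_num))).2 h6, Bool.not_true, Bool.false_or,
    Bool.or_eq_true] at h
  rcases h with h | h
  · obtain ⟨f, hf, h2⟩ := exists_of_not_allLT h
    have e := (hq.eqF_iff (rp_uE hf)).1 h2
    exact ⟨fun _ => ⟨f, hf, 0, by norm_num, by rw [e, pow_zero, mul_one]⟩, fun _ _ => ⟨f, hf, e⟩,
      fun _ _ => ⟨f, hf, e⟩⟩
  rw [Bool.and_eq_true] at h
  obtain ⟨h2, h3⟩ := h
  have hl : ∀ u ∈ [0, 1, 6, 7], u ^^^ 3 < 16 ∧ u ^^^ 13 < 16 := by decide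
  have key : g (pt 0) = pt 0 → g * g ≠ 1 ∧ ∃ f < 16, ∃ i < 3, g = pm (uE f) * pm qA ^ i := fun h0 => by
    rw [beq_iff'.2 ((hq.pt_eq_iff (by norm_num) (by norm_num)).1 h0), Bool.not_true, Bool.false_or,
      Bool.and_eq_true] at h2
    obtain ⟨f, hf, h4⟩ := exists_of_not_allLT h2.2
    obtain ⟨i, hi, h5⟩ := exists_of_not_allLT h4
    refine ⟨fun e => ?_, f, hf, i, hi, (hq.eqF_iff ((rp_uE hf).mul ((pm_rp isM_A).pow i))).1 h5⟩
    have := h2.1
    rw [(hq.mul hq).isId_iff.2 e] at this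
    exact absurd this (by decide)
  refine ⟨fun h0 => (key h0).2, fun h0 e => absurd e (key h0).1, ?_⟩
  rintro ⟨u, hu, e⟩ ⟨v, hv, e'⟩
  rw [(anyL_iff _ _).2 ⟨u, hu, (hq.intw_iff (rp_uE (by norm_num)) (rp_uE (hl u hu).1)).2 e⟩,
    (anyL_iff _ _).2 ⟨v, hv, (hq.intw_iff (rp_uE (by norm_num)) (rp_uE (hl v hv).2)).2 e'⟩] at h3
  exact absurd h3 (by decide)

end CfsgLib.J4X
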