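import Mathlib
import Cfsg.Agent.Lib.J4X.Mf
import Cfsg.Agent.Lib.Coprime.Generation

/-!
# Lifting from `M22` to the centraliser; the group of order 9
-/

set_option autoImplicit false

namespace CfsgLib.J4X

open Cfsg CfsgLib.Golay CfsgLib.M24E CfsgLib.J4T CfsgLib.J4T.G3 Subgroup
open scoped Pointwise

variable {G : Type*} [Group G]

theorem conj_pow_of_central {a b c : G} (e : a * b * a⁻¹ = c * b) (hc : c * a = a * c) (n : ℕ) :
    a ^ n * b * (a ^ n)⁻¹ = c ^ n * b := by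
  induction n with
  | zero => simp
  | succ n ih =>
    have h1 : a * c ^ n = c ^ n * a := ((show Commute c a from hc).pow_left n).symm.eq
    calc a ^ (n + 1) * b * (a ^ (n + 1))⁻¹ = a * (a ^ n * b * (a ^ n)⁻¹) * a⁻¹ := by rw [pow_succ']; group
      _ = c ^ n * (a * b * a⁻¹) := by rw [ih, ← mul_assoc, h1]; group
      _ = _ := by rw [e, pow_succ, mul_assoc]

theorem eq_one_of_coprime {c : G} {m n : ℕ} (h : m.Coprime n) (h1 : c ^ m = 1) (h2 : c ^ n = 1) : c = 1 := by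
  have := pow_gcd_eq_one.2 ⟨h1, h2⟩
  rwa [h, pow_one] at this

theorem sq_pow_cases {z : G} (zz : z * z = 1) (a : ℕ) : z ^ a = 1 ∨ z ^ a = z := by
  induction a with
  | zero => exact Or.inl (pow_zero _)
  | succ a ih => rcases ih with h | h <;> rw [pow_succ, h] <;> simp [zz]

theorem comm_conj {w g a : G} (ha : a * (g * w * g⁻¹) = g * w * g⁻¹ * a) : g⁻¹ * a * g * w = w * (g⁻¹ * a * g) := by
  calc g⁻¹ * a * g * w = g⁻¹ * (a * (g * w * g⁻¹)) * g := by group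
    _ = _ := by rw [ha]; group

theorem comm_conj' {w g a : G} (ha : a * w = w * a) : g * a * g⁻¹ * (g * w * g⁻¹) = g * w * g⁻¹ * (g * a * g⁻¹) := by
  rw [conj_mul, conj_mul, ha]

theorem N3_conj {w g a : G} (ha : a ∈ N3 (g * w * g⁻¹)) : g⁻¹ * a * g ∈ N3 w := by
  have e : g⁻¹ * a * g * w * (g⁻¹ * a * g)⁻¹ = g⁻¹ * (a * (g * w * g⁻¹) * a⁻¹) * g := by group
  rw [mem_N3, e]
  rcases ha with h | h <;> rw [h]
  · left; group
  · right; group

theorem N3_inv {w a : G} : a ∈ N3 w⁻¹ ↔ a ∈ N3 w := by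
  have e : a * w⁻¹ * a⁻¹ = (a * w * a⁻¹)⁻¹ := by group
  rw [mem_N3, mem_N3, e, inv_inj, inv_inv, inv_eq_iff_eq_inv]

theorem comm_inv_right {w a : G} : a * w⁻¹ = w⁻¹ * a ↔ a * w = w * a :=
  ⟨fun h => by simpa using (show Commute a w⁻¹ from h).inv_right.eq, fun h => (show Commute a w from h).inv_right.eq⟩

/-- a conjugate of an element of the centraliser by an element of the normaliser -/
theorem N3_comm {w k a : G} (hk : k ∈ N3 w) (ha : a * w = w * a) : k * a * k⁻¹ * w = w * (k * a * k⁻¹) := by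
  have := comm_conj' (g := k) ha
  rcases hk with h | h <;> rw [h] at this
  exacts [this, comm_inv_right.1 this]

namespace KS0

variable {w z : G} {θ : G → P24} (k : KS0 w z θ)
include k

theorem z_w : z * w = w * z := (k.z_comm w rfl).symm

theorem θ_one : θ 1 = 1 := (k.ker 1 (by simp)).2 ⟨0, 0, by simp⟩
theorem θ_w : θ w = 1 := (k.ker w rfl).2 ⟨0, 1, by simp⟩
theorem θ_z : θ z = 1 := (k.ker z k.z_w).2 ⟨1, 0, by simp⟩

theorem θ_inv {a : G} (ha : a * w = w * a) : θ a⁻¹ = (θ a)⁻¹ :=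
  eq_inv_of_mul_eq_one_left (by rw [← k.mul _ _ (comm_inv ha) ha, inv_mul_cancel, k.θ_one])

theorem θ_pow {a : G} (ha : a * w = w * a) (n : ℕ) : θ (a ^ n) = θ a ^ n := by
  induction n with
  | zero => rw [pow_zero, pow_zero, k.θ_one]
  | succ n ih => rw [pow_succ, pow_succ, k.mul _ _ (comm_pow ha n) ha, ih]

theorem θ_conj {a b : G} (ha : a * w = w * a) (hb : b * w = w * b) : θ (a * b * a⁻¹) = θ a * θ b * (θ a)⁻¹ := by
  rw [k.mul _ _ (comm_mul ha hb) (comm_inv ha), k.mul _ _ ha hb, k.θ_inv ha]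

/-- the kernel is central -/
theorem ker_comm {a b : G} (ha : a * w = w * a) (hb : b * w = w * b) (h : θ a = 1) : a * b = b * a := by
  obtain ⟨i, j, rfl⟩ := (k.ker a ha).1 h
  exact (((show Commute b z from k.z_comm b hb).pow_right i).mul_right
    ((show Commute b w from hb).pow_right j)).symm.eq

theorem orderOf_w : orderOf w = 3 :=
  haveI : Fact (Nat.Prime 3) := ⟨Nat.prime_three⟩
  orderOf_eq_prime k.three k.ne

theorem ker_pow (i j n : ℕ) : (z ^ i * w ^ j) ^ n = (z ^ i) ^ n * (w ^ j) ^ n :=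
  ((show Commute z w from k.z_w).pow_pow i j).mul_pow n

theorem z_sq (i : ℕ) : (z ^ i) ^ 2 = 1 := by rw [← pow_mul, mul_comm, pow_mul, pow_two z, k.zz, one_pow]

theorem w_cube (j : ℕ) : (w ^ j) ^ 3 = 1 := by rw [← pow_mul, mul_comm, pow_mul, k.three, one_pow]

theorem ker_two {a : G} (ha : a * w = w * a) (h : θ a = 1) {n : ℕ} (h2 : a ^ 2 ^ n = 1) : a = 1 ∨ a = z := by
  obtain ⟨i, j, rfl⟩ := (k.ker a ha).1 h
  have h3 : (z ^ i * w ^ j) ^ (2 * 2 ^ n) = 1 := by rw [mul_comm 2, pow_mul, h2, one_pow]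
  rw [k.ker_pow, pow_mul (z ^ i), k.z_sq, one_pow, one_mul, ← pow_succ'] at h3
  rw [eq_one_of_coprime (Nat.Coprime.pow_left _ (by norm_num)) h3 (k.w_cube j), mul_one]
  exact sq_pow_cases k.zz i

theorem ker_three {a : G} (ha : a * w = w * a) (h : θ a = 1) (h3 : a ^ 3 = 1) : ∃ i < 3, a = w ^ i := by
  obtain ⟨i, j, rfl⟩ := (k.ker a ha).1 h
  rw [k.ker_pow, k.w_cube, mul_one] at h3
  rw [eq_one_of_coprime (by norm_num) h3 (k.z_sq i), one_mul]
  exact ⟨j % 3, Nat.mod_lt _ (by norm_num), (pow_mod3 k.three j).symm⟩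

theorem ker_six {a : G} (ha : a * w = w * a) (h : θ a = 1) : a ^ 6 = 1 := by
  obtain ⟨i, j, rfl⟩ := (k.ker a ha).1 h
  rw [k.ker_pow, show 6 = 2 * 3 from rfl, pow_mul, k.z_sq, one_pow, mul_comm 2, pow_mul, k.w_cube, one_pow, mul_one]

/-- elements with the same image -/
theorem θ_eq {a b : G} (ha : a * w = w * a) (hb : b * w = w * b) (h : θ a = θ b) : θ (a * b⁻¹) = 1 := by
  rw [k.mul _ _ ha (comm_inv hb), k.θ_inv hb, h, mul_inv_cancel]

theorem pow_eq {a b : G} (ha : a * w = w * a) (hb : b * w = w * b) (h : θ a = θ b) (n : ℕ) :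
    a ^ n = (a * b⁻¹) ^ n * b ^ n := by
  rw [← (show Commute (a * b⁻¹) b from k.ker_comm (comm_mul ha (comm_inv hb)) hb (k.θ_eq ha hb h)).mul_pow,
    inv_mul_cancel_right]

theorem eq_of_two {a b : G} (ha : a * w = w * a) (hb : b * w = w * b) (h : θ a = θ b) {n : ℕ} (a2 : a ^ 2 ^ n = 1)
    (b2 : b ^ 2 ^ n = 1) : a = b ∨ a = z * b := by
  have := k.pow_eq ha hb h (2 ^ n)
  rw [a2, b2, mul_one] at this
  rcases k.ker_two (comm_mul ha (comm_inv hb)) (k.θ_eq ha hb h) this.symm with e | e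
  · exact Or.inl (mul_inv_eq_one.1 e)
  · exact Or.inr (mul_inv_eq_iff_eq_mul.1 e)

theorem eq_of_three {a b : G} (ha : a * w = w * a) (hb : b * w = w * b) (h : θ a = θ b) (a3 : a ^ 3 = 1)
    (b3 : b ^ 3 = 1) : ∃ i < 3, a = w ^ i * b := by
  have := k.pow_eq ha hb h 3
  rw [a3, b3, mul_one] at this
  obtain ⟨i, hi, e⟩ := k.ker_three (comm_mul ha (comm_inv hb)) (k.θ_eq ha hb h) this.symm
  exact ⟨i, hi, mul_inv_eq_iff_eq_mul.1 e⟩

theorem exists_lift4 {p : P24} (hp : p ∈ DD) (h0 : p (pt 0) = pt 0) (h : p * p = 1) :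
    ∃ a, a * w = w * a ∧ θ a = p ∧ a ^ 2 ^ 2 = 1 := by
  obtain ⟨b, hb, rfl⟩ := k.surj p hp h0
  refine ⟨b ^ 3, comm_pow hb 3, by rw [k.θ_pow hb, pow_three', h, one_mul], ?_⟩
  rw [← pow_mul, show 3 * 2 ^ 2 = 2 * 6 from rfl, pow_mul,
    k.ker_six (comm_pow hb 2) (by rw [k.θ_pow hb, pow_two, h])]

theorem sq_cases {a : G} (ha : a * w = w * a) (h : θ a * θ a = 1) {n : ℕ} (h2 : a ^ 2 ^ n = 1) :
    a * a = 1 ∨ a * a = z :=
  k.ker_two (comm_mul ha ha) (by rw [k.mul _ _ ha ha, h]) (n := n)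
    (by rw [← pow_two, ← pow_mul, mul_comm, pow_mul, h2, one_pow])

/-- commutator of two elements with commuting images -/
theorem comm_ker {a b : G} (ha : a * w = w * a) (hb : b * w = w * b) (h : θ a * θ b = θ b * θ a) :
    θ (a * b * a⁻¹ * b⁻¹) = 1 := by
  rw [k.mul _ _ (comm_mul (comm_mul ha hb) (comm_inv ha)) (comm_inv hb), k.θ_conj ha hb, k.θ_inv hb, h]
  group

theorem comm_pow_left {a b : G} (ha : a * w = w * a) (hb : b * w = w * b) (h : θ a * θ b = θ b * θ a) {n : ℕ}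
    (e : a ^ n * b = b * a ^ n) : (a * b * a⁻¹ * b⁻¹) ^ n = 1 := by
  have h1 := conj_pow_of_central (a := a) (b := b) (c := a * b * a⁻¹ * b⁻¹) (by group)
    (k.ker_comm (comm_mul (comm_mul (comm_mul ha hb) (comm_inv ha)) (comm_inv hb)) ha (k.comm_ker ha hb h)) n
  rw [e, mul_inv_cancel_right] at h1
  exact (right_eq_mul.1 h1)

theorem comm_pow_right {a b : G} (ha : a * w = w * a) (hb : b * w = w * b) (h : θ a * θ b = θ b * θ a) {n : ℕ}
    (e : b ^ n * a = a * b ^ n) : (a * b * a⁻¹ * b⁻¹) ^ n = 1 := by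
  have := k.comm_pow_left hb ha h.symm e
  rwa [show b * a * b⁻¹ * a⁻¹ = (a * b * a⁻¹ * b⁻¹)⁻¹ by group, inv_pow, inv_eq_one] at this

theorem mul_two {a b : G} (ha : a * w = w * a) (hb : b * w = w * b) (h : θ a * θ b = θ b * θ a)
    (a2 : θ a * θ a = 1) (b2 : θ b * θ b = 1) (a4 : a ^ 2 ^ 2 = 1) (b4 : b ^ 2 ^ 2 = 1) : (a * b) ^ 2 ^ 2 = 1 := by
  have hc := k.comm_ker ha hb h
  have hm := comm_mul (comm_mul (comm_mul ha hb) (comm_inv ha)) (comm_inv hb)
  have haa : θ (a ^ 2) = 1 := by rw [k.θ_pow ha, pow_two, a2]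
  have hbb : θ (b ^ 2) = 1 := by rw [k.θ_pow hb, pow_two, b2]
  have c2 := k.comm_pow_left ha hb h (n := 2) (k.ker_comm (comm_pow ha 2) hb haa)
  set c := a * b * a⁻¹ * b⁻¹ with hcd
  have e : (a * b) ^ 2 = c * (b ^ 2 * a ^ 2) := by
    have h1 : a ^ 2 * b = b * a ^ 2 := k.ker_comm (comm_pow ha 2) hb haa
    calc (a * b) ^ 2 = c * (b * (a ^ 2 * b)) := by rw [hcd, pow_two, pow_two]; group
      _ = _ := by rw [h1, pow_two b]; group
  have c1 : Commute c (b ^ 2 * a ^ 2) := k.ker_comm hm (comm_mul (comm_pow hb 2) (comm_pow ha 2)) hc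
  have c3 : Commute (b ^ 2) (a ^ 2) := k.ker_comm (comm_pow hb 2) (comm_pow ha 2) hbb
  rw [show (2 : ℕ) ^ 2 = 2 * 2 from rfl] at a4 b4 ⊢
  rw [pow_mul, e, c1.mul_pow, c3.mul_pow, c2, ← pow_mul, ← pow_mul, a4, b4]; simp

/-- involutions lift to involutions -/
theorem sq_eq_one {a : G} (ha : a * w = w * a) (h : θ a * θ a = 1) {n : ℕ} (h2 : a ^ 2 ^ n = 1) : a * a = 1 := by
  by_contra hne
  have az := (k.sq_cases ha h h2).resolve_left hne
  have z1 : z ≠ 1 := fun e => hne (az.trans e)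
  have a1 : θ a ≠ 1 := fun e => by
    rcases k.ker_two ha e h2 with e | e <;> rw [e] at hne
    exacts [hne (one_mul 1), hne k.zz]
  have a4 : a ^ 2 ^ 2 = 1 := by rw [show (2 : ℕ) ^ 2 = 2 * 2 from rfl, pow_mul, pow_two a, az, pow_two, k.zz]
  have all : ∀ b, b * w = w * b → θ b * θ b = 1 → θ b ≠ 1 → b ^ 2 ^ 2 = 1 → b * b = z := by
    intro b hb b2 b1 b4
    obtain ⟨r, hr, r0, e⟩ := inv_inner (k.mem a ha).1 (k.mem a ha).2 h a1
    obtain ⟨r', hr', r0', e'⟩ := inv_inner (k.mem b hb).1 (k.mem b hb).2 b2 b1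
    obtain ⟨s, hs, rfl⟩ := k.surj r hr r0
    obtain ⟨s', hs', rfl⟩ := k.surj r' hr' r0'
    have hc := comm_mul hs' (comm_inv hs)
    have h3 : θ b = θ (s' * s⁻¹ * a * (s' * s⁻¹)⁻¹) := by
      rw [k.θ_conj hc ha, k.mul _ _ hs' (comm_inv hs), k.θ_inv hs, ← e, ← e']; group
    have h4 : s' * s⁻¹ * a * (s' * s⁻¹)⁻¹ * (s' * s⁻¹ * a * (s' * s⁻¹)⁻¹) = z := by
      rw [conj_mul, az, k.z_comm _ hc, mul_inv_cancel_right]
    have hd := comm_mul (comm_mul hc ha) (comm_inv hc)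
    rcases k.eq_of_two hb hd h3 b4 (by rw [conj_pow, a4]; simp) with e1 | e1 <;> rw [e1]
    · exact h4
    · rw [mul_assoc, ← mul_assoc _ z, k.z_comm _ hd, mul_assoc z, h4, k.zz, mul_one]
  have anti : ∀ b c, b * w = w * b → b * b = z → c * c = z → b * c * (b * c) = z → c * w = w * c →
      c * b = z * (b * c) := by
    intro b c hb b2 c2 e hc
    have h1 : c * b = b⁻¹ * (b * c * (b * c)) * c⁻¹ := by group
    have h2 : b⁻¹ = z * b := by
      rw [inv_eq_iff_mul_eq_one, ← mul_assoc, k.z_comm b hb, mul_assoc, b2, k.zz]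
    have h3 : c⁻¹ = z * c := by
      rw [inv_eq_iff_mul_eq_one, ← mul_assoc, k.z_comm c hc, mul_assoc, c2, k.zz]
    rw [h1, e, h2, h3, mul_assoc (z * b), ← mul_assoc z z, k.zz, one_mul, mul_assoc]
  have L : ∀ i < 16, ∃ a, a * w = w * a ∧ θ a = pm (uE i) ∧ a ^ 2 ^ 2 = 1 := fun i hi =>
    k.exists_lift4 (uE_mem hi) (uE_in hi) (uE_sq hi)
  have ne1 : ∀ i < 16, i ≠ 0 → pm (uE i) ≠ 1 := fun i hi h0 e =>
    h0 (uE_injective hi (by norm_num) (e.trans uE_one.symm))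
  have M : ∀ i < 16, ∀ j < 16, ∀ b c, b * w = w * b → c * w = w * c → θ b = pm (uE i) → θ c = pm (uE j) →
      b ^ 2 ^ 2 = 1 → c ^ 2 ^ 2 = 1 → θ (b * c) = pm (uE (i ^^^ j)) ∧ (b * c) ^ 2 ^ 2 = 1 := by
    intro i hi j hj b c hb hc eb ec b4 c4
    exact ⟨by rw [k.mul _ _ hb hc, eb, ec, uE_mul hi hj], k.mul_two hb hc (by rw [eb, ec, uE_comm hi hj])
      (by rw [eb, uE_sq hi]) (by rw [ec, uE_sq hj]) b4 c4⟩
  have Z : ∀ i < 16, i ≠ 0 → ∀ b, b * w = w * b → θ b = pm (uE i) → b ^ 2 ^ 2 = 1 → b * b = z :=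
    fun i hi h0 b hb eb b4 => all b hb (by rw [eb, uE_sq hi]) (eb ▸ ne1 i hi h0) b4
  obtain ⟨b, hb, eb, b4⟩ := L 1 (by norm_num)
  obtain ⟨c, hc, ec, c4⟩ := L 2 (by norm_num)
  obtain ⟨d, hd, ed, d4⟩ := L 4 (by norm_num)
  obtain ⟨ebc, bc4⟩ := M 1 (by norm_num) 2 (by norm_num) b c hb hc eb ec b4 c4
  obtain ⟨ebd, bd4⟩ := M 1 (by norm_num) 4 (by norm_num) b d hb hd eb ed b4 d4
  obtain ⟨ecd, cd4⟩ := M 2 (by norm_num) 4 (by norm_num) c d hc hd ec ed c4 d4
  obtain ⟨e3, f4⟩ := M 1 (by norm_num) _ (by decide) b (c * d) hb (comm_mul hc hd) eb ecd b4 cd4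
  have zb := Z 1 (by norm_num) (by norm_num) b hb eb b4
  have h1 := anti b c hb zb (Z 2 (by norm_num) (by norm_num) c hc ec c4)
    (Z _ (by decide) (by decide) _ (comm_mul hb hc) ebc bc4) hc
  have h3 := anti b d hb zb (Z 4 (by norm_num) (by norm_num) d hd ed d4)
    (Z _ (by decide) (by decide) _ (comm_mul hb hd) ebd bd4) hd
  have h5 := anti b (c * d) hb zb (Z _ (by decide) (by decide) _ (comm_mul hc hd) ecd cd4)
    (Z _ (by decide) (by decide) _ (comm_mul hb (comm_mul hc hd)) e3 f4) (comm_mul hc hd)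
  have h6 : c * d * b = b * (c * d) := by
    rw [mul_assoc, h3, ← mul_assoc, k.z_comm c hc, mul_assoc, ← mul_assoc c, h1, ← mul_assoc, ← mul_assoc, k.zz,
      one_mul, mul_assoc]
  rw [h6] at h5
  exact z1 (right_eq_mul.1 h5)

theorem exists_lift2 {p : P24} (hp : p ∈ DD) (h0 : p (pt 0) = pt 0) (h : p * p = 1) :
    ∃ a, a * w = w * a ∧ θ a = p ∧ a * a = 1 := by
  obtain ⟨a, ha, e, a4⟩ := k.exists_lift4 hp h0 h
  exact ⟨a, ha, e, k.sq_eq_one ha (by rw [e, h]) a4⟩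

theorem exists_lift3 {p : P24} (hp : p ∈ DD) (h0 : p (pt 0) = pt 0) (h : p ^ 3 = 1) :
    ∃ a, a * w = w * a ∧ θ a = p ∧ a ^ 3 = 1 := by
  by_cases h1 : p = 1
  · exact ⟨1, by simp, by rw [k.θ_one, h1], one_pow _⟩
  obtain ⟨r, hr, r0, e⟩ := class3 hp h h1
  obtain ⟨b, hb, eb⟩ := k.surj p hp h0
  obtain ⟨s, hs, rfl⟩ := k.surj r hr r0
  obtain ⟨t, ht, et⟩ := k.surj _ (is22_spec is22_S).2.1 (is22_spec is22_S).2.2
  have ha := comm_pow hb 4
  have ea : θ (b ^ 4) = p := by rw [k.θ_pow hb, eb, pow_succ, h, one_mul]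
  have b3 : θ (b ^ 3) = 1 := by rw [k.θ_pow hb, eb, h]
  refine ⟨b ^ 4, ha, ea, ?_⟩
  set a := b ^ 4 with had
  have a9 : (a ^ 3) ^ 3 = 1 := by
    rw [had, ← pow_mul, ← pow_mul, show 4 * (3 * 3) = 3 * (6 * 2) from rfl, pow_mul, pow_mul,
      k.ker_six (comm_pow hb 3) b3, one_pow]
  have a3 : θ (a ^ 3) = 1 := by rw [k.θ_pow ha, ea, h]
  have hu := comm_mul (comm_mul hs ht) (comm_inv hs)
  have h2 : θ (s * t * s⁻¹ * a * (s * t * s⁻¹)⁻¹) = θ a⁻¹ := by
    rw [k.θ_conj hu ha, k.θ_conj hs ht, k.θ_inv ha, ea, et, ← e]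
    calc _ = θ s * (pm qS * pm qA * (pm qS)⁻¹) * (θ s)⁻¹ := by group
      _ = _ := by rw [S_A]; group
  have h3 := k.pow_eq (comm_mul (comm_mul hu ha) (comm_inv hu)) (comm_inv ha) h2 3
  rw [conj_pow, ← k.ker_comm (comm_pow ha 3) hu a3, mul_inv_cancel_right, inv_pow a, eq_mul_inv_iff_mul_eq,
    ← pow_two] at h3
  have h4 := k.ker_six (comm_mul (comm_mul (comm_mul hu ha) (comm_inv hu)) (comm_inv (comm_inv ha)))
    (k.θ_eq (comm_mul (comm_mul hu ha) (comm_inv hu)) (comm_inv ha) h2)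
  rw [show 6 = 3 * 2 from rfl, pow_mul, ← h3, ← pow_mul] at h4
  exact eq_one_of_coprime (by norm_num) h4 a9

/-- involutions with commuting images commute -/
theorem comm_of_θ {a b : G} (ha : a * w = w * a) (hb : b * w = w * b) (a2 : a * a = 1) (b2 : b * b = 1)
    (h : θ a * θ b = θ b * θ a) : a * b = b * a := by
  have ea : θ a * θ a = 1 := by rw [← k.mul _ _ ha ha, a2, k.θ_one]
  have eb : θ b * θ b = 1 := by rw [← k.mul _ _ hb hb, b2, k.θ_one]
  have f : ∀ c : G, c * c = 1 → c ^ 2 ^ 2 = 1 := fun c e => by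
    rw [show (2 : ℕ) ^ 2 = 2 * 2 from rfl, pow_mul, pow_two c, e, one_pow]
  have h1 := k.sq_eq_one (comm_mul ha hb) (by
    rw [k.mul _ _ ha hb, mul_assoc, ← mul_assoc (θ b), ← h, mul_assoc, eb, mul_one, ea])
    (k.mul_two ha hb h ea eb (f a a2) (f b b2))
  calc a * b = (a * b)⁻¹ := (inv_eq_of_mul_eq_one_right h1).symm
    _ = b * a := by rw [mul_inv_rev, inv_eq_of_mul_eq_one_right a2, inv_eq_of_mul_eq_one_right b2]

/-- an element of odd order commutes with a 2-element if the images commute -/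
theorem comm_of_θ3 {a b : G} (ha : a * w = w * a) (hb : b * w = w * b) (a3 : a ^ 3 = 1) {n : ℕ} (b2 : b ^ 2 ^ n = 1)
    (h : θ a * θ b = θ b * θ a) : a * b = b * a := by
  have h1 := k.comm_pow_left ha hb h (n := 3) (by rw [a3]; simp)
  have h2 := k.comm_pow_right ha hb h (n := 2 ^ n) (by rw [b2]; simp)
  have := eq_one_of_coprime (Nat.Coprime.pow_right n (by norm_num)) h1 h2
  rwa [mul_inv_eq_one, mul_inv_eq_iff_eq_mul] at this

/-- `θ` as a homomorphism -/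
def hom : centralizer ({w} : Set G) →* P24 :=
  MonoidHom.mk' (fun a => θ a) fun a b => k.mul _ _ (mem_centralizer_singleton_iff.1 a.2)
    (mem_centralizer_singleton_iff.1 b.2)

theorem pa_of_θ {a : G} (ha : a * w = w * a) (a3 : a ^ 3 = 1) (h : θ a ≠ 1) : Pa w a :=
  ⟨k.ne, k.three, a3, ha, fun i e => h (by rw [e, k.θ_pow rfl, k.θ_w, one_pow])⟩

theorem θ_ne {a : G} (ha : Pa w a) : θ a ≠ 1 := fun h => by
  obtain ⟨i, -, e⟩ := k.ker_three ha.comm h ha.a3
  exact ha.na i e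

end KS0

theorem card_TT : Nat.card TT = 9 := by
  have : Function.Bijective fun p : Fin 3 × Fin 3 => (⟨pm qA ^ (p.1 : ℕ) * pm qB ^ (p.2 : ℕ), _, _, rfl⟩ : TT) := by
    refine ⟨fun p q h => ?_, fun ⟨g, hg⟩ => ?_⟩
    · obtain ⟨h1, h2⟩ := TT_inj p.1.2 p.2.2 q.1.2 q.2.2 (congrArg Subtype.val h)
      exact Prod.ext (Fin.ext h1) (Fin.ext h2)
    · obtain ⟨i, hi, j, hj, rfl⟩ := mem_TT.1 hg
      exact ⟨(⟨i, hi⟩, ⟨j, hj⟩), rfl⟩
  rw [← Nat.card_eq_of_bijective _ this]; simp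

theorem TT_le : TT ≤ Spor.M22 := fun g hg => by
  refine mem_M22.2 ⟨?_, TT_inner hg⟩
  obtain ⟨i, j, rfl⟩ := hg
  exact mul_mem (pow_mem (is22_spec is22_A).2.1 _) (pow_mem (is22_spec is22_B).2.1 _)

theorem relIndex_TT : TT.relIndex Spor.M22 = 49280 := by
  have h := card_mul_index (TT.subgroupOf Spor.M22)
  rw [Nat.card_congr (subgroupOfEquivOfLe TT_le).toEquiv, card_TT, CfsgLib.Mathieu.card_M22] at h
  unfold relIndex; omega

namespace KS0

variable {w z : G} {θ : G → P24} (k : KS0 w z θ)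
include k

theorem range_hom : k.hom.range = Spor.M22 := by
  ext g
  rw [mem_M22]
  constructor
  · rintro ⟨a, rfl⟩
    exact k.mem a (mem_centralizer_singleton_iff.1 a.2)
  · rintro ⟨h1, h2⟩
    obtain ⟨a, ha, e⟩ := k.surj g h1 h2
    exact ⟨⟨a, mem_centralizer_singleton_iff.2 ha⟩, e⟩

theorem not_comm [Finite G] {a b : G} (ha : a * w = w * a) (hb : b * w = w * b) (ea : θ a = pm qA)
    (eb : θ b = pm qB) : a * b ≠ b * a := by
  intro hab
  set H := TT.comap k.hom with hH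
  have nf : ∀ x ∈ H, ∃ c i j, c * w = w * c ∧ θ c = 1 ∧ (x : G) = c * (a ^ i * b ^ j) := by
    rintro x ⟨i, j, e⟩
    have hx := mem_centralizer_singleton_iff.1 x.2
    have h1 := comm_mul (comm_pow ha i) (comm_pow hb j)
    refine ⟨x * (a ^ i * b ^ j)⁻¹, i, j, comm_mul hx (comm_inv h1), k.θ_eq hx h1 ?_, by group⟩
    rw [k.mul _ _ (comm_pow ha i) (comm_pow hb j), k.θ_pow ha, k.θ_pow hb, ea, eb]; exact e
  haveI : IsMulCommutative H := ⟨⟨fun x y => by
    obtain ⟨c, i, j, hc, ec, e⟩ := nf x x.2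
    obtain ⟨c', i', j', hc', ec', e'⟩ := nf y y.2
    have cab : Commute a b := hab
    have h1 := comm_mul (comm_pow ha i) (comm_pow hb j)
    have h1' := comm_mul (comm_pow ha i') (comm_pow hb j')
    have : Commute (c * (a ^ i * b ^ j)) (c' * (a ^ i' * b ^ j')) :=
      Commute.mul_left (k.ker_comm hc (comm_mul hc' h1') ec)
        (Commute.mul_right (k.ker_comm hc' h1 ec').symm
          ((((Commute.refl _).pow_pow _ _).mul_right (cab.pow_pow _ _)).mul_left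
            ((cab.symm.pow_pow _ _).mul_right ((Commute.refl _).pow_pow _ _))))
    apply Subtype.ext; apply Subtype.ext
    show (x : G) * y = (y : G) * x
    rw [e, e']; exact this⟩⟩
  have hi : H.index = 49280 := by rw [hH, index_comap, k.range_hom, relIndex_TT]
  set w' : centralizer ({w} : Set G) := ⟨w, mem_centralizer_singleton_iff.2 rfl⟩
  have hcen : ∀ g : centralizer ({w} : Set G), Commute g w' := fun g =>
    Subtype.ext (mem_centralizer_singleton_iff.1 g.2)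
  have key : ∀ (n : ℕ) (g : centralizer ({w} : Set G)), g⁻¹ * w' ^ n * g ∈ H → g⁻¹ * w' ^ n * g = w' ^ n :=
    fun n g _ => by rw [mul_assoc, ← ((hcen g).pow_right n).eq, inv_mul_cancel_left]
  letI : CommGroup H := open scoped IsMulCommutative in inferInstance
  have h1 := MonoidHom.transfer_eq_pow (MonoidHom.id H) w' key
  have h2 : w' ∈ commutator (centralizer ({w} : Set G)) := by
    have := k.perf
    rw [← map_subtype_commutator] at this
    obtain ⟨x, hx, e⟩ := this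
    rwa [show w' = x from Subtype.ext e.symm]
  have h3 : MonoidHom.transfer (MonoidHom.id H) w' = 1 := Abelianization.commutator_subset_ker _ h2
  rw [h3] at h1
  have h4 : w ^ 49280 = 1 := by
    have := congrArg (fun x : H => ((x : centralizer ({w} : Set G)) : G)) h1
    simp only [MonoidHom.id_apply, hi] at this
    exact this.symm
  exact k.ne (eq_one_of_coprime (by norm_num) h4 k.three)

theorem exists_r [Finite G] {a : G} (ha : a * w = w * a) (a3 : a ^ 3 = 1) (h : θ a = pm qA) :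
    ∃ r, r * w = w * r ∧ r ^ 3 = 1 ∧ r * a * r⁻¹ = a * w ∧ (θ r = pm qB ∨ θ r = (pm qB)⁻¹) := by
  obtain ⟨b, hb, eb, b3⟩ := k.exists_lift3 (is22_spec is22_B).2.1 (is22_spec is22_B).2.2 B3
  obtain ⟨i, hi, e⟩ := k.eq_of_three (comm_mul (comm_mul hb ha) (comm_inv hb)) ha
    (by rw [k.θ_conj hb ha, h, eb, ← AB.eq, mul_inv_cancel_right]) (by rw [conj_pow, a3]; simp) a3
  interval_cases i
  · rw [pow_zero, one_mul, mul_inv_eq_iff_eq_mul] at e
    exact absurd e.symm (k.not_comm ha hb h eb)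
  · exact ⟨b, hb, b3, by rw [e, pow_one, ha], Or.inl eb⟩
  · refine ⟨b ^ 2, comm_pow hb 2, by rw [← pow_mul, mul_comm, pow_mul, b3, one_pow], ?_, Or.inr ?_⟩
    · rw [conj_pow_of_central e ((show Commute b w from hb).pow_right 2).symm.eq 2, ← pow_mul,
        show 2 * 2 = 3 + 1 from rfl, pow_succ, k.three, one_mul, ha]
    · rw [k.θ_pow hb, eb, eq_inv_iff_mul_eq_one, ← pow_succ, B3]

/-- the non-central elements of order 3 are conjugate -/
theorem conj3 [Finite G] {a b : G} (ha : Pa w a) (hb : Pa w b) : ∃ c, c * w = w * c ∧ c * a * c⁻¹ = b := by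
  obtain ⟨a0, h0, e0, a3⟩ := k.exists_lift3 (is22_spec is22_A).2.1 (is22_spec is22_A).2.2 A3
  obtain ⟨r, hr, -, er, -⟩ := k.exists_r h0 a3 e0
  have key : ∀ a, Pa w a → ∃ c, c * w = w * c ∧ c * a0 * c⁻¹ = a := by
    intro a ha
    obtain ⟨p, hp, p0, e⟩ := class3 (k.mem a ha.comm).1 (by rw [← k.θ_pow ha.comm, ha.a3, k.θ_one]) (k.θ_ne ha)
    obtain ⟨s, hs, rfl⟩ := k.surj p hp p0
    obtain ⟨i, -, e1⟩ := k.eq_of_three ha.comm (comm_mul (comm_mul hs h0) (comm_inv hs))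
      (by rw [k.θ_conj hs h0, e0, e]) ha.a3 (by rw [conj_pow, a3]; simp)
    refine ⟨s * r ^ i, comm_mul hs (comm_pow hr i), ?_⟩
    have := conj_pow_of_central (a := r) (b := a0) (c := w) (by rw [er, h0]) hr.symm i
    calc _ = s * (r ^ i * a0 * (r ^ i)⁻¹) * s⁻¹ := by group
      _ = _ := by rw [this, e1, ← mul_assoc, ((show Commute s w from hs).pow_right i).eq]; group
  obtain ⟨c, hc, rfl⟩ := key a ha
  obtain ⟨c', hc', rfl⟩ := key b hb
  exact ⟨c' * c⁻¹, comm_mul hc' (comm_inv hc), by group⟩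

theorem rank [Finite G] {B : Subgroup G} (h1 : ∀ b ∈ B, b * w = w * b) (h2 : ∀ b ∈ B, b * b = 1) :
    Nat.card B ≤ 32 ∧ (z = 1 → Nat.card B ≤ 16) := by
  let f : B →* P24 := MonoidHom.mk' (fun b => θ b) fun a b => k.mul _ _ (h1 a a.2) (h1 b b.2)
  have hD : f.range ≤ DD := by rintro _ ⟨b, rfl⟩; exact (k.mem b (h1 b b.2)).1
  have hs : ∀ a ∈ f.range, a * a = 1 := by
    rintro _ ⟨b, rfl⟩
    rw [← map_mul, show b * b = 1 from Subtype.ext (h2 b b.2), map_one]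
  have h16 : Nat.card f.range ≤ 16 := by
    have hp : IsPGroup 2 f.range := fun a => ⟨1, Subtype.ext (by rw [pow_one, pow_two]; exact hs a a.2)⟩
    haveI : Fact (Nat.Prime 2) := ⟨Nat.prime_two⟩
    obtain ⟨n, hn⟩ := IsPGroup.iff_card.1 hp
    have : Nat.card f.range < 32 := by
      by_contra hc
      obtain ⟨r, hr, r0, h⟩ := elem_32 hD hs (not_lt.1 hc)
      obtain ⟨b, e⟩ := (h _).2 ⟨16, by norm_num, rfl⟩
      have h3 : (r * pm (rE 16) * r⁻¹) (pt 0) = pt 0 := e ▸ (k.mem b (h1 b b.2)).2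
      rw [conj_inner hr (rE_mem (by norm_num))] at h3
      exact absurd (((pm_rp (isM_rE (by norm_num))).pt_eq_iff (by norm_num) (by norm_num)).1 h3) (by decide +kernel)
    rw [hn] at this ⊢
    exact Nat.pow_le_pow_right (by norm_num) (Nat.lt_succ_iff.1 (Nat.pow_lt_pow_iff_right (by norm_num) |>.1
      (show 2 ^ n < 2 ^ 5 from this)) : n ≤ 4)
  have hk : ∀ b ∈ f.ker, (b : G) = 1 ∨ (b : G) = z := fun b hb =>
    k.ker_two (h1 b b.2) hb (n := 1) (by rw [pow_one, pow_two, h2 b b.2])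
  have hc : Nat.card f.ker * Nat.card f.range = Nat.card B := by rw [← index_ker, card_mul_index]
  have hk2 : Nat.card f.ker ≤ 2 := by
    classical
    have := Nat.card_le_card_of_injective (fun b : f.ker => decide (((b : B) : G) = 1)) fun a b e => by
      apply Subtype.ext; apply Subtype.ext
      simp only [decide_eq_decide] at e
      by_cases h : ((a : B) : G) = 1
      · rw [h, e.1 h]
      · rw [(hk a a.2).resolve_left h, (hk b b.2).resolve_left fun h' => h (e.2 h')]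
    simpa using this
  refine ⟨by nlinarith, fun hz => ?_⟩
  have : f.ker = ⊥ := eq_bot_iff.2 fun b hb => Subtype.ext (by rcases hk b hb with e | e <;> simp [e, hz])
  rw [this, card_bot, one_mul] at hc
  omega

end KS0

end CfsgLib.J4X
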