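import Mathlib
import Cfsg.Agent.Lib.J4X.LocA

/-!
# The normaliser of `⟨w⟩`, the group of order 9, conjugation
-/

set_option autoImplicit false

namespace CfsgLib.J4X

open Cfsg CfsgLib.Golay CfsgLib.M24E CfsgLib.J4T CfsgLib.J4T.G3 Subgroup
open scoped Pointwise

variable {G : Type*} [Group G]

/-- the centre of `M22` is trivial -/
theorem eq_one_of_central {g : P24} (hg : g ∈ DD) (h0 : g (pt 0) = pt 0) (h2 : g * g = 1)
    (hA : g * pm qA = pm qA * g) (hB : g * pm qB = pm qB * g) : g = 1 := by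
  obtain ⟨u, hu, rfl⟩ := (centA hg h0 hA).2 h2
  have hl : ∀ u ∈ [0, 1, 6, 7], u < 16 ∧ (fB.getD u 0 = u → u = 0) := by decide
  obtain ⟨h1, h3⟩ := actF_spec actF_B (hl u hu).1
  rw [← hB, mul_inv_cancel_right] at h3
  rw [(hl u hu).2 (uE_injective (hl u hu).1 h1 h3).symm, uE_one]

namespace KS

variable {w z : G} {θ : G → P24} (k : KS w z θ)
include k

theorem θ_inv2 {a : G} (ha : a ∈ N3 w) : θ a⁻¹ = (θ a)⁻¹ :=
  eq_inv_of_mul_eq_one_left (by rw [← k.mul2 _ (inv_mem ha) _ ha, inv_mul_cancel, k.toKS0.θ_one])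

theorem θ_conj2 {a b : G} (ha : a ∈ N3 w) (hb : b ∈ N3 w) : θ (a * b * a⁻¹) = θ a * θ b * (θ a)⁻¹ := by
  rw [k.mul2 _ (mul_mem ha hb) _ (inv_mem ha), k.mul2 _ ha _ hb, k.θ_inv2 ha]

theorem ker2 {a : G} (ha : a ∈ N3 w) (h : θ a = 1) : ∃ b i : ℕ, a = z ^ b * w ^ i :=
  (k.ker a (k.inner a ha (by rw [h]; rfl))).1 h

theorem conj (g : G) : KS (g * w * g⁻¹) (g * z * g⁻¹) fun a => θ (g⁻¹ * a * g) := by
  have e1 : ∀ a b : G, g⁻¹ * (a * b) * g = g⁻¹ * a * g * (g⁻¹ * b * g) := fun a b => by group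
  have e2 : ∀ a : G, g⁻¹ * (g * a * g⁻¹) * g = a := fun a => by group
  have e3 : ∀ a : G, g * (g⁻¹ * a * g) * g⁻¹ = a := fun a => by group
  have n2 : ∀ a ∈ N3 w, g * a * g⁻¹ ∈ N3 (g * w * g⁻¹) := fun a ha => by
    have := N3_conj (g := g⁻¹) (w := g * w * g⁻¹) (a := a) (by rwa [inv_inv, e2])
    rwa [inv_inv] at this
  refine ⟨⟨fun h => k.ne (conj_eq_one_iff.1 h), by rw [conj_pow, k.three]; simp, by rw [conj_mul, k.zz]; simp,
    fun a ha => ?_, fun a b ha hb => ?_, fun a ha => k.mem _ (comm_conj ha), fun p hp h0 => ?_, fun a ha => ?_, ?_⟩,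
    fun a ha => ?_, fun a ha b hb => ?_, fun a ha => k.mem2 _ (N3_conj ha), fun p hp => ?_, fun a ha h => ?_⟩
  · have := comm_conj' (g := g) (k.z_comm _ (comm_conj ha))
    rwa [e3] at this
  · rw [e1, k.mul _ _ (comm_conj ha) (comm_conj hb)]
  · obtain ⟨a, ha, e⟩ := k.surj p hp h0
    exact ⟨g * a * g⁻¹, comm_conj' ha, by rw [e2, e]⟩
  · rw [k.ker _ (comm_conj ha)]
    refine exists_congr fun i => exists_congr fun j => ?_
    rw [conj_pow, conj_pow, conj_mul]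
    exact ⟨fun h => by rw [← h, e3], fun h => by rw [h, e2]⟩
  · have h1 : (centralizer ({w} : Set G)).map (MulAut.conj g).toMonoidHom ≤ centralizer {g * w * g⁻¹} := by
      rintro _ ⟨a, ha, rfl⟩
      exact mem_centralizer_singleton_iff.2 (comm_conj' (mem_centralizer_singleton_iff.1 ha))
    refine commutator_mono h1 h1 ?_
    rw [← map_commutator]
    exact ⟨w, k.perf, rfl⟩
  · have := comm_conj' (g := g) (k.z_comm2 _ (N3_conj ha))
    rwa [e3] at this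
  · rw [e1, k.mul2 _ (N3_conj ha) _ (N3_conj hb)]
  · obtain ⟨a, ha, e⟩ := k.surj2 p hp
    exact ⟨g * a * g⁻¹, n2 a ha, by rw [e2, e]⟩
  · have := comm_conj' (g := g) (k.inner _ (N3_conj ha) h)
    rwa [e3] at this

theorem inv : KS w⁻¹ z θ := by
  have c := fun a => @comm_inv_right G _ w a
  have e : w⁻¹ = w ^ 2 := by rw [inv_eq_iff_mul_eq_one, ← pow_succ', k.three]
  have e' : w = w⁻¹ ^ 2 := by rw [inv_pow, eq_inv_iff_mul_eq_one, ← pow_succ', k.three]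
  refine ⟨⟨inv_ne_one.2 k.ne, by rw [inv_pow, k.three, inv_one], k.zz, fun a ha => k.z_comm a ((c a).1 ha),
    fun a b ha hb => k.mul a b ((c a).1 ha) ((c b).1 hb), fun a ha => k.mem a ((c a).1 ha), fun p hp h0 => ?_,
    fun a ha => ?_, ?_⟩, fun a ha => k.z_comm2 a (N3_inv.1 ha), fun a ha b hb => k.mul2 a (N3_inv.1 ha) b (N3_inv.1 hb),
    fun a ha => k.mem2 a (N3_inv.1 ha), fun p hp => ?_, fun a ha h => (c a).2 (k.inner a (N3_inv.1 ha) h)⟩
  · obtain ⟨a, ha, e⟩ := k.surj p hp h0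
    exact ⟨a, (c a).2 ha, e⟩
  · rw [k.ker a ((c a).1 ha)]
    constructor
    · rintro ⟨i, j, h⟩
      exact ⟨i, 2 * j, by rw [pow_mul, ← e', h]⟩
    · rintro ⟨i, j, h⟩
      exact ⟨i, 2 * j, by rw [pow_mul, ← e, h]⟩
  · have : centralizer ({w⁻¹} : Set G) = centralizer {w} := by
      ext a; rw [mem_centralizer_singleton_iff, mem_centralizer_singleton_iff, c]
    rw [this]
    exact inv_mem k.perf
  · obtain ⟨a, ha, e⟩ := k.surj2 p hp
    exact ⟨a, N3_inv.2 ha, e⟩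

theorem twist {p : P24} (hp : p ∈ DD) : KS w z fun a => p * θ a * p⁻¹ := by
  have e2 : ∀ a : P24, p * (p⁻¹ * a * p⁻¹⁻¹) * p⁻¹ = a := fun a => by group
  have m : ∀ a ∈ DD, ∀ p ∈ DD, p * a * p⁻¹ ∈ DD := fun a ha p hp => mul_mem (mul_mem hp ha) (inv_mem hp)
  refine ⟨⟨k.ne, k.three, k.zz, k.z_comm, fun a b ha hb => by rw [k.mul a b ha hb, conj_mul],
    fun a ha => ⟨m _ (k.mem a ha).1 _ hp, (conj_inner hp (k.mem a ha).1).2 (k.mem a ha).2⟩, fun q hq h0 => ?_,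
    fun a ha => by rw [conj_eq_one_iff, k.ker a ha], k.perf⟩, k.z_comm2,
    fun a ha b hb => by rw [k.mul2 a ha b hb, conj_mul], fun a ha => m _ (k.mem2 a ha) _ hp, fun q hq => ?_,
    fun a ha h => k.inner a ha ((conj_inner hp (k.mem2 a ha)).1 h)⟩
  · obtain ⟨a, ha, e⟩ := k.surj _ (m q hq _ (inv_mem hp)) ((conj_inner (inv_mem hp) hq).2 h0)
    exact ⟨a, ha, by rw [e, e2]⟩
  · obtain ⟨a, ha, e⟩ := k.surj2 _ (m q hq _ (inv_mem hp))
    exact ⟨a, ha, by rw [e, e2]⟩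

theorem z_cases {z' : G} {θ' : G → P24} (k' : KS w z' θ') : z' = 1 ∨ z' = z := by
  have hz := k'.toKS0.z_w
  have c : ∀ p ∈ DD, p (pt 0) = pt 0 → θ z' * p = p * θ z' := fun p hp h0 => by
    obtain ⟨a, ha, rfl⟩ := k.surj p hp h0
    rw [← k.mul _ _ hz ha, ← k.mul _ _ ha hz, k'.z_comm a ha]
  refine k.toKS0.ker_two hz (eq_one_of_central (k.mem _ hz).1 (k.mem _ hz).2 ?_
    (c _ (is22_spec is22_A).2.1 (is22_spec is22_A).2.2) (c _ (is22_spec is22_B).2.1 (is22_spec is22_B).2.2))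
    (n := 1) (by rw [pow_one, pow_two, k'.zz])
  rw [← k.mul _ _ hz hz, k'.zz, k.toKS0.θ_one]

theorem z_unique {z' : G} {θ' : G → P24} (k' : KS w z' θ') : z' = z := by
  rcases k.z_cases k' with h | h
  · rcases k'.z_cases k with h' | h'
    · rw [h, h']
    · exact h'.symm
  · exact h

end KS

namespace Pa

variable {w a : G} (p : Pa w a)
include p

theorem a_ne : a ≠ 1 := fun h => p.na 0 (by rw [h, pow_zero])

theorem cm : Commute w a := p.comm.symm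

theorem mul_nf (i j i' j' : ℕ) : w ^ i * a ^ j * (w ^ i' * a ^ j') = w ^ (i + i') * a ^ (j + j') := by
  rw [pow_add, pow_add, mul_assoc, ← mul_assoc (a ^ j), ← (p.cm.pow_pow i' j).eq]; group

theorem nf_three (i j : ℕ) : (w ^ i * a ^ j) ^ 3 = 1 := by
  rw [(p.cm.pow_pow i j).mul_pow, ← pow_mul, ← pow_mul, mul_comm i, mul_comm j, pow_mul, pow_mul, p.w3, p.a3]; simp

theorem mem_AA' {b : G} : b ∈ AA w a ↔ ∃ i j : ℕ, b = w ^ i * a ^ j := by
  constructor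
  · intro h
    induction h using closure_induction with
    | mem x hx =>
      rcases hx with rfl | rfl
      exacts [⟨1, 0, by simp⟩, ⟨0, 1, by simp⟩]
    | one => exact ⟨0, 0, by simp⟩
    | mul x y _ _ hx hy =>
      obtain ⟨i, j, rfl⟩ := hx
      obtain ⟨i', j', rfl⟩ := hy
      exact ⟨_, _, p.mul_nf _ _ _ _⟩
    | inv x _ hx =>
      obtain ⟨i, j, rfl⟩ := hx
      refine ⟨_, _, Eq.trans ?_ (p.mul_nf i j i j)⟩
      rw [inv_eq_iff_mul_eq_one, ← pow_three, p.nf_three]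
  · rintro ⟨i, j, rfl⟩
    exact mul_mem (pow_mem (subset_closure (by simp)) _) (pow_mem (subset_closure (by simp)) _)

theorem mem_AA {b : G} : b ∈ AA w a ↔ ∃ i < 3, ∃ j < 3, b = w ^ i * a ^ j := by
  rw [p.mem_AA']
  constructor
  · rintro ⟨i, j, rfl⟩
    exact ⟨i % 3, Nat.mod_lt _ (by norm_num), j % 3, Nat.mod_lt _ (by norm_num), by
      rw [pow_mod3 p.w3, pow_mod3 p.a3]⟩
  · rintro ⟨i, -, j, -, h⟩
    exact ⟨i, j, h⟩

theorem w_mem : w ∈ AA w a := p.mem_AA'.2 ⟨1, 0, by simp⟩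
theorem a_mem : a ∈ AA w a := p.mem_AA'.2 ⟨0, 1, by simp⟩

theorem A_comm {b c : G} (hb : b ∈ AA w a) (hc : c ∈ AA w a) : b * c = c * b := by
  obtain ⟨i, j, rfl⟩ := p.mem_AA'.1 hb
  obtain ⟨i', j', rfl⟩ := p.mem_AA'.1 hc
  rw [p.mul_nf, p.mul_nf, add_comm i, add_comm j]

theorem A_three {b : G} (hb : b ∈ AA w a) : b ^ 3 = 1 := by
  obtain ⟨i, j, rfl⟩ := p.mem_AA'.1 hb
  exact p.nf_three i j

theorem inj_one {i j : ℕ} (h : w ^ i * a ^ j = 1) : i % 3 = 0 ∧ j % 3 = 0 := by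
  haveI : Fact (Nat.Prime 3) := ⟨Nat.prime_three⟩
  have hj : j % 3 = 0 := by
    by_contra hj
    have h1 : a ^ j = w ^ (2 * i) := by
      rw [eq_inv_of_mul_eq_one_right h, inv_eq_iff_mul_eq_one, ← pow_add, show i + 2 * i = 3 * i by ring, pow_mul,
        p.w3, one_pow]
    have h2 : j * j % 3 = 1 := by
      have := Nat.mod_lt j (show 3 > 0 by norm_num)
      rw [Nat.mul_mod]
      interval_cases j % 3 <;> simp_all
    refine p.na (2 * i * j) ?_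
    rw [pow_mul, ← h1, ← pow_mul, ← pow_mod3 p.a3, h2, pow_one]
  rw [← pow_mod3 p.a3, hj, pow_zero, mul_one, ← orderOf_dvd_iff_pow_eq_one, orderOf_eq_prime p.w3 p.ne] at h
  exact ⟨Nat.mod_eq_zero_of_dvd h, hj⟩

theorem inj {i j i' j' : ℕ} (h : w ^ i * a ^ j = w ^ i' * a ^ j') : i % 3 = i' % 3 ∧ j % 3 = j' % 3 := by
  have h1 : w ^ (i + (i' + i')) * a ^ (j + (j' + j')) = 1 := by
    rw [← p.mul_nf, ← p.mul_nf, h, ← pow_three, p.nf_three]
  have := p.inj_one h1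
  omega

theorem symm : Pa a w := ⟨p.a_ne, p.a3, p.w3, p.comm.symm, fun i h => by
  have := (p.inj (i := 1) (j := 0) (i' := 0) (j' := i) (by simpa using h)).1
  omega⟩

theorem card_AA : Nat.card (AA w a) = 9 := by
  have : Function.Bijective fun q : Fin 3 × Fin 3 =>
      (⟨w ^ (q.1 : ℕ) * a ^ (q.2 : ℕ), p.mem_AA'.2 ⟨_, _, rfl⟩⟩ : AA w a) := by
    refine ⟨fun q r h => ?_, fun ⟨g, hg⟩ => ?_⟩
    · obtain ⟨h1, h2⟩ := p.inj (congrArg Subtype.val h)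
      rw [Nat.mod_eq_of_lt q.1.2, Nat.mod_eq_of_lt r.1.2] at h1
      rw [Nat.mod_eq_of_lt q.2.2, Nat.mod_eq_of_lt r.2.2] at h2
      exact Prod.ext (Fin.ext h1) (Fin.ext h2)
    · obtain ⟨i, hi, j, hj, rfl⟩ := p.mem_AA.1 hg
      exact ⟨(⟨i, hi⟩, ⟨j, hj⟩), rfl⟩
  rw [← Nat.card_eq_of_bijective _ this]; simp

theorem of_mem {w' a' : G} (hw : w' ∈ AA w a) (h1 : w' ≠ 1) (ha : a' ∈ AA w a) (h : ∀ i : ℕ, a' ≠ w' ^ i) :
    Pa w' a' ∧ AA w' a' = AA w a := by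
  have q : Pa w' a' := ⟨h1, p.A_three hw, p.A_three ha, p.A_comm ha hw, h⟩
  haveI : Finite (AA w a) := Nat.finite_of_card_ne_zero (by rw [p.card_AA]; norm_num)
  refine ⟨q, eq_of_le_of_card_ge ((closure_le _).2 ?_) (by rw [p.card_AA, q.card_AA])⟩
  rintro _ (rfl | rfl)
  exacts [hw, ha]

theorem exists_a {w' : G} (hw : w' ∈ AA w a) (h1 : w' ≠ 1) : ∃ a', Pa w' a' ∧ AA w' a' = AA w a := by
  by_cases h : ∀ i : ℕ, a ≠ w' ^ i
  · exact ⟨a, p.of_mem hw h1 p.a_mem h⟩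
  push Not at h
  obtain ⟨i, hi⟩ := h
  refine ⟨w, p.of_mem hw h1 p.w_mem fun j hj => ?_⟩
  have h3 := p.A_three hw
  have h2 : w ^ (2 * i) * a ^ j * w ^ i = a ^ j := by
    rw [← (p.cm.pow_pow (2 * i) j).symm.eq, mul_assoc, ← pow_add, show 2 * i + i = 3 * i by ring, pow_mul, p.w3]
    simp
  have h4 : w ^ (2 * i) * a ^ j = 1 := by
    have : a ^ j = w ^ i := by rw [hi, hj, ← pow_mul, ← pow_mul, mul_comm]
    rw [this] at h2 ⊢
    exact mul_eq_right.1 h2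
  refine p.ne ?_
  rw [hj, ← pow_mod3 h3, (p.inj_one h4).2, pow_zero]

theorem conj (g : G) : Pa (g * w * g⁻¹) (g * a * g⁻¹) :=
  ⟨fun h => p.ne (conj_eq_one_iff.1 h), by rw [conj_pow, p.w3]; simp, by rw [conj_pow, p.a3]; simp,
    comm_conj' p.comm, fun i h => p.na i (by rw [conj_pow] at h; simpa using h)⟩

/-- generation by centralisers -/
theorem le_of_cent [Finite G] {X Y : Subgroup G} (h3 : ¬ 3 ∣ Nat.card X) (hw : ∀ x ∈ X, w * x * w⁻¹ ∈ X)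
    (ha : ∀ x ∈ X, a * x * a⁻¹ ∈ X) (h : ∀ b ∈ AA w a, b ≠ 1 → ∀ x ∈ X, x * b = b * x → x ∈ Y) : X ≤ Y := by
  haveI : IsMulCommutative (AA w a) := ⟨⟨fun b c => Subtype.ext (p.A_comm b.2 c.2)⟩⟩
  have hA : ¬ IsCyclic (AA w a) := fun hc => by
    obtain ⟨g, hg⟩ := IsCyclic.exists_generator (α := AA w a)
    have h1 := orderOf_eq_card_of_forall_mem_zpowers hg
    have h2 : orderOf g ∣ 3 := orderOf_dvd_of_pow_eq_one (Subtype.ext (p.A_three g.2))
    rw [h1, p.card_AA] at h2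
    norm_num at h2
  have hAK : AA w a ≤ normalizer (X : Set G) := (closure_le _).2 (by
    rintro _ (rfl | rfl)
    exacts [mem_normalizer_fintype hw, mem_normalizer_fintype ha])
  have hc : (Nat.card (AA w a)).Coprime (Nat.card X) := by
    rw [p.card_AA]
    exact Nat.Coprime.pow_left 2 ((Nat.Prime.coprime_iff_not_dvd Nat.prime_three).2 h3)
  rw [← CfsgLib.Coprime.iSup_centralizer_eq hA hAK hc]
  exact iSup₂_le fun b hb x hx => h b hb.1 hb.2 x hx.1 (mem_centralizer_singleton_iff.1 hx.2)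

end Pa

/-- `g A g⁻¹ = A'` -/
def Cj (g : G) (A A' : Subgroup G) : Prop := ∀ a, a ∈ A ↔ g * a * g⁻¹ ∈ A'

theorem Pa.cj {w a : G} (p : Pa w a) (g : G) : Cj g (AA w a) (AA (g * w * g⁻¹) (g * a * g⁻¹)) := fun b => by
  rw [p.mem_AA', (p.conj g).mem_AA']
  refine exists_congr fun i => exists_congr fun j => ?_
  rw [conj_pow, conj_pow, conj_mul, mul_left_inj, mul_right_inj]

theorem Pa.cj_self {w a g : G} (p : Pa w a) (h1 : g * w * g⁻¹ ∈ AA w a) (h2 : g * a * g⁻¹ ∈ AA w a) :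
    Cj g (AA w a) (AA w a) := by
  have := p.cj g
  rwa [(p.of_mem h1 (p.conj g).ne h2 (p.conj g).na).2] at this

theorem Cj.symm {g : G} {A A' : Subgroup G} (h : Cj g A A') : Cj g⁻¹ A' A := fun a => by
  rw [h, show g * (g⁻¹ * a * g⁻¹⁻¹) * g⁻¹ = a by group]

theorem Cj.mem {g a : G} {A A' : Subgroup G} (h : Cj g A A') (ha : a ∈ A') : ∃ b ∈ A, a = g * b * g⁻¹ :=
  ⟨_, (h.symm a).1 ha, by group⟩

theorem InU.conj {g u : G} {A A' : Subgroup G} (h : Cj g A A') (hu : InU A u) : InU A' (g * u * g⁻¹) := by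
  refine ⟨fun a ha => ?_, by rw [conj_mul, hu.2]; simp⟩
  obtain ⟨b, hb, rfl⟩ := h.mem ha
  exact comm_conj' (hu.1 b hb)

theorem InF.conj {g w f : G} {A A' : Subgroup G} (h : Cj g A A') (hf : InF A w f) :
    InF A' (g * w * g⁻¹) (g * f * g⁻¹) := by
  refine ⟨comm_conj' hf.1, fun u hu => ?_, by rw [conj_mul, hf.2.2]; simp⟩
  have := comm_conj' (g := g) (hf.2.1 _ (hu.conj h.symm))
  rwa [show g * (g⁻¹ * u * g⁻¹⁻¹) * g⁻¹ = u by group] at this

theorem InD.conj {g w d : G} {A A' : Subgroup G} (h : Cj g A A') (hd : InD A w d) :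
    InD A' (g * w * g⁻¹) (g * d * g⁻¹) := by
  refine ⟨hd.1.conj h, fun a ha hn => ?_⟩
  obtain ⟨b, hb, rfl⟩ := h.mem ha
  have := hd.2 b hb fun i e => hn i (by rw [e, conj_pow])
  calc _ = g * (d * (b * d * b⁻¹) * (b⁻¹ * d * b)) * g⁻¹ := by group
    _ = 1 := by rw [this]; simp

theorem InF.inv {w f : G} {A : Subgroup G} (hf : InF A w f) : InF A w⁻¹ f := ⟨comm_inv_right.2 hf.1, hf.2⟩

theorem InD.inv {w d : G} {A : Subgroup G} (h3 : w ^ 3 = 1) (hd : InD A w d) : InD A w⁻¹ d := by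
  have e' : w = w⁻¹ ^ 2 := by rw [inv_pow, eq_inv_iff_mul_eq_one, ← pow_succ', h3]
  exact ⟨hd.1.inv, fun a ha hn => hd.2 a ha fun i e => hn (2 * i) (by rw [pow_mul, ← e', e])⟩

end CfsgLib.J4X
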