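import Mathlib
import Cfsg.Agent.Lib.J4X.LocB

/-!
# Local facts: the groups `U`, `F_w`, `D_w`
-/

set_option autoImplicit false

namespace CfsgLib.J4X

open Cfsg CfsgLib.Golay CfsgLib.M24E CfsgLib.J4T CfsgLib.J4T.G3 Subgroup
open scoped Pointwise

variable {G : Type*} [Group G]

theorem two_of_sq {a : G} (h : a * a = 1) : a ^ 2 ^ 1 = 1 := by rw [pow_one, pow_two, h]

theorem inv_of_sq {a : G} (h : a * a = 1) : a⁻¹ = a := inv_eq_of_mul_eq_one_right h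

theorem conj_conj_three {a f : G} (h : a ^ 3 = 1) : a * (a * f * a⁻¹) * a⁻¹ = a⁻¹ * f * a := by
  have e : a * a = a⁻¹ := by rw [eq_inv_iff_mul_eq_one, ← pow_three', h]
  calc _ = a * a * f * (a * a)⁻¹ := by group
    _ = _ := by rw [e, inv_inv]

/-- order of an elementary abelian subgroup with image in the hexad group -/
theorem KS0.card_of_image {w z : G} {θ : G → P24} (k : KS0 w z θ) {B : Subgroup G} (h1 : ∀ b ∈ B, b * w = w * b)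
    {L : List ℕ} (hL : L.Nodup) (hl : ∀ i ∈ L, i < 16) (h2 : ∀ p, (∃ b ∈ B, θ b = p) ↔ ∃ i ∈ L, p = pm (uE i))
    {Z : Subgroup G} (hZ : Z ≤ B) (h3 : ∀ b ∈ B, θ b = 1 ↔ b ∈ Z) : Nat.card B = L.length * Nat.card Z := by
  classical
  let f : B →* P24 := MonoidHom.mk' (fun b => θ b) fun a b => k.mul _ _ (h1 a a.2) (h1 b b.2)
  have hk : f.ker = Z.subgroupOf B := by ext b; exact h3 b b.2
  have hr : (f.range : Set P24) = ↑(L.map fun i => pm (uE i)).toFinset := by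
    ext p
    simp only [MonoidHom.coe_range, Set.mem_range, List.coe_toFinset, List.mem_map, Set.mem_ofPred_eq]
    constructor
    · rintro ⟨b, rfl⟩
      obtain ⟨i, hi, e⟩ := (h2 _).1 ⟨b, b.2, rfl⟩
      exact ⟨i, hi, e.symm⟩
    · rintro ⟨i, hi, e⟩
      obtain ⟨b, hb, e'⟩ := (h2 _).2 ⟨i, hi, e.symm⟩
      exact ⟨⟨b, hb⟩, e'⟩
  have hc : Nat.card f.range = L.length := by
    rw [← SetLike.coe_sort_coe, hr, Nat.card_coe_set_eq, Set.ncard_coe_finset, List.toFinset_card_of_nodup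
      (hL.map_on fun i hi j hj e => uE_injective (hl i hi) (hl j hj) e), List.length_map]
  rw [← card_mul_index f.ker, index_ker, hc, hk, Nat.card_congr (subgroupOfEquivOfLe hZ).toEquiv, mul_comm]

namespace Fm

variable {w a z : G} {θ : G → P24} (m : Fm w a z θ)
include m

theorem k0 : KS0 w z θ := m.ks.toKS0

theorem comm_A {u : G} (h1 : u * w = w * u) (h2 : u * a = a * u) : ∀ b ∈ AA w a, u * b = b * u := fun b hb => by
  obtain ⟨i, j, rfl⟩ := m.pa.mem_AA'.1 hb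
  exact (((show Commute u w from h1).pow_right i).mul_right ((show Commute u a from h2).pow_right j)).eq

theorem θ_a {d : G} (hd : d * w = w * d) {i : ℕ} (hi : i < 16) (e : θ d = pm (uE i)) :
    fA.getD i 0 < 16 ∧ θ (a * d * a⁻¹) = pm (uE (fA.getD i 0)) := by
  rw [m.k0.θ_conj m.pa.comm hd, m.θa, e]
  exact actF_spec actF_A hi

theorem U_iff {u : G} : InU (AA w a) u ↔ u * w = w * u ∧ u * u = 1 ∧ ∃ i ∈ [0, 1, 6, 7], θ u = pm (uE i) := by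
  constructor
  · rintro ⟨h1, h2⟩
    have hw := h1 w m.pa.w_mem
    refine ⟨hw, h2, (centA (m.ks.mem u hw).1 (m.ks.mem u hw).2 ?_).2 ?_⟩
    · rw [← m.θa, ← m.ks.mul _ _ hw m.pa.comm, ← m.ks.mul _ _ m.pa.comm hw, h1 a m.pa.a_mem]
    · rw [← m.ks.mul _ _ hw hw, h2, m.k0.θ_one]
  · rintro ⟨hw, h2, i, hi, e⟩
    have hl : ∀ u ∈ [0, 1, 6, 7], u < 16 ∧ fA.getD u 0 = u := by decide
    have h3 := (actF_spec actF_A (hl i hi).1).2
    rw [(hl i hi).2, mul_inv_eq_iff_eq_mul] at h3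
    exact ⟨m.comm_A hw (m.k0.comm_of_θ3 m.pa.comm hw m.pa.a3 (two_of_sq h2) (by rw [m.θa, e, h3])).symm, h2⟩

theorem exists_Ui {i : ℕ} (hi : i ∈ [0, 1, 6, 7]) : ∃ u, InU (AA w a) u ∧ θ u = pm (uE i) := by
  have hl : ∀ u ∈ [0, 1, 6, 7], u < 16 := by decide
  obtain ⟨u, h1, h2, h3⟩ := m.k0.exists_lift2 (uE_mem (hl i hi)) (uE_in (hl i hi)) (uE_sq (hl i hi))
  exact ⟨u, m.U_iff.2 ⟨h1, h3, i, hi, h2⟩, h2⟩

theorem θ_comm_U {c : G} (h1 : c ∈ N3 w) (h2 : ∀ u, InU (AA w a) u → c * u = u * c) {i : ℕ} (hi : i ∈ [0, 1, 6, 7]) :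
    θ c * pm (uE i) = pm (uE i) * θ c := by
  obtain ⟨u, hu, e⟩ := m.exists_Ui hi
  have hw := N3_of_comm (hu.1 w m.pa.w_mem)
  rw [← e, ← m.ks.mul2 _ h1 _ hw, ← m.ks.mul2 _ hw _ h1, h2 u hu]

theorem F_iff {f : G} : InF (AA w a) w f ↔ f * w = w * f ∧ f * f = 1 ∧ ∃ i < 16, θ f = pm (uE i) := by
  constructor
  · rintro ⟨hw, h1, h2⟩
    refine ⟨hw, h2, (centU (m.ks.mem f hw).1 (m.θ_comm_U (N3_of_comm hw) h1 (by simp))
      (m.θ_comm_U (N3_of_comm hw) h1 (by simp))).2.1 (m.ks.mem f hw).2 ?_⟩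
    rw [← m.ks.mul _ _ hw hw, h2, m.k0.θ_one]
  · rintro ⟨hw, h2, i, hi, e⟩
    refine ⟨hw, fun u hu => ?_, h2⟩
    obtain ⟨h3, h4, j, hj, e'⟩ := m.U_iff.1 hu
    have hl : ∀ u ∈ [0, 1, 6, 7], u < 16 := by decide
    exact m.k0.comm_of_θ hw h3 h2 h4 (by rw [e, e', uE_comm hi (hl j hj)])

theorem exists_Fi {i : ℕ} (hi : i < 16) : ∃ f, InF (AA w a) w f ∧ θ f = pm (uE i) := by
  obtain ⟨u, h1, h2, h3⟩ := m.k0.exists_lift2 (uE_mem hi) (uE_in hi) (uE_sq hi)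
  exact ⟨u, m.F_iff.2 ⟨h1, h3, i, hi, h2⟩, h2⟩

theorem F_comm {f g : G} (hf : InF (AA w a) w f) (hg : InF (AA w a) w g) : f * g = g * f := by
  obtain ⟨h1, h2, i, hi, e⟩ := m.F_iff.1 hf
  obtain ⟨h3, h4, j, hj, e'⟩ := m.F_iff.1 hg
  exact m.k0.comm_of_θ h1 h3 h2 h4 (by rw [e, e', uE_comm hi hj])

theorem F_mul {f g : G} (hf : InF (AA w a) w f) (hg : InF (AA w a) w g) : InF (AA w a) w (f * g) :=
  ⟨comm_mul hf.1 hg.1, fun u hu => comm_mul (hf.2.1 u hu) (hg.2.1 u hu), by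
    rw [mul_assoc, ← mul_assoc g, ← m.F_comm hf hg, mul_assoc, hg.2.2, mul_one, hf.2.2]⟩

theorem F_one : InF (AA w a) w 1 := ⟨by simp, by simp, by simp⟩

theorem cj_A {b : G} (hb : b ∈ AA w a) : Cj b (AA w a) (AA w a) :=
  m.pa.cj_self (mul_mem (mul_mem hb m.pa.w_mem) (inv_mem hb)) (mul_mem (mul_mem hb m.pa.a_mem) (inv_mem hb))

theorem F_A {b f : G} (hb : b ∈ AA w a) (hf : InF (AA w a) w f) : InF (AA w a) w (b * f * b⁻¹) := by
  have := hf.conj (m.cj_A hb)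
  rwa [m.pa.A_comm hb m.pa.w_mem, mul_inv_cancel_right] at this

theorem D_A {b d : G} (hb : b ∈ AA w a) (hd : InD (AA w a) w d) : InD (AA w a) w (b * d * b⁻¹) := by
  have := hd.conj (m.cj_A hb)
  rwa [m.pa.A_comm hb m.pa.w_mem, mul_inv_cancel_right] at this

theorem F_a' {f : G} (hf : InF (AA w a) w f) : InF (AA w a) w (a⁻¹ * f * a) := by
  have := m.F_A (inv_mem m.pa.a_mem) hf
  rwa [inv_inv] at this

theorem D_iff {d : G} : InD (AA w a) w d ↔ InF (AA w a) w d ∧ d * (a * d * a⁻¹) * (a⁻¹ * d * a) = 1 := by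
  refine ⟨fun h => ⟨h.1, h.2 a m.pa.a_mem m.pa.na⟩, fun h => ⟨h.1, fun b hb hn => ?_⟩⟩
  obtain ⟨i, -, j, hj, rfl⟩ := m.pa.mem_AA.1 hb
  have c1 : Commute (w ^ i) d := (show Commute d w from h.1.1).symm.pow_left i
  have c2 : Commute (w ^ i) (a ^ j) := m.pa.cm.pow_pow i j
  have e1 : w ^ i * a ^ j * d * (w ^ i * a ^ j)⁻¹ = a ^ j * d * (a ^ j)⁻¹ := by
    rw [c2.eq, mul_assoc (a ^ j), c1.eq]; group
  have e2 : (w ^ i * a ^ j)⁻¹ * d * (w ^ i * a ^ j) = (a ^ j)⁻¹ * d * a ^ j := by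
    rw [mul_assoc, ← mul_assoc d, ← c1.eq]; group
  rw [e1, e2]
  interval_cases j
  · exact absurd (by simp) (hn i)
  · rw [pow_one]; exact h.2
  · have e : a ^ 2 = a⁻¹ := by rw [eq_inv_iff_mul_eq_one, ← pow_succ, m.pa.a3]
    rw [e, inv_inv, mul_assoc, m.F_comm (m.F_a' h.1) (m.F_A m.pa.a_mem h.1), ← mul_assoc, h.2]

theorem θ_D {d : G} (hd : d * w = w * d) {i : ℕ} (hi : i < 16) (e : θ d = pm (uE i)) :
    θ (d * (a * d * a⁻¹) * (a⁻¹ * d * a)) = pm (uE (i ^^^ fA.getD i 0 ^^^ fA.getD (fA.getD i 0) 0)) := by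
  have hc := comm_mul (comm_mul m.pa.comm hd) (comm_inv m.pa.comm)
  obtain ⟨h1, e1⟩ := m.θ_a hd hi e
  obtain ⟨h2, e2⟩ := m.θ_a hc h1 e1
  rw [conj_conj_three m.pa.a3] at e2
  rw [m.ks.mul _ _ (comm_mul hd hc) (comm_mul (comm_mul (comm_inv m.pa.comm) hd) m.pa.comm), m.ks.mul _ _ hd hc, e,
    e1, e2, uE_mul hi h1, uE_mul (xor16 hi h1) h2]

theorem D_θ {d : G} (h : InD (AA w a) w d) : ∃ i ∈ [0, 3, 13, 14], θ d = pm (uE i) := by
  obtain ⟨h1, -, i, hi, e⟩ := m.F_iff.1 h.1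
  have h2 := m.θ_D h1 hi e
  have hl : ∀ i < 16, i ^^^ fA.getD i 0 ^^^ fA.getD (fA.getD i 0) 0 < 16 ∧
      (0 = i ^^^ fA.getD i 0 ^^^ fA.getD (fA.getD i 0) 0 → i ∈ [0, 3, 13, 14]) := by decide
  rw [(m.D_iff.1 h).2, m.k0.θ_one, ← uE_one] at h2
  exact ⟨i, (hl i hi).2 (uE_injective (by norm_num) (hl i hi).1 h2), e⟩

theorem D_of_F {f : G} (hf : InF (AA w a) w f) : InD (AA w a) w (f * (a * f * a⁻¹)) := by
  have h1 := m.F_A m.pa.a_mem hf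
  have h2 := m.F_a' hf
  refine m.D_iff.2 ⟨m.F_mul hf h1, ?_⟩
  have e1 : a * (f * (a * f * a⁻¹)) * a⁻¹ = a * f * a⁻¹ * (a⁻¹ * f * a) := by
    rw [← conj_mul, conj_conj_three m.pa.a3]
  have e2 : a⁻¹ * (f * (a * f * a⁻¹)) * a = a⁻¹ * f * a * f := by group
  rw [e1, e2]
  calc _ = f * (a * f * a⁻¹ * (a * f * a⁻¹) * (a⁻¹ * f * a * (a⁻¹ * f * a))) * f := by simp only [mul_assoc]
    _ = 1 := by rw [h1.2.2, h2.2.2, mul_one, mul_one, hf.2.2]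

theorem exists_D {i : ℕ} (hi : i ∈ [0, 3, 13, 14]) : ∃ d, InD (AA w a) w d ∧ θ d = pm (uE i) := by
  have hl : ∀ i ∈ [0, 3, 13, 14], ∃ j < 16, j ^^^ fA.getD j 0 = i := by decide
  obtain ⟨j, hj, e⟩ := hl i hi
  obtain ⟨f, hf, ef⟩ := m.exists_Fi hj
  obtain ⟨h1, e1⟩ := m.θ_a hf.1 hj ef
  exact ⟨_, m.D_of_F hf, by rw [m.ks.mul _ _ hf.1 (m.F_A m.pa.a_mem hf).1, ef, e1, uE_mul hj h1, e]⟩

theorem D_inj {d e : G} (hd : InD (AA w a) w d) (he : InD (AA w a) w e) (h : θ d = θ e) : d = e := by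
  rcases m.k0.eq_of_two hd.1.1 he.1.1 h (two_of_sq hd.1.2.2) (two_of_sq he.1.2.2) with h1 | h1
  · exact h1
  have h2 := (m.D_iff.1 hd).2
  have za : Commute a z := m.ks.z_comm a m.pa.comm
  have ze : Commute e z := m.ks.z_comm e he.1.1
  have c1 : Commute (a * e * a⁻¹) z := (za.mul_left ze).mul_left za.inv_left
  have e1 : a * (z * e) * a⁻¹ = z * (a * e * a⁻¹) := by rw [← mul_assoc, za.eq]; group
  have e2 : a⁻¹ * (z * e) * a = z * (a⁻¹ * e * a) := by rw [← mul_assoc, za.inv_left.eq]; group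
  rw [h1, e1, e2, ← mul_assoc (z * e), mul_assoc z e, ze.eq, ← mul_assoc z z, m.ks.zz, one_mul, ← mul_assoc,
    (ze.mul_left c1).eq, mul_assoc, (m.D_iff.1 he).2, mul_one] at h2
  rw [h1, h2, one_mul]

theorem z_U : InU (AA w a) z := m.U_iff.2 ⟨m.k0.z_w, m.ks.zz, 0, by simp, by rw [m.k0.θ_z, uE_one]⟩

theorem U_F {u : G} (h : InU (AA w a) u) : InF (AA w a) w u := by
  obtain ⟨h3, h4, j, hj, e'⟩ := m.U_iff.1 h
  have hl : ∀ u ∈ [0, 1, 6, 7], u < 16 := by decide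
  exact m.F_iff.2 ⟨h3, h4, j, hl j hj, e'⟩

theorem U_mul {u v : G} (hu : InU (AA w a) u) (hv : InU (AA w a) v) : InU (AA w a) (u * v) :=
  ⟨fun b hb => comm_mul (hu.1 b hb) (hv.1 b hb), (m.F_mul (m.U_F hu) (m.U_F hv)).2.2⟩

theorem D_mul {d e : G} (hd : InD (AA w a) w d) (he : InD (AA w a) w e) : InD (AA w a) w (d * e) := by
  refine m.D_iff.2 ⟨m.F_mul hd.1 he.1, ?_⟩
  have d1 := m.F_A m.pa.a_mem hd.1
  have d2 := m.F_a' hd.1
  have e1 := m.F_A m.pa.a_mem he.1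
  have h1 : a⁻¹ * (d * e) * a = a⁻¹ * d * a * (a⁻¹ * e * a) := by group
  rw [← conj_mul, h1]
  calc _ = d * (e * (a * d * a⁻¹) * (a * e * a⁻¹ * (a⁻¹ * d * a))) * (a⁻¹ * e * a) := by simp only [mul_assoc]
    _ = d * (a * d * a⁻¹ * (e * (a⁻¹ * d * a)) * (a * e * a⁻¹)) * (a⁻¹ * e * a) := by
      rw [m.F_comm he.1 d1, m.F_comm e1 d2]; simp only [mul_assoc]
    _ = d * (a * d * a⁻¹) * (a⁻¹ * d * a) * (e * (a * e * a⁻¹) * (a⁻¹ * e * a)) := by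
      rw [m.F_comm he.1 d2]; simp only [mul_assoc]
    _ = 1 := by rw [(m.D_iff.1 hd).2, (m.D_iff.1 he).2, mul_one]

theorem D_U {d : G} (hd : InD (AA w a) w d) (hu : InU (AA w a) d) : d = 1 := by
  have h := (m.D_iff.1 hd).2
  have c := hu.1 a m.pa.a_mem
  rwa [← c, mul_inv_cancel_right, mul_assoc a⁻¹, c, inv_mul_cancel_left, hu.2, one_mul] at h

theorem F_dec {f : G} (hf : InF (AA w a) w f) : ∃ u d, InU (AA w a) u ∧ InD (AA w a) w d ∧ f = u * d := by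
  have h1 := m.F_A m.pa.a_mem hf
  have h2 := m.F_a' hf
  have hd := m.D_of_F h1
  rw [conj_conj_three m.pa.a3] at hd
  have hu := m.F_mul hf hd.1
  refine ⟨_, _, ⟨m.comm_A hu.1 ?_, hu.2.2⟩, hd, by rw [mul_assoc, hd.1.2.2, mul_one]⟩
  rw [eq_comm, ← mul_inv_eq_iff_eq_mul, ← conj_mul, ← conj_mul, conj_conj_three m.pa.a3,
    show a * (a⁻¹ * f * a) * a⁻¹ = f by group, ← mul_assoc, m.F_comm hd.1 hf]

theorem D_one : InD (AA w a) w 1 := m.D_iff.2 ⟨m.F_one, by simp⟩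

theorem D_four : ∃ d, d ≠ 1 ∧ a * d * a⁻¹ ≠ d ∧ ∀ e, InD (AA w a) w e ↔
    e = 1 ∨ e = d ∨ e = a * d * a⁻¹ ∨ e = a⁻¹ * d * a := by
  obtain ⟨d, hd, e⟩ := m.exists_D (i := 3) (by simp)
  have d1 := m.D_A m.pa.a_mem hd
  have d2 := m.D_A m.pa.a_mem d1
  have e1 := (m.θ_a hd.1.1 (by norm_num) e).2
  have e2 := (m.θ_a d1.1.1 (by decide) e1).2
  rw [conj_conj_three m.pa.a3] at d2 e2
  refine ⟨d, fun h => ?_, fun h => ?_, fun f => ⟨fun hf => ?_, ?_⟩⟩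
  · rw [h, m.k0.θ_one, ← uE_one] at e
    exact absurd (uE_injective (by norm_num) (by norm_num) e) (by norm_num)
  · rw [h, e] at e1
    exact absurd (uE_injective (by norm_num) (by decide) e1) (by decide)
  · obtain ⟨i, hi, ef⟩ := m.D_θ hf
    simp only [List.mem_cons, List.not_mem_nil, or_false] at hi
    rcases hi with rfl | rfl | rfl | rfl
    · exact Or.inl (m.D_inj hf m.D_one (by rw [ef, m.k0.θ_one, uE_one]))
    · exact Or.inr (Or.inl (m.D_inj hf hd (by rw [ef, e])))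
    · exact Or.inr (Or.inr (Or.inr (m.D_inj hf d2 (by rw [ef, e2]; rfl))))
    · exact Or.inr (Or.inr (Or.inl (m.D_inj hf d1 (by rw [ef, e1]; rfl))))
  · rintro (rfl | rfl | rfl | rfl)
    exacts [m.D_one, hd, d1, d2]

/-- an element whose image normalises the hexad group normalises `F_w` -/
theorem F_conj {k f : G} (hk : k ∈ N3 w) (h : θ k • ofMask o0 = ofMask o0) (hf : InF (AA w a) w f) :
    InF (AA w a) w (k * f * k⁻¹) := by
  obtain ⟨h1, h2, i, hi, e⟩ := m.F_iff.1 hf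
  refine m.F_iff.2 ⟨N3_comm hk h1, by rw [conj_mul, h2]; simp, ?_⟩
  rw [m.ks.θ_conj2 hk (N3_of_comm h1), e]
  exact conj_uE (DD_le (m.ks.mem2 k hk)) h hi

/-- two elements with the same image -/
theorem eq_ker {b c : G} (hb : b * w = w * b) (hc : c * w = w * c) (h : θ c = θ b) :
    ∃ s t : ℕ, c = z ^ s * w ^ t * b := by
  obtain ⟨s, t, e⟩ := (m.ks.ker _ (comm_mul hc (comm_inv hb))).1 (m.k0.θ_eq hc hb h)
  exact ⟨s, t, mul_inv_eq_iff_eq_mul.1 e⟩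

theorem U_one : InU (AA w a) 1 := ⟨by simp, by simp⟩

theorem zpow_U (s : ℕ) : InU (AA w a) (z ^ s) := by
  rcases sq_pow_cases m.ks.zz s with h | h <;> rw [h]
  exacts [m.U_one, m.z_U]

theorem cent_A [Finite G] {c : G} (h1 : c * w = w * c) (h2 : c * a = a * c) :
    ∃ u, InU (AA w a) u ∧ ∃ b ∈ AA w a, c = u * b := by
  obtain ⟨i, hi, j, -, l, -, e⟩ := (centA (m.ks.mem c h1).1 (m.ks.mem c h1).2 (by
    rw [← m.θa, ← m.ks.mul _ _ h1 m.pa.comm, ← m.ks.mul _ _ m.pa.comm h1, h2])).1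
  obtain ⟨u, hu, eu⟩ := m.exists_Ui hi
  obtain ⟨r, hr, r3, er, hθ⟩ := m.k0.exists_r m.pa.comm m.pa.a3 m.θa
  obtain ⟨n, hn⟩ : ∃ n : ℕ, θ (r ^ n) = pm qB ^ l := by
    rcases hθ with h | h
    · exact ⟨l, by rw [m.k0.θ_pow hr, h]⟩
    · refine ⟨2 * l, ?_⟩
      rw [m.k0.θ_pow hr, h, pow_mul, inv_pow, show (pm qB ^ 2)⁻¹ = pm qB by
        rw [inv_eq_iff_mul_eq_one, ← pow_succ, B3]]
  have uw := hu.1 w m.pa.w_mem
  have ua := hu.1 a m.pa.a_mem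
  have hb := comm_mul (comm_pow m.pa.comm j) (comm_pow hr n)
  obtain ⟨s, t, ec⟩ := m.eq_ker (comm_mul uw hb) h1 (by
    rw [m.ks.mul _ _ uw hb, m.ks.mul _ _ (comm_pow m.pa.comm j) (comm_pow hr n), eu, hn, m.k0.θ_pow m.pa.comm, m.θa, e])
  have c1 : Commute (z ^ s * w ^ t * (u * a ^ j)) a :=
    Commute.mul_left (Commute.mul_left ((m.zpow_U s).1 a m.pa.a_mem) (m.pa.cm.pow_left t))
      (Commute.mul_left ua ((Commute.refl a).pow_left j))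
  have c2 : Commute (r ^ n) a := by
    have := c1.inv_left.mul_left (show Commute c a from h2)
    rwa [ec, show (z ^ s * w ^ t * (u * a ^ j))⁻¹ * (z ^ s * w ^ t * (u * (a ^ j * r ^ n))) = r ^ n by group] at this
  have h3 := conj_pow_of_central (a := r) (b := a) (c := w) (by rw [er, m.pa.comm]) hr.symm n
  rw [c2.eq, mul_inv_cancel_right, right_eq_mul, ← orderOf_dvd_iff_pow_eq_one, m.k0.orderOf_w] at h3
  obtain ⟨n, rfl⟩ := h3
  refine ⟨z ^ s * u, m.U_mul (m.zpow_U s) hu, w ^ t * a ^ j, m.pa.mem_AA'.2 ⟨_, _, rfl⟩, ?_⟩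
  rw [ec, pow_mul, r3, one_pow, mul_one, mul_assoc, ← mul_assoc (w ^ t), ← ((show Commute u w from uw).pow_right t).eq]
  simp only [mul_assoc]

theorem cent_U {c : G} (h1 : c * w = w * c) (h2 : ∀ u, InU (AA w a) u → c * u = u * c) :
    ∃ f, InF (AA w a) w f ∧ ∃ b ∈ AA w a, c = f * b := by
  obtain ⟨i, hi, j, -, e⟩ := (centU (m.ks.mem c h1).1 (m.θ_comm_U (N3_of_comm h1) h2 (by simp))
    (m.θ_comm_U (N3_of_comm h1) h2 (by simp))).1 (m.ks.mem c h1).2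
  obtain ⟨f, hf, ef⟩ := m.exists_Fi hi
  have hb := comm_pow m.pa.comm j
  obtain ⟨s, t, ec⟩ := m.eq_ker (comm_mul hf.1 hb) h1 (by
    rw [m.ks.mul _ _ hf.1 hb, ef, m.k0.θ_pow m.pa.comm, m.θa, e])
  refine ⟨z ^ s * f, m.F_mul (m.U_F (m.zpow_U s)) hf, w ^ t * a ^ j, m.pa.mem_AA'.2 ⟨_, _, rfl⟩, ?_⟩
  rw [ec, mul_assoc, ← mul_assoc (w ^ t), ← ((show Commute f w from hf.1).pow_right t).eq]
  simp only [mul_assoc]

theorem cent_Y {c : G} (h1 : c ∈ N3 w) (h2 : ∀ u, InU (AA w a) u → c * u = u * c)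
    (h3 : ∀ f, InF (AA w a) w f → InU (AA w a) (c * f * c⁻¹ * f⁻¹)) :
    ∃ f, InF (AA w a) w f ∧ ∃ i : ℕ, c = f * w ^ i := by
  have key : ∀ j < 16, ∃ u ∈ [0, 1, 6, 7], θ c * pm (uE j) = pm (uE (u ^^^ j)) * θ c := fun j hj => by
    obtain ⟨f, hf, ef⟩ := m.exists_Fi hj
    obtain ⟨-, -, u, hu, e⟩ := m.U_iff.1 (h3 f hf)
    have hl : ∀ u ∈ [0, 1, 6, 7], u < 16 := by decide
    have hn := N3_of_comm hf.1
    rw [m.ks.mul2 _ (mul_mem (mul_mem h1 hn) (inv_mem h1)) _ (inv_mem hn), m.ks.θ_conj2 h1 hn, m.ks.θ_inv2 hn, ef] at e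
    exact ⟨u, hu, by rw [← uE_mul (hl u hu) hj, ← e]; group⟩
  obtain ⟨i, hi, e⟩ := (centU (m.ks.mem2 c h1) (m.θ_comm_U h1 h2 (by simp)) (m.θ_comm_U h1 h2 (by simp))).2.2
    (key 3 (by norm_num)) (key 13 (by norm_num))
  obtain ⟨f, hf, ef⟩ := m.exists_Fi hi
  obtain ⟨s, t, ec⟩ := m.eq_ker hf.1 (m.ks.inner c h1 (by rw [e, uE_in hi])) (by rw [e, ef])
  refine ⟨z ^ s * f, m.F_mul (m.U_F (m.zpow_U s)) hf, t, ?_⟩
  rw [ec, mul_assoc, ← ((show Commute f w from hf.1).pow_right t).eq, mul_assoc]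

theorem ker_F {f : G} (hf : InF (AA w a) w f) : θ f = 1 ↔ f ∈ zpowers z := by
  constructor
  · intro h
    rcases m.k0.ker_two hf.1 h (two_of_sq hf.2.2) with e | e <;> rw [e]
    exacts [one_mem _, mem_zpowers _]
  · rintro ⟨n, rfl⟩
    have : zpowers z ≤ (m.k0.hom.ker.map (centralizer {w}).subtype) := by
      rw [zpowers_le]
      exact ⟨⟨z, mem_centralizer_singleton_iff.2 m.k0.z_w⟩, m.k0.θ_z, rfl⟩
    obtain ⟨x, hx, e⟩ := this (zpow_mem (mem_zpowers z) n)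
    rw [← show (x : G) = (fun x => z ^ x) n from e]
    exact hx

/-- `U` as a subgroup -/
theorem exists_U [Finite G] : ∃ U : Subgroup G, (∀ u, u ∈ U ↔ InU (AA w a) u) ∧ Nat.card U = 4 * orderOf z := by
  let U : Subgroup G := ⟨⟨⟨{u | InU (AA w a) u}, m.U_mul⟩, m.U_one⟩, fun {u} hu => by rwa [inv_of_sq hu.2]⟩
  refine ⟨U, fun _ => Iff.rfl, ?_⟩
  rw [← Nat.card_zpowers]
  refine m.k0.card_of_image (B := U) (fun b hb => hb.1 w m.pa.w_mem) (L := [0, 1, 6, 7]) (by decide) (by decide)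
    (fun p => ⟨?_, ?_⟩) (zpowers_le.2 m.z_U) fun b hb => m.ker_F (m.U_F hb)
  · rintro ⟨b, hb, rfl⟩
    exact (m.U_iff.1 hb).2.2
  · rintro ⟨i, hi, rfl⟩
    exact m.exists_Ui hi

/-- `F_w` as a subgroup -/
theorem exists_F [Finite G] : ∃ F : Subgroup G, (∀ f, f ∈ F ↔ InF (AA w a) w f) ∧ Nat.card F = 16 * orderOf z := by
  let U : Subgroup G := ⟨⟨⟨{u | InF (AA w a) w u}, m.F_mul⟩, m.F_one⟩, fun {u} hu => by rwa [inv_of_sq hu.2.2]⟩
  refine ⟨U, fun _ => Iff.rfl, ?_⟩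
  rw [← Nat.card_zpowers]
  refine m.k0.card_of_image (B := U) (fun b hb => hb.1) (L := List.range 16) (by decide) (by decide)
    (fun p => ⟨?_, ?_⟩) (zpowers_le.2 (m.U_F m.z_U)) fun b hb => m.ker_F hb
  · rintro ⟨b, hb, rfl⟩
    obtain ⟨i, hi, e⟩ := (m.F_iff.1 hb).2.2
    exact ⟨i, List.mem_range.2 hi, e⟩
  · rintro ⟨i, hi, rfl⟩
    exact m.exists_Fi (List.mem_range.1 hi)

/-- `D_w` as a subgroup -/
theorem exists_Dg : ∃ D : Subgroup G, (∀ d, d ∈ D ↔ InD (AA w a) w d) ∧ Nat.card D = 4 := by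
  let U : Subgroup G := ⟨⟨⟨{u | InD (AA w a) w u}, m.D_mul⟩, m.D_one⟩, fun {u} hu => by rwa [inv_of_sq hu.1.2.2]⟩
  refine ⟨U, fun _ => Iff.rfl, ?_⟩
  rw [m.k0.card_of_image (B := U) (fun b hb => hb.1.1) (L := [0, 3, 13, 14]) (by decide) (by decide)
    (fun p => ⟨?_, ?_⟩) bot_le fun b hb => ⟨fun h => m.D_inj hb m.D_one (by rw [h, m.k0.θ_one]),
      fun h => by rw [mem_bot.1 h, m.k0.θ_one]⟩, card_bot]
  · rfl
  · rintro ⟨b, hb, rfl⟩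
    exact m.D_θ hb
  · rintro ⟨i, hi, rfl⟩
    exact m.exists_D hi

end Fm

namespace Gl

variable (g : Gl G)

theorem fm {w a : G} (p : Pa w a) : ∃ θ, Fm w a (g.zf w) θ := by
  obtain ⟨θ, k⟩ := g.ks w p.ne p.w3
  obtain ⟨r, hr, -, e⟩ := class3 (k.mem a p.comm).1 (by rw [← k.toKS0.θ_pow p.comm, p.a3, k.toKS0.θ_one])
    (k.toKS0.θ_ne p)
  exact ⟨_, k.twist (inv_mem hr), p, by rw [← e]; group⟩

include g in
theorem exists_pa {w : G} (h1 : w ≠ 1) (h3 : w ^ 3 = 1) : ∃ a, Pa w a := by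
  obtain ⟨θ, k⟩ := g.ks w h1 h3
  obtain ⟨a, ha, e, a3⟩ := k.toKS0.exists_lift3 (is22_spec is22_A).2.1 (is22_spec is22_A).2.2 A3
  exact ⟨a, k.toKS0.pa_of_θ ha a3 (e ▸ A_ne)⟩

theorem zf_conj {w : G} (h1 : w ≠ 1) (h3 : w ^ 3 = 1) (c : G) : g.zf (c * w * c⁻¹) = c * g.zf w * c⁻¹ := by
  obtain ⟨θ, k⟩ := g.ks w h1 h3
  obtain ⟨θ', k'⟩ := g.ks (c * w * c⁻¹) (k.conj c).ne (k.conj c).three
  exact (k.conj c).z_unique k'

theorem zf_inv {w : G} (h1 : w ≠ 1) (h3 : w ^ 3 = 1) : g.zf w⁻¹ = g.zf w := by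
  obtain ⟨θ, k⟩ := g.ks w h1 h3
  obtain ⟨θ', k'⟩ := g.ks w⁻¹ k.inv.ne k.inv.three
  exact k.inv.z_unique k'

theorem zf_U {x y w : G} (p : Pa x y) (hw : w ∈ AA x y) (h1 : w ≠ 1) : InU (AA x y) (g.zf w) := by
  obtain ⟨a, q, e⟩ := p.exists_a hw h1
  obtain ⟨θ, m⟩ := g.fm q
  exact e ▸ m.z_U

/-- case B: the four involutions are different -/
theorem zf_ne [Finite G] {x y : G} (p : Pa x y) (h : g.zf y ≠ g.zf x) {w a : G} (q : Pa w a) : g.zf a ≠ g.zf w := by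
  intro e
  obtain ⟨c, rfl⟩ := isConj_iff.1 (g.conj x w p.ne p.w3 q.ne q.w3)
  obtain ⟨θ, k⟩ := g.ks _ q.ne q.w3
  obtain ⟨d, hd, rfl⟩ := k.toKS0.conj3 (p.conj c) q
  rw [g.zf_conj (p.conj c).a_ne (p.conj c).a3, g.zf_conj p.a_ne p.a3, mul_inv_eq_iff_eq_mul, ← k.z_comm d hd,
    g.zf_conj p.ne p.w3] at e
  exact h (by simpa using e)

end Gl

end CfsgLib.J4X
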