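import Mathlib
import Cfsg.Agent.Lib.J4X.Loc
import Cfsg.Agent.Lib.J4X.AllAa

/-!
# The case `AllC` is impossible if all `z_w` are trivial
-/

set_option autoImplicit false

namespace CfsgLib.J4X

open Cfsg CfsgLib.Golay CfsgLib.M24E CfsgLib.J4T CfsgLib.J4T.G3 Subgroup
open scoped Pointwise

variable {G : Type*} [Group G] [Finite G]

namespace Al

omit [Finite G] in
theorem eq_of_θ {w : G} {θ : G → P24} (k : KS0 w 1 θ) {a b : G} (ha : a * w = w * a)
    (hb : b * w = w * b) (a2 : a * a = 1) (b2 : b * b = 1) (h : θ a = θ b) : a = b := by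
  have h1 := k.comm_of_θ ha hb a2 b2 (by rw [h])
  have h2 : a * b * w = w * (a * b) := by rw [mul_assoc, hb, ← mul_assoc, ha, mul_assoc]
  have h3 := k.ker_two h2 (by rw [k.mul a b ha hb, h, ← k.mul b b hb hb, b2, k.θ_one]) (n := 1)
    (by rw [pow_one, pow_two, mul_assoc, ← mul_assoc b, ← h1, mul_assoc, b2, mul_one, a2])
  rw [or_self] at h3
  rw [← mul_one a, ← b2, ← mul_assoc, h3, one_mul]

theorem T_rel : pm (sg 1) * (pm qA * pm (sg 1) * (pm qA)⁻¹) = (pm qA)⁻¹ * pm (sg 1) * pm qA := by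
  have hs := pm_rp (is22_spec (is22_sg (i := 1) (by norm_num))).1
  have ha := pm_rp isM_A
  have : pm qA * (pm (sg 1) * (pm qA * pm (sg 1))) = pm (sg 1) * (pm qA * pm qA) :=
    ((ha.mul (hs.mul (ha.mul hs))).eqF_iff (hs.mul (ha.mul ha))).1 (by decide +kernel)
  calc _ = (pm qA)⁻¹ * (pm qA * (pm (sg 1) * (pm qA * pm (sg 1)))) * (pm qA)⁻¹ := by group
    _ = _ := by rw [this]; group

theorem T_sq : pm (sg 1) * pm (sg 1) = 1 := by
  have hs := pm_rp (is22_spec (is22_sg (i := 1) (by norm_num))).1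
  exact ((hs.mul hs).eqF_iff Rp.one).1 (by decide +kernel)

theorem T_stab : pm (sg 1) • ofMask o0 = ofMask o0 :=
  ((pm_rp (is22_spec (is22_sg (i := 1) (by norm_num))).1).setFix_iff _).1 (by decide +kernel)

omit [Finite G] in
theorem VV_comm {A : Subgroup G} (h : AllC A) {a b : G} (ha : a ∈ VV A) (hb : b ∈ VV A) :
    a * b = b * a := by
  refine closure_induction₂ (p := fun a b _ _ => Commute a b) ?_ (fun _ _ => Commute.one_left _)
    (fun _ _ => Commute.one_right _) (fun _ _ _ _ _ _ => Commute.mul_left)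
    (fun _ _ _ _ _ _ => Commute.mul_right) (fun _ _ _ _ => Commute.inv_left)
    (fun _ _ _ _ => Commute.inv_right) ha hb
  rintro a b ⟨w, h1, h2, h3⟩ ⟨w', h4, h5, h6⟩
  exact h.comm w h1 h2 w' h4 h5 a b h3 h6

omit [Finite G] in
theorem VV_sq {A : Subgroup G} (h : AllC A) {a : G} (ha : a ∈ VV A) : a * a = 1 := by
  induction ha using closure_induction with
  | mem a ha => exact ha.choose_spec.2.2.2.2
  | one => simp
  | mul a b ha hb h1 h2 => rw [mul_assoc, ← mul_assoc b, ← VV_comm h ha hb, mul_assoc, h2, mul_one, h1]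
  | inv a _ h1 => rw [← mul_inv_rev, h1, inv_one]

theorem mem_norm {A : Subgroup G} {k : G}
    (h : ∀ w ∈ A, w ≠ 1 → ∀ f, InF A w f → k * f * k⁻¹ ∈ VV A) :
    k ∈ normalizer (VV A : Set G) := by
  refine mem_normalizer_fintype fun v hv => ?_
  induction hv using closure_induction with
  | mem a ha => obtain ⟨w, h1, h2, h3⟩ := ha; exact h w h1 h2 a h3
  | one => simpa using (VV A).one_mem
  | mul a b _ _ h1 h2 => simpa [mul_assoc] using (VV A).mul_mem h1 h2
  | inv a _ h1 => simpa [mul_assoc] using (VV A).inv_mem h1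

theorem mem_norm_of_cj {A : Subgroup G} {k : G} (h : Cj k A A) : k ∈ normalizer (VV A : Set G) :=
  mem_norm fun w h1 h2 f h3 => subset_closure ⟨_, (h w).1 h1, by simpa using h2, h3.conj h⟩

end Al

open Al in
theorem Gl.allA (g : Gl G) {x y : G} (p : Pa x y) (h : ∀ w : G, w ≠ 1 → w ^ 3 = 1 → g.zf w = 1) :
    ¬ AllC (AA x y) := by
  intro hA
  obtain ⟨A, eA⟩ : ∃ A, AA x y = A := ⟨_, rfl⟩
  have sw : ∀ a b : G, AA a b = AA b a := fun a b => by rw [AA, AA, Set.pair_comm]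
  have fm : ∀ {w a : G}, Pa w a → ∃ θ, Fm w a 1 θ := fun q => h _ q.ne q.w3 ▸ g.fm q
  obtain ⟨θ, m⟩ := fm p.symm
  have hyA : y ∈ A := eA ▸ p.a_mem
  rw [eA] at hA
  let : CommGroup (VV A) :=
    { (inferInstance : Group (VV A)) with mul_comm := fun a b => Subtype.ext (VV_comm hA a.2 b.2) }
  let : DistribMulAction (normalizer (VV A : Set G)) (Additive (VV A)) :=
    { smul := fun k v => Additive.ofMul ⟨k * v.toMul * k⁻¹, (k.2 _).1 v.toMul.2⟩
      one_smul := fun v => Additive.toMul.injective (Subtype.ext (show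
        (1 : G) * v.toMul * 1⁻¹ = v.toMul by simp))
      mul_smul := fun a b v => Additive.toMul.injective (Subtype.ext (show
        ((a : G) * b) * v.toMul * ((a : G) * b)⁻¹ = a * (b * v.toMul * (b : G)⁻¹) * (a : G)⁻¹ by group))
      smul_zero := fun a => Additive.toMul.injective (Subtype.ext (show
        (a : G) * 1 * (a : G)⁻¹ = 1 by simp))
      smul_add := fun a v w => Additive.toMul.injective (Subtype.ext (show
        (a : G) * (v.toMul * w.toMul) * (a : G)⁻¹ =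
          a * v.toMul * (a : G)⁻¹ * (a * w.toMul * (a : G)⁻¹) by group)) }
  let c : Additive (VV A) → G := fun v => v.toMul
  have ci : ∀ {v w}, v = w ↔ c v = c w :=
    ⟨congrArg c, fun e => Additive.toMul.injective (Subtype.ext e)⟩
  have cs : ∀ (k : normalizer (VV A : Set G)) v, c (k • v) = k * c v * (k : G)⁻¹ := fun _ _ => rfl
  have ca : ∀ v w, c (v + w) = c v * c w := fun _ _ => rfl
  have c0 : c 0 = 1 := rfl
  have cm : ∀ v, c v ∈ VV A := fun v => v.toMul.2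
  have cx : ∀ f ∈ VV A, ∃ v, c v = f := fun f hf => ⟨Additive.ofMul ⟨f, hf⟩, rfl⟩
  have cf : ∀ (k : normalizer (VV A : Set G)) v, k • v = v ↔ c v * k = k * c v := fun k v => by
    rw [ci, cs, mul_inv_eq_iff_eq_mul, eq_comm]
  have cP : ∀ (k : normalizer (VV A : Set G)) v, P k v = 0 ↔
      c v * (k * c v * (k : G)⁻¹) * ((k : G)⁻¹ * c v * k) = 1 := fun k v => by
    rw [ci, P_apply, ca, ca, cs, cs, c0, coe_inv, inv_inv]
  have two : ∀ v : Additive (VV A), v + v = 0 := fun v => ci.2 (VV_sq hA (cm v))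
  have inV : ∀ {w f : G}, w ∈ A → w ≠ 1 → InF A w f → f ∈ VV A := fun h1 h2 h3 =>
    subset_closure ⟨_, h1, h2, h3⟩
  have eA' : AA y x = A := (sw y x).trans eA
  have UV : ∀ u, InU A u → u ∈ VV A := fun u hu => inV hyA p.a_ne (eA' ▸ m.U_F (eA' ▸ hu))
  have toF : ∀ (w : G) v, c v * w = w * c v → InF A w (c v) := fun w v e =>
    ⟨e, fun u hu => VV_comm hA (cm v) (UV u hu), VV_sq hA (cm v)⟩
  have nA : ∀ a ∈ A, a ∈ normalizer (VV A : Set G) := fun a ha => mem_norm_of_cj (by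
    subst eA
    refine p.cj_self ?_ ?_
    · rw [p.A_comm ha p.w_mem, mul_inv_cancel_right]; exact p.w_mem
    · rw [p.A_comm ha p.a_mem, mul_inv_cancel_right]; exact p.a_mem)
  have trF : ∀ {B : Subgroup G}, B = A → ∀ {w f}, InF B w f ↔ InF A w f := fun e => by simp [e]
  have trU : ∀ {B : Subgroup G}, B = A → ∀ {f}, InU B f ↔ InU A f := fun e => by simp [e]
  have four : ∀ w : normalizer (VV A : Set G), Pa w.1 y → AA w.1 y = A →
      Four (Additive (VV A)) ⟨y, nA y hyA⟩ w ∧ ∃ e : Additive (VV A), e ≠ 0 ∧ w • e = e ∧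
        P (⟨y, nA y hyA⟩ : normalizer (VV A : Set G)) e = 0 := fun w q e => by
    obtain ⟨θ', m'⟩ := fm q
    obtain ⟨d, d1, -, hd⟩ := m'.D_four
    have h1 := m'.D_iff.1 ((hd d).2 (Or.inr (Or.inl rfl)))
    obtain ⟨d, rfl⟩ := cx d (inV (e.le q.w_mem) q.ne ((trF e).1 h1.1))
    refine ⟨⟨d, fun v h2 h3 => ?_⟩, d, fun h2 => d1 (ci.1 h2), (cf _ _).2 h1.1.1, (cP _ _).2 h1.2⟩
    have := (hd (c v)).1 (m'.D_iff.2 ⟨(trF e).2 (toF _ v ((cf _ _).1 h2)), (cP _ _).1 h3⟩)
    simpa only [ci, cs, c0, coe_inv, inv_inv] using this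
  have k := m.ks.toKS0
  obtain ⟨-, hT, hT0⟩ := is22_spec (is22_sg (i := 1) (by norm_num))
  obtain ⟨t, ty, θt, tt⟩ := k.exists_lift2 hT hT0 T_sq
  have ti : t⁻¹ = t := inv_eq_of_mul_eq_one_right tt
  have nt : t ∈ normalizer (VV A : Set G) := mem_norm fun w h1 h2 f h3 =>
    hA.two y hyA p.a_ne _ (fun f' h4 => by
      have h5 := m.F_conj (N3_of_comm ty) (θt ▸ T_stab) (eA' ▸ h4)
      have h6 := hA.comm w h1 h2 y hyA p.a_ne _ _ h3 (eA' ▸ h5)
      calc t * f * t⁻¹ * f' = t * (f * (t * f' * t⁻¹)) * t := by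
            rw [ti]; simp only [mul_assoc, tt, mul_one]
        _ = (t * t) * f' * (t⁻¹ * f * t) := by rw [h6]; group
        _ = _ := by rw [tt, one_mul, ti])
      ⟨1, by rw [pow_one, conj_pow, pow_two, h3.2.2]; simp⟩
  have cj : ∀ {a b : G}, a * y = y * a → b * y = y * b → a * b * a⁻¹ * y = y * (a * b * a⁻¹) :=
    fun ha hb => ((Commute.mul_left ha hb).mul_left (Commute.inv_left ha)).eq
  have sq : ∀ {a b : G}, b * b = 1 → a * b * a⁻¹ * (a * b * a⁻¹) = 1 := fun {a b} hb => by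
    rw [show a * b * a⁻¹ * (a * b * a⁻¹) = a * (b * b) * a⁻¹ by group, hb]; simp
  have step : ∀ x' : normalizer (VV A : Set G), Pa y x'.1 → θ x' = pm qA → AA y x'.1 = A →
      ¬ AB (Additive (VV A)) ⟨t, nt⟩ ⟨y, nA y hyA⟩ x' := fun x' q θx e hAB => by
    have m1 : Fm y x'.1 1 θ := ⟨m.ks, q, θx⟩
    have e' : AA x'.1 y = A := (sw _ _).trans e
    obtain ⟨θ', m2⟩ := fm q.symm
    have k2 := m2.ks.toKS0
    obtain ⟨r, rx, r3, ry, θr⟩ := k2.exists_r q.symm.comm q.w3 m2.θa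
    have nr : r ∈ normalizer (VV A : Set G) := mem_norm_of_cj (by
      have := q.symm.cj_self (g := r) (by rw [rx, mul_inv_cancel_right]; exact q.symm.w_mem)
        (by rw [ry]; exact mul_mem q.symm.a_mem q.symm.w_mem)
      rwa [e'] at this)
    obtain ⟨u, uy, θu, uu⟩ := k.exists_lift2 (uE_mem (x := 1) (by norm_num)) (uE_in (by norm_num))
      (uE_sq (by norm_num))
    have hu : InU A u := (trU e).1 (m1.U_iff.2 ⟨uy, uu, 1, by simp, θu⟩)
    obtain ⟨u, rfl⟩ := cx u (UV u hu)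
    obtain ⟨d, hd, θd⟩ := m1.exists_D (i := 3) (by simp)
    have hd' := m1.D_iff.1 hd
    obtain ⟨d, rfl⟩ := cx d (inV hyA p.a_ne ((trF e).1 hd'.1))
    have dy := hd'.1.1
    obtain ⟨-, e1, e0, xe, pe⟩ := four x' q.symm e'
    have ne : ∀ {i : ℕ} {v}, i < 16 → i ≠ 0 → θ (c v) = pm (uE i) → v ≠ 0 := by
      rintro i v h1 h2 h3 rfl
      exact h2 (uE_injective h1 (by norm_num) (by rw [← h3, c0, k.θ_one, uE_one]))
    have u0 := ne (by norm_num) one_ne_zero θu
    have act : ∀ {i j : ℕ} {v w}, i < 16 → c v * y = y * c v → c w * y = y * c w →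
        θ (c v) = pm (uE i) → θ (c w) = pm (uE j) → fT.getD i 0 = j →
        (⟨t, nt⟩ : normalizer (VV A : Set G)) • v = w := fun h1 h2 h3 h4 h5 h6 =>
      ci.2 (eq_of_θ k (cj ty h2) h3 (sq (VV_sq hA (cm _))) (VV_sq hA (cm _))
        (by rw [cs, k.θ_conj ty h2, θt, h4, h5, ← h6]; exact (actF_spec actF_T h1).2))
    have mu : ∀ {a b : G}, a * y = y * a → b * y = y * b → a * b * y = y * (a * b) :=
      fun ha hb => (Commute.mul_left ha hb).eq
    have θxd : θ (c (x' • d)) = pm (uE 14) := by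
      rw [cs, k.θ_conj q.comm dy, θx, θd]; exact (actF_spec actF_A (i := 3) (by norm_num)).2
    refine Al.fin two (fun a a1 a3 => ?_) (x := x') (y := ⟨y, nA y hyA⟩) (t := ⟨t, nt⟩)
      (r := ⟨r, nr⟩) (Subtype.ext q.comm) (Subtype.ext ty) (Subtype.ext rx) (Subtype.ext ry)
      (Subtype.ext q.a3) (Subtype.ext q.w3) (Subtype.ext r3) u0
      ((cf _ _).2 (hu.1 _ (e.le q.a_mem))) ((cf _ _).2 uy) (fun h1 => ?_)
      (act (by norm_num) uy uy θu θu rfl) (fun v h1 h2 h3 h4 => ?_) (ne (by norm_num) (by norm_num) θd)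
      ((cf _ _).2 dy) ((cP _ _).2 hd'.2) (act (by norm_num) dy dy θd θd rfl)
      (act (j := 15) (by norm_num) (cj q.comm dy) (mu (cj q.comm dy) uy) θxd
        (by rw [ca, cs, k.mul _ _ (cj q.comm dy) uy, ← cs, θxd, θu,
          uE_mul (by norm_num) (by norm_num)]; rfl)
        rfl) e0 xe pe hAB
    · have a1' : (a : G) ≠ 1 := fun h0 => a1 (Subtype.ext h0)
      have a3' : (a : G) ^ 3 = 1 := congrArg Subtype.val a3
      obtain ⟨θa, ka⟩ := g.ks a a1' a3'
      refine le_trans ?_ ((ka.toKS0.rank (B := VV A ⊓ centralizer {(a : G)})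
        (fun b hb => mem_centralizer_singleton_iff.1 hb.2) fun b hb => VV_sq hA hb.1).2
        (h _ a1' a3'))
      exact Nat.card_le_card_of_injective (fun v => ⟨c v.1, cm _,
        mem_centralizer_singleton_iff.2 ((cf _ _).1 v.2)⟩)
        fun v w e => by have := congrArg Subtype.val e; exact Subtype.ext (ci.2 this)
    · obtain ⟨ux, -, i, hi, θi⟩ := m2.U_iff.1 ((trU e').2 hu)
      have h2 : θ' r * pm (uE i) * (θ' r)⁻¹ = pm (uE i) := by
        rw [← θi, ← k2.θ_conj rx ux]; exact congrArg θ' (ci.1 h1)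
      have hi' : i < 16 := by simp at hi; omega
      have h3 : pm qB * pm (uE i) * (pm qB)⁻¹ = pm (uE i) := by
        rcases θr with e2 | e2 <;> rw [e2] at h2
        · exact h2
        · conv_lhs => rw [← h2]
          group
      have h4 := uE_injective (actF_spec actF_B hi').1 hi' ((actF_spec actF_B hi').2.symm.trans h3)
      obtain rfl : i = 0 := by
        simp only [List.mem_cons, List.not_mem_nil, or_false] at hi
        rcases hi with rfl | rfl | rfl | rfl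
        · rfl
        all_goals exact absurd h4 (by decide)
      exact u0 (ci.2 (eq_of_θ k2 ux (by simp [c0]) uu (by simp [c0])
        (by rw [θi, uE_one, c0, k2.θ_one])))
    · have h1' := (cf _ _).1 h1
      have h2' := (cf _ _).1 h2
      obtain ⟨-, vv, i, hi, θi⟩ := m1.U_iff.1 (show InU (AA y x'.1) (c v) from ⟨fun a ha => by
        obtain ⟨i, -, j, -, rfl⟩ := q.mem_AA.1 ha
        exact ((Commute.pow_right h2' i).mul_right (Commute.pow_right h1' j)).eq, VV_sq hA (cm v)⟩)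
      have h5 : θ (c (v + u + d)) = pm (uE i) * pm (uE 1) * pm (uE 3) := by
        rw [ca, ca, k.mul _ _ (mu h2' uy) dy, k.mul _ _ h2' uy, θi, θu, θd]
      simp only [List.mem_cons, List.not_mem_nil, or_false] at hi
      rcases hi with rfl | rfl | rfl | rfl
      · exact absurd (ci.2 (eq_of_θ k h2' (by simp [c0]) vv (by simp [c0])
          (by rw [θi, uE_one, c0, k.θ_one]))) h3
      · exact absurd (ci.2 (eq_of_θ k h2' uy vv uu (θi.trans θu.symm))) h4
      all_goals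
        rw [uE_mul (by norm_num) (by norm_num), uE_mul (by norm_num) (by norm_num)] at h5
        exact act (by norm_num) h2' (mu (mu h2' uy) dy) θi h5 rfl
  have hxA : x ∈ A := eA ▸ p.w_mem
  have θx : θ x ≠ 1 := k.θ_ne p.symm
  have pa : ∀ s ∈ A, s * y = y * s → θ s = 1 → Pa y (x * s) ∧ θ (x * s) = pm qA ∧ AA y (x * s) = A :=
    fun s h1 h2 h3 => by
      have h4 : θ (x * s) = pm qA := by rw [k.mul _ _ p.comm.symm h2, h3, mul_one, m.θa]
      subst eA
      have := p.of_mem hyA p.a_ne (mul_mem hxA h1) fun i e =>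
        A_ne (by rw [← h4, e, k.θ_pow rfl, k.θ_w, one_pow])
      exact ⟨this.1, h4, this.2⟩
  obtain ⟨q1, θ1, e1⟩ := pa y hyA rfl k.θ_w
  obtain ⟨q2, θ2, e2⟩ := pa y⁻¹ (inv_mem hyA) (by simp) (by rw [k.θ_inv rfl, k.θ_w, inv_one])
  have xy := p.comm.symm
  have xy' : x⁻¹ * y = y * x⁻¹ := (Commute.inv_left xy).eq
  have h1 : t * (x * t * x⁻¹) * y = y * (t * (x * t * x⁻¹)) := (Commute.mul_left ty (cj xy ty)).eq
  have h2 := cj xy' ty
  have h3 : θ (t * (x * t * x⁻¹)) = θ (x⁻¹ * t * x⁻¹⁻¹) := by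
    rw [k.mul _ _ ty (cj xy ty), k.θ_conj xy ty, k.θ_conj xy' ty, k.θ_inv xy, θt, m.θa, T_rel, inv_inv]
  have h4 := k.comm_of_θ ty (cj xy ty) tt (sq tt) (by
    have e3 : θ t * θ (x * t * x⁻¹) * (θ t * θ (x * t * x⁻¹)) = 1 := by
      rw [← k.mul _ _ ty (cj xy ty), h3, ← k.mul _ _ h2 h2, sq tt, k.θ_one]
    have e4 : θ t * θ t = 1 := by rw [← k.mul _ _ ty ty, tt, k.θ_one]
    have e5 : θ (x * t * x⁻¹) * θ (x * t * x⁻¹) = 1 := by
      rw [← k.mul _ _ (cj xy ty) (cj xy ty), sq tt, k.θ_one]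
    rw [eq_inv_of_mul_eq_one_left e3, mul_inv_rev, inv_eq_of_mul_eq_one_right e4,
      inv_eq_of_mul_eq_one_right e5])
  have h5 := eq_of_θ k h1 h2 (by
    rw [mul_assoc, ← mul_assoc (x * t * x⁻¹), ← h4, mul_assoc, sq tt, mul_one, tt]) (sq tt) h3
  rw [inv_inv] at h5
  have n1 := nA _ (mul_mem hxA hyA)
  have n2 := nA _ (mul_mem hxA (inv_mem hyA))
  have c1 : (⟨x, nA x hxA⟩ * ⟨y, nA y hyA⟩ : normalizer (VV A : Set G)) = ⟨x * y, n1⟩ := rfl
  have c2 : (⟨x, nA x hxA⟩ * ⟨y, nA y hyA⟩⁻¹ : normalizer (VV A : Set G)) = ⟨x * y⁻¹, n2⟩ := rfl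
  have := dich two (x := ⟨x, nA x hxA⟩) (y := ⟨y, nA y hyA⟩) (t := ⟨t, nt⟩) (Subtype.ext p.w3)
    (Subtype.ext p.a3) (Subtype.ext xy) (Subtype.ext ty) (Subtype.ext tt) (Subtype.ext h5)
  rw [c1, c2] at this
  rcases this (four ⟨x, nA x hxA⟩ p eA).1 (four ⟨_, n1⟩ q1.symm ((sw _ _).trans e1)).1
    (four ⟨_, n2⟩ q2.symm ((sw _ _).trans e2)).1 with h6 | h6 | h6
  · exact step ⟨x, nA x hxA⟩ p.symm m.θa eA' h6
  · exact step ⟨_, n1⟩ q1 θ1 e1 h6
  · exact step ⟨_, n2⟩ q2 θ2 e2 h6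

end CfsgLib.J4X
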