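import Mathlib
import Cfsg.Agent.Lib.J4X.Defs

/-!
# Elements of order 3: Burnside's complement theorem (`compl3`); class counting in 2-groups (`count4`)
-/

set_option autoImplicit false

namespace CfsgLib.J4X

open Cfsg CfsgLib.Golay CfsgLib.M24E CfsgLib.J4T CfsgLib.J4T.G3 Subgroup

namespace Di

section Gen

variable {Y : Type*} [Group Y]

theorem pow_mod3 {w : Y} (w3 : w ^ 3 = 1) (i : ℕ) : w ^ i = w ^ (i % 3) := by
  conv_lhs => rw [← Nat.div_add_mod i 3, pow_add, pow_mul, w3, one_pow, one_mul]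

theorem inv_eq_sq {w : Y} (w3 : w ^ 3 = 1) : w⁻¹ = w ^ 2 := by
  rw [inv_eq_iff_mul_eq_one, ← pow_succ', w3]

/-- a non-trivial power of an element of order 3 -/
theorem pow_cases {w : Y} (w3 : w ^ 3 = 1) (i : ℕ) : w ^ i = 1 ∨ w ^ i = w ∨ w ^ i = w⁻¹ := by
  rw [pow_mod3 w3 i, inv_eq_sq w3]
  have : i % 3 < 3 := Nat.mod_lt _ (by norm_num)
  interval_cases i % 3 <;> simp

theorem sq_pow_odd {f : Y} (f2 : f * f = 1) {n : ℕ} (hn : Odd n) : f ^ n = f := by
  obtain ⟨k, rfl⟩ := hn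
  rw [pow_succ, pow_mul, sq, f2, one_pow, one_mul]

/-- a 3-element `f wⁱ` is a power of `w` -/
theorem eq_pow_of_three {w f c : Y} (w3 : w ^ 3 = 1) (fw : f * w = w * f) (f2 : f * f = 1) {i k : ℕ}
    (hc : c = f * w ^ i) (hk : c ^ 3 ^ k = 1) : c = w ^ i := by
  have h1 : c ^ 3 ^ (k + 1) = 1 := by rw [pow_succ, pow_mul, hk, one_pow]
  have h2 : Commute f (w ^ i) := Commute.pow_right fw i
  rw [hc, h2.mul_pow, ← pow_mul, pow_succ' 3 k, ← mul_assoc, mul_comm i 3, mul_assoc 3, pow_mul w 3, w3,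
    one_pow, mul_one, sq_pow_odd f2 (Odd.mul (by decide) (Odd.pow (by decide)))] at h1
  rw [hc, h1, one_mul]

/-- a 2-element `f wⁱ` is `f` -/
theorem eq_of_two {w f c : Y} (w3 : w ^ 3 = 1) (fw : f * w = w * f) (f2 : f * f = 1) {i k : ℕ}
    (hc : c = f * w ^ i) (hk : c ^ 2 ^ k = 1) : c = f := by
  have h1 : c ^ 2 ^ (k + 1) = 1 := by rw [pow_succ, pow_mul, hk, one_pow]
  have h2 : Commute f (w ^ i) := Commute.pow_right fw i
  rw [hc, h2.mul_pow, pow_succ' 2 k, pow_mul f, sq, f2, one_pow, one_mul] at h1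
  have h3 : (w ^ i) ^ 3 = 1 := by rw [← pow_mul, mul_comm, pow_mul, w3, one_pow]
  have h4 : w ^ i = 1 := by
    have := pow_gcd_eq_one.2 ⟨h1, h3⟩
    rwa [show Nat.gcd (2 * 2 ^ k) 3 = 1 from
      Nat.Coprime.mul_left (by decide) (Nat.Coprime.pow_left _ (by decide)), pow_one] at this
  rw [hc, h4, mul_one]

/-- Burnside's theorem for an element of order 3 whose normaliser is the product with an elementary abelian
2-group -/
theorem compl3 [Finite Y] {w : Y} (w1 : w ≠ 1) (w3 : w ^ 3 = 1)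
    (h : ∀ c ∈ N3 w, ∃ f, f * w = w * f ∧ f * f = 1 ∧ ∃ i : ℕ, c = f * w ^ i) :
    ∃ N : Subgroup Y, (∀ c, c ∈ N ↔ ¬ 3 ∣ orderOf c) ∧ ¬ 3 ∣ Nat.card N ∧
      ∀ c, ∃ n ∈ N, ∃ i : ℕ, c = n * w ^ i := by
  have : Fact (Nat.Prime 3) := ⟨by norm_num⟩
  have ho : orderOf w = 3 := orderOf_eq_prime w3 w1
  have h0 : IsPGroup 3 (zpowers w) := IsPGroup.of_card (n := 1) (by rw [Nat.card_zpowers, ho, pow_one])
  obtain ⟨P, hP⟩ := h0.exists_le_sylow
  have wP : w ∈ (P : Subgroup Y) := hP (mem_zpowers w)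
  have key : ∀ c ∈ (P : Subgroup Y), c * w = w * c → ∃ i : ℕ, c = w ^ i := by
    intro c hc hcw
    obtain ⟨f, fw, f2, i, e⟩ := h c (N3_of_comm hcw)
    obtain ⟨k, hk⟩ := P.isPGroup' ⟨c, hc⟩
    exact ⟨i, eq_pow_of_three w3 fw f2 e (congrArg Subtype.val hk)⟩
  have hall : ∀ c ∈ (P : Subgroup Y), ∃ i : ℕ, c = w ^ i := by
    have : Nontrivial (P : Subgroup Y) := ⟨⟨⟨w, wP⟩, 1, fun e => w1 (congrArg Subtype.val e)⟩⟩
    have := P.isPGroup'.center_nontrivial
    obtain ⟨⟨⟨s, hs⟩, hz⟩, hs1⟩ := exists_ne (1 : center (P : Subgroup Y))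
    have hz' : ∀ c ∈ (P : Subgroup Y), c * s = s * c := fun c hc =>
      congrArg Subtype.val (mem_center_iff.1 hz ⟨c, hc⟩)
    obtain ⟨i, rfl⟩ := key s hs (hz' w wP).symm
    intro c hc
    refine key c hc ?_
    have := hz' c hc
    rcases pow_cases w3 i with e | e | e
    · exact absurd (Subtype.ext (Subtype.ext e)) hs1
    · rwa [e] at this
    · rw [e] at this
      exact (Commute.inv_right_iff.1 this)
  have hN : normalizer (P : Set Y) ≤ centralizer (P : Set Y) := by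
    intro n hn
    have h1 : n * w * n⁻¹ ∈ (P : Subgroup Y) := (mem_normalizer_iff.1 hn w).1 wP
    obtain ⟨i, hi⟩ := hall _ h1
    have h2 : n ∈ N3 w := by
      rcases pow_cases w3 i with e | e | e
      · rw [e, mul_inv_eq_one, mul_eq_left] at hi
        exact absurd hi w1
      · exact Or.inl (hi.trans e)
      · exact Or.inr (hi.trans e)
    obtain ⟨f, fw, -, j, e⟩ := h n h2
    have h3 : Commute w n := by
      rw [e]; exact Commute.mul_right (Commute.symm fw) (Commute.pow_right rfl j)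
    rw [mem_centralizer_iff]
    intro s hs
    obtain ⟨k, rfl⟩ := hall s hs
    exact h3.pow_left k
  have hK := MonoidHom.ker_transferSylow_isComplement' P hN
  have hc := MonoidHom.not_dvd_card_ker_transferSylow P hN
  refine ⟨(MonoidHom.transferSylow P hN).ker, fun c => ⟨fun h1 h2 => hc (h2.trans ?_), fun h1 => ?_⟩, hc,
    fun c => ?_⟩
  · exact (MonoidHom.transferSylow P hN).ker.orderOf_dvd_natCard h1
  · obtain ⟨k, hk⟩ := P.isPGroup' (MonoidHom.transferSylow P hN c)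
    have h2 : MonoidHom.transferSylow P hN c ^ orderOf c = 1 := by rw [← map_pow, pow_orderOf_eq_one, map_one]
    have := pow_gcd_eq_one.2 ⟨hk, h2⟩
    rwa [show Nat.gcd (3 ^ k) (orderOf c) = 1 from
      Nat.Coprime.pow_left _ ((Nat.Prime.coprime_iff_not_dvd (by norm_num)).2 h1), pow_one] at this
  · obtain ⟨⟨⟨n, hn⟩, ⟨s, hs⟩⟩, e⟩ := hK.2 c
    obtain ⟨i, rfl⟩ := hall s hs
    exact ⟨n, hn, i, e.symm⟩

/-- class counting in a 2-group -/
theorem count4 [Finite Y] (hT : IsPGroup 2 Y) (D : Fin 4 → Subgroup Y) (hc : ∀ i, Nat.card (D i) = 4)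
    (hab : ∀ i, ∀ d ∈ D i, ∀ e ∈ D i, d * e = e * d)
    (hs : ∀ i t, (∀ d ∈ D i, t * d = d * t) → t ∈ D i)
    (hn : ∀ i j t, (∀ d, d ∈ D i ↔ t * d * t⁻¹ ∈ D j) → i = j) : False := by
  have : Fact (Nat.Prime 2) := ⟨by norm_num⟩
  have : Nontrivial Y := by
    have h1 : 1 < Nat.card Y := lt_of_lt_of_le (by rw [hc 0]; norm_num) (card_le_card_group (D 0))
    exact Finite.one_lt_card_iff_nontrivial.1 h1
  have := hT.center_nontrivial
  obtain ⟨⟨ζ, hζ⟩, ζ1⟩ := exists_ne (1 : center Y)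
  have ζ1' : ζ ≠ 1 := fun e => ζ1 (Subtype.ext e)
  have ζD : ∀ i, ζ ∈ D i := fun i => hs i ζ fun d _ => (mem_center_iff.1 hζ d).symm
  have hd : ∀ i, ∃ d ∈ D i, d ∉ center Y := by
    intro i
    by_contra h
    push Not at h
    obtain ⟨j, hj⟩ := exists_ne i
    have h1 : D j = D i :=
      eq_of_le_of_card_ge (fun t _ => hs i t fun d hd => mem_center_iff.1 (h d hd) t) (by rw [hc, hc])
    exact hj (hn j i 1 fun d => by rw [h1]; simp)
  choose d hd hdz using hd
  have hC : ∀ i t, t * d i = d i * t ↔ t ∈ D i := by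
    intro i t
    refine ⟨fun h => hs i t ?_, fun h => hab i t h _ (hd i)⟩
    have h1 : D i ⊓ centralizer {t} = D i := by
      refine eq_of_le_of_card_ge inf_le_left ?_
      have h2 : Nat.card ↥(D i ⊓ centralizer {t}) ∣ 4 := (card_dvd_of_le inf_le_left).trans (hc i).dvd
      have h3 : 2 < Nat.card ↥(D i ⊓ centralizer {t}) := by
        have := Fintype.ofFinite ↥(D i ⊓ centralizer {t})
        rw [Nat.card_eq_fintype_card, Fintype.two_lt_card_iff]
        refine ⟨1, ⟨ζ, ζD i, mem_centralizer_singleton_iff.2 (mem_center_iff.1 hζ t).symm⟩,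
          ⟨d i, hd i, mem_centralizer_singleton_iff.2 h.symm⟩, fun e => ζ1' (congrArg Subtype.val e).symm,
          fun e => hdz i ?_, fun e => hdz i ?_⟩
        · rw [show d i = 1 from (congrArg Subtype.val e).symm]; exact one_mem _
        · rw [show d i = ζ from (congrArg Subtype.val e).symm]; exact hζ
      have h4 := Nat.le_of_dvd (by norm_num) h2
      rw [hc]
      interval_cases Nat.card ↥(D i ⊓ centralizer {t}) <;> omega
    intro e he
    rw [← h1] at he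
    exact (mem_centralizer_singleton_iff.1 he.2).symm
  let φ : (Σ i, Y ⧸ D i) → Y := fun q => q.2.out * d q.1 * q.2.out⁻¹
  have hinj : Function.Injective φ := by
    rintro ⟨i, q⟩ ⟨j, q'⟩ h
    have h1 : q'.out⁻¹ * q.out * d i * (q'.out⁻¹ * q.out)⁻¹ = d j := by
      have : q.out * d i * q.out⁻¹ = q'.out * d j * q'.out⁻¹ := h
      rw [show q'.out⁻¹ * q.out * d i * (q'.out⁻¹ * q.out)⁻¹ = q'.out⁻¹ * (q.out * d i * q.out⁻¹) * q'.out by group,
        this]
      group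
    obtain rfl : i = j := by
      refine hn i j (q'.out⁻¹ * q.out) fun e => ?_
      rw [← hC, ← hC, ← h1, conj_mul, conj_mul, mul_left_inj, mul_right_inj]
    have h2 : q'.out⁻¹ * q.out ∈ D i := (hC _ _).1 (mul_inv_eq_iff_eq_mul.1 h1)
    have h3 : q' = q := by
      rw [← QuotientGroup.out_eq' q, ← QuotientGroup.out_eq' q']
      exact QuotientGroup.eq.2 h2
    rw [h3]
  have hcard : Nat.card (Σ i, Y ⧸ D i) = Nat.card Y := by
    have h1 : ∀ i, Nat.card (Y ⧸ D i) * 4 = Nat.card Y := fun i => by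
      rw [← hc i]; exact (D i).index_mul_card
    rw [Nat.card_sigma, Fin.sum_univ_four]
    have := h1 0
    have := h1 1
    have := h1 2
    have := h1 3
    omega
  obtain ⟨⟨i, q⟩, h⟩ := ((Nat.bijective_iff_injective_and_card φ).2 ⟨hinj, hcard⟩).2 1
  have h1 : q.out * d i * q.out⁻¹ = 1 := h
  rw [mul_inv_eq_one, mul_eq_left] at h1
  exact hdz i (h1 ▸ one_mem _)

/-- class counting in a Sylow 2-subgroup -/
theorem count4' [Finite Y] (D : Fin 4 → Subgroup Y) (hc : ∀ i, Nat.card (D i) = 4)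
    (hab : ∀ i, ∀ d ∈ D i, ∀ e ∈ D i, d * e = e * d)
    (hs : ∀ i t, (∀ d ∈ D i, t * d = d * t) → (∃ n : ℕ, t ^ 2 ^ n = 1) → t ∈ D i)
    (hn : ∀ i j t, (∀ d, d ∈ D i ↔ t * d * t⁻¹ ∈ D j) → i = j) : False := by
  have : Fact (Nat.Prime 2) := ⟨by norm_num⟩
  obtain ⟨S⟩ : Nonempty (Sylow 2 Y) := inferInstance
  have h1 : ∀ i, ∃ c : Y, ∀ d ∈ D i, c * d * c⁻¹ ∈ (S : Subgroup Y) := by
    intro i
    obtain ⟨Q, hQ⟩ := (IsPGroup.of_card (p := 2) (n := 2) (hc i)).exists_le_sylow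
    obtain ⟨c, rfl⟩ := MulAction.exists_smul_eq Y Q S
    exact ⟨c, fun d hd => by
      rw [Sylow.coe_subgroup_smul]; exact smul_mem_pointwise_smul _ (MulAut.conj c) _ (hQ hd)⟩
  choose c hcS using h1
  let f : Fin 4 → (S : Subgroup Y) →* Y := fun i =>
    (MulAut.conj (c i)⁻¹).toMonoidHom.comp (S : Subgroup Y).subtype
  have hf : ∀ i s, f i s = (c i)⁻¹ * s * c i := fun i s => by simp [f]
  have hfi : ∀ i, Function.Injective (f i) := fun i =>
    (MulAut.conj (c i)⁻¹).injective.comp (S : Subgroup Y).subtype_injective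
  have hfs : ∀ i, ∀ d ∈ D i, ∃ s, f i s = d := fun i d hd => ⟨⟨_, hcS i d hd⟩, by rw [hf]; group⟩
  refine count4 S.isPGroup' (fun i => (D i).comap (f i)) (fun i => ?_) (fun i d hd e he => hfi i ?_)
    (fun i t ht => hs i _ (fun d hd => ?_) ?_) fun i j t ht => hn i j ((c j)⁻¹ * t * c i) fun d => ?_
  · rw [← card_map_of_injective (hfi i), map_comap_eq_self (fun d hd => hfs i d hd), hc]
  · rw [map_mul, map_mul]; exact hab i _ hd _ he
  · obtain ⟨s, rfl⟩ := hfs i d hd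
    rw [← map_mul, ← map_mul, ht s hd]
  · obtain ⟨n, hn⟩ := S.isPGroup' t
    exact ⟨n, by rw [← map_pow, hn, map_one]⟩
  · have e : ∀ s : (S : Subgroup Y), (c j)⁻¹ * t * c i * f i s * ((c j)⁻¹ * t * c i)⁻¹ = f j (t * s * t⁻¹) := by
      intro s
      rw [hf, hf]; push_cast; group
    constructor
    · intro hd
      obtain ⟨s, rfl⟩ := hfs i d hd
      rw [e]; exact (ht s).1 hd
    · intro hd
      obtain ⟨s, hs'⟩ := hfs j _ hd
      have h2 : f i (t⁻¹ * s * t) = d := by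
        have := e (t⁻¹ * s * t)
        rw [show t * (t⁻¹ * s * t) * t⁻¹ = s by group, hs'] at this
        exact mul_left_cancel (mul_right_cancel this)
      rw [← h2]
      refine (ht _).2 ?_
      rw [show t * (t⁻¹ * s * t) * t⁻¹ = s by group, mem_comap, hs']
      exact hd

end Gen

end Di

end CfsgLib.J4X
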