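import Mathlib
import Cfsg.Agent.Lib.J4X.Loc
import Cfsg.Agent.Lib.J4X.DichA

/-!
# The dichotomy `AllC ∨ NoneC`, and `NoneC` is impossible if the involutions `z_w` are different
-/

set_option autoImplicit false

namespace CfsgLib.J4X

open Cfsg CfsgLib.Golay CfsgLib.M24E CfsgLib.J4T CfsgLib.J4T.G3 Subgroup

namespace Di

variable {G : Type*} [Group G]

/-- `c` centralises `U` and `F_w / U` -/
def InY (A : Subgroup G) (w c : G) : Prop :=
  (∀ u, InU A u → c * u = u * c) ∧ ∀ f, InF A w f → InU A (c * f * c⁻¹ * f⁻¹)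

/-- `[F_b, F_w] ≤ U` -/
def RR (A : Subgroup G) (w b : G) : Prop := ∀ f, InF A b f → InY A w f

theorem U_one (A : Subgroup G) : InU A 1 := ⟨fun a _ => by simp, by simp⟩

theorem U_inv {A : Subgroup G} {u : G} (h : InU A u) : InU A u⁻¹ := by
  rwa [inv_eq_of_mul_eq_one_right h.2]

theorem AA_comm (x y : G) : AA x y = AA y x := by rw [AA, AA, Set.pair_comm]

theorem InY.of_comm {A : Subgroup G} {w c : G} (h1 : ∀ u, InU A u → c * u = u * c)
    (h2 : ∀ f, InF A w f → c * f = f * c) : InY A w c :=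
  ⟨h1, fun f hf => by rw [h2 f hf]; simpa using U_one A⟩

theorem InY.conj {A : Subgroup G} {w c n : G} (h : Cj n A A) (hw : n * w = w * n) (hc : InY A w c) :
    InY A w (n * c * n⁻¹) := by
  refine ⟨fun u hu => ?_, fun f hf => ?_⟩
  · have := hc.1 _ (hu.conj h.symm)
    calc n * c * n⁻¹ * u = n * (c * (n⁻¹ * u * n⁻¹⁻¹)) * n⁻¹ := by group
      _ = u * (n * c * n⁻¹) := by rw [this]; group
  · have h1 := hf.conj h.symm
    rw [show n⁻¹ * w * n⁻¹⁻¹ = w by rw [inv_inv, mul_assoc, ← hw, inv_mul_cancel_left]] at h1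
    have := (hc.2 _ h1).conj h
    rwa [show n * (c * (n⁻¹ * f * n⁻¹⁻¹) * c⁻¹ * (n⁻¹ * f * n⁻¹⁻¹)⁻¹) * n⁻¹ =
      n * c * n⁻¹ * f * (n * c * n⁻¹)⁻¹ * f⁻¹ by group] at this

theorem RR.symm {A : Subgroup G} {w b : G} (h : RR A w b) : RR A b w := fun f hf =>
  ⟨hf.2.1, fun f' hf' => by
    have := U_inv ((h f' hf').2 f hf)
    rwa [show (f' * f * f'⁻¹ * f⁻¹)⁻¹ = f * f' * f⁻¹ * f'⁻¹ by group] at this⟩

theorem cj_A {w a b : G} (p : Pa w a) (hb : b ∈ AA w a) : Cj b (AA w a) (AA w a) :=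
  p.cj_self (mul_mem (mul_mem hb p.w_mem) (inv_mem hb)) (mul_mem (mul_mem hb p.a_mem) (inv_mem hb))

theorem w_Y {w a : G} (p : Pa w a) : InY (AA w a) w w :=
  InY.of_comm (fun _ hu => (hu.1 w p.w_mem).symm) fun _ hf => hf.1.symm

theorem exists_Y {w a z : G} {θ : G → P24} (m : Fm w a z θ) :
    ∃ Y : Subgroup G, ∀ c, c ∈ Y ↔ InY (AA w a) w c := by
  refine ⟨⟨⟨⟨{c | InY (AA w a) w c}, ?_⟩, InY.of_comm (fun _ _ => by simp) fun _ _ => by simp⟩, ?_⟩,
    fun _ => Iff.rfl⟩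
  · intro c d hc hd
    refine ⟨fun u hu => by rw [mul_assoc, hd.1 u hu, ← mul_assoc, hc.1 u hu, mul_assoc], fun f hf => ?_⟩
    have := m.U_mul (hd.2 f hf) (hc.2 f hf)
    rwa [show d * f * d⁻¹ * f⁻¹ * (c * f * c⁻¹ * f⁻¹) = d * f * d⁻¹ * f⁻¹ * c * (f * c⁻¹ * f⁻¹) by group,
      ← hc.1 _ (hd.2 f hf), show c * (d * f * d⁻¹ * f⁻¹) * (f * c⁻¹ * f⁻¹) = c * d * f * (c * d)⁻¹ * f⁻¹ by group]
      at this
  · intro c hc
    refine ⟨fun u hu => (Commute.inv_left (hc.1 u hu) :), fun f hf => ?_⟩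
    have h1 := U_inv (hc.2 f hf)
    have h2 := hc.1 _ h1
    have h3 := hf.2.1 _ h1
    rwa [show c⁻¹ * f * c⁻¹⁻¹ * f⁻¹ = (c * f * c⁻¹ * f⁻¹)⁻¹ by
      calc c⁻¹ * f * c⁻¹⁻¹ * f⁻¹ = c⁻¹ * ((c * f * c⁻¹ * f⁻¹)⁻¹ * c) * f * f⁻¹ := by group
        _ = _ := by rw [← h2]; group]

theorem F_Y {w a z f : G} {θ : G → P24} (m : Fm w a z θ) (hf : InF (AA w a) w f) : InY (AA w a) w f :=
  InY.of_comm hf.2.1 fun _ h => m.F_comm hf h

/-- a `3'`-element of `C(w) ∩ C(U)` lies in `F_w` -/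
theorem F_of_cent {w a z c : G} {θ : G → P24} (m : Fm w a z θ) (h1 : c * w = w * c)
    (h2 : ∀ u, InU (AA w a) u → c * u = u * c) (h3 : ¬ 3 ∣ orderOf c) : InF (AA w a) w c := by
  obtain ⟨f, hf, b, hb, e⟩ := m.cent_U h1 h2
  have hw : b * w * b⁻¹ = w := by rw [m.pa.A_comm hb m.pa.w_mem, mul_inv_cancel_right]
  have k1 := hf.conj (cj_A m.pa hb)
  rw [hw] at k1
  have k2 := k1.conj (cj_A m.pa hb)
  rw [hw] at k2
  have k3 := (m.F_mul (m.F_mul hf k1) k2).2.2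
  have k4 : c ^ 3 = f * (b * f * b⁻¹) * (b * (b * f * b⁻¹) * b⁻¹) := by
    rw [← mul_one (f * _ * _), ← m.pa.A_three hb, e, pow_three, pow_three]; group
  rw [← k4, ← pow_add] at k3
  have k5 : orderOf c ∣ 2 :=
    Nat.Coprime.dvd_of_dvd_mul_left (m := 3)
      ((Nat.Prime.coprime_iff_not_dvd (by norm_num)).2 h3).symm (orderOf_dvd_of_pow_eq_one k3)
  exact ⟨h1, h2, by rw [← sq]; exact orderOf_dvd_iff_pow_eq_one.1 k5⟩

theorem not_three_dvd {c : G} {n : ℕ} (h : c ^ 2 ^ n = 1) : ¬ 3 ∣ orderOf c := fun h3 =>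
  absurd ((Nat.prime_three).dvd_of_dvd_pow (h3.trans (orderOf_dvd_of_pow_eq_one h))) (by decide)

/-- `Y = ⟨Y ∩ F_b⟩ ⟨w⟩` -/
theorem Y_le [Finite G] (g : Gl G) {w a : G} (p : Pa w a) {T : Subgroup G}
    (hT : ∀ b ∈ AA w a, b ≠ 1 → ∀ f, InF (AA w a) b f → InY (AA w a) w f → f ∈ T) {c : G}
    (hc : InY (AA w a) w c) : (¬ 3 ∣ orderOf c → c ∈ T) ∧ ∃ n ∈ T, ∃ i : ℕ, c = n * w ^ i := by
  obtain ⟨θ, m⟩ := g.fm p
  obtain ⟨Y, hY⟩ := exists_Y m
  have wY : w ∈ Y := (hY w).2 (w_Y p)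
  obtain ⟨N, hN, hN3, hd⟩ := compl3 (w := (⟨w, wY⟩ : Y)) (fun e => p.ne (congrArg Subtype.val e))
    (Subtype.ext p.w3) (by
      rintro ⟨c, hc⟩ h
      obtain ⟨f, hf, i, e⟩ := m.cent_Y (c := c)
        (h.imp (congrArg Subtype.val) (congrArg Subtype.val)) ((hY c).1 hc).1 ((hY c).1 hc).2
      exact ⟨⟨f, (hY f).2 (F_Y m hf)⟩, Subtype.ext hf.1, Subtype.ext hf.2.2, i, Subtype.ext e⟩)
  have hN' : ∀ c, c ∈ N.map Y.subtype ↔ InY (AA w a) w c ∧ ¬ 3 ∣ orderOf c := by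
    intro c
    constructor
    · rintro ⟨d, hd, rfl⟩
      exact ⟨(hY _).1 d.2, by rw [Subgroup.coe_subtype, orderOf_coe]; exact (hN d).1 hd⟩
    · rintro ⟨h1, h2⟩
      exact ⟨⟨c, (hY c).2 h1⟩, (hN _).2 (by rwa [← orderOf_coe]), rfl⟩
  have hA : ∀ b ∈ AA w a, ∀ x ∈ N.map Y.subtype, b * x * b⁻¹ ∈ N.map Y.subtype := by
    intro b hb x hx
    rw [hN'] at hx ⊢
    refine ⟨hx.1.conj (cj_A p hb) (p.A_comm hb p.w_mem), ?_⟩
    rw [show orderOf (b * x * b⁻¹) = orderOf x from (MulAut.conj b).orderOf_eq x]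
    exact hx.2
  have hle : N.map Y.subtype ≤ T := by
    refine p.le_of_cent (by rwa [card_map_of_injective Y.subtype_injective]) (hA w p.w_mem) (hA a p.a_mem) ?_
    intro b hb b1 x hx hxb
    rw [hN'] at hx
    obtain ⟨a', p', e⟩ := p.exists_a hb b1
    obtain ⟨θ', m'⟩ := g.fm p'
    have := F_of_cent m' hxb (e ▸ hx.1.1) hx.2
    rw [e] at this
    exact hT b hb b1 x this hx.1
  refine ⟨fun h => hle ((hN' c).2 ⟨hc, h⟩), ?_⟩
  obtain ⟨n, hn, i, e⟩ := hd ⟨c, (hY c).2 hc⟩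
  exact ⟨n, hle ⟨n, hn, rfl⟩, i, congrArg Subtype.val e⟩

/-- `Y ∩ F_b` is `U` or `F_b` -/
theorem RR_of_mem (g : Gl G) {w b f : G} (p : Pa w b) (hf : InF (AA w b) b f) (hy : InY (AA w b) w f)
    (hu : ¬ InU (AA w b) f) : RR (AA w b) w b := by
  obtain ⟨θ, m⟩ := g.fm p
  obtain ⟨θ', m'⟩ := g.fm p.symm
  obtain ⟨Y, hY⟩ := exists_Y m
  have wY : w ∈ Y := (hY w).2 (w_Y p)
  have uY : ∀ u, InU (AA b w) u → u ∈ Y := fun u hu => (hY u).2 (F_Y m (m.U_F (AA_comm b w ▸ hu)))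
  obtain ⟨d0, -, -, hD⟩ := m'.D_four
  have h0 : d0 ∈ Y := by
    rw [AA_comm] at hf hu
    obtain ⟨u, d, h1, h2, rfl⟩ := m'.F_dec hf
    have dY : d ∈ Y := (Y.mul_mem_cancel_left (uY u h1)).1 ((hY _).2 hy)
    rcases (hD d).1 h2 with e | e | e | e
    · rw [e, mul_one] at hu; exact absurd h1 hu
    · exact e ▸ dY
    · rw [e, Y.mul_mem_cancel_right (inv_mem wY), Y.mul_mem_cancel_left wY] at dY; exact dY
    · rw [e, Y.mul_mem_cancel_right wY, Y.mul_mem_cancel_left (inv_mem wY)] at dY; exact dY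
  intro f' hf'
  rw [AA_comm] at hf'
  obtain ⟨u, d, h1, h2, rfl⟩ := m'.F_dec hf'
  refine (hY _).1 (mul_mem (uY u h1) ?_)
  rcases (hD d).1 h2 with e | e | e | e <;> rw [e]
  exacts [one_mem _, h0, mul_mem (mul_mem wY h0) (inv_mem wY), mul_mem (mul_mem (inv_mem wY) h0) wY]

/-- the relation does not depend on the second argument -/
theorem RR.right [Finite G] (g : Gl G) {w a b : G} (p : Pa w a) (h : RR (AA w a) w a) (hb : b ∈ AA w a)
    (hn : ∀ i : ℕ, b ≠ w ^ i) : RR (AA w a) w b := by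
  obtain ⟨θ, m⟩ := g.fm p
  obtain ⟨r, rw', -, ra, -⟩ := m.ks.toKS0.exists_r p.comm p.a3 m.θa
  have hw : r * w * r⁻¹ = w := by rw [rw', mul_inv_cancel_right]
  have hr : Cj r (AA w a) (AA w a) := p.cj_self (hw.symm ▸ p.w_mem) (ra.symm ▸ mul_mem p.a_mem p.w_mem)
  have h1 : ∀ i : ℕ, RR (AA w a) w (a * w ^ i) := by
    intro i
    induction i with
    | zero => simpa using h
    | succ i ih =>
      intro f hf
      have k := hf.conj hr.symm
      rw [show a * w ^ (i + 1) = r * (a * w ^ i) * r⁻¹ by rw [← conj_mul, ← conj_pow, ra, hw, pow_succ', mul_assoc],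
        show r⁻¹ * (r * (a * w ^ i) * r⁻¹) * r⁻¹⁻¹ = a * w ^ i by group] at k
      have := (ih _ k).conj hr rw'
      rwa [show r * (r⁻¹ * f * r⁻¹⁻¹) * r⁻¹ = f by group] at this
  have hc : Commute a w := p.comm
  obtain ⟨i, -, j, hj, rfl⟩ := p.mem_AA.1 hb
  interval_cases j
  · exact absurd (by simp) (hn i)
  · rw [pow_one, ← (hc.pow_right i).eq]; exact h1 i
  · intro f hf
    refine h1 (2 * i) f ?_
    have := hf.inv
    rwa [show (w ^ i * a ^ 2)⁻¹ = a * w ^ (2 * i) by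
      rw [inv_eq_iff_mul_eq_one, mul_assoc, ← mul_assoc (a ^ 2), ← pow_succ, p.a3, one_mul, ← pow_add,
        show i + 2 * i = 3 * i by ring, pow_mul, p.w3, one_pow]] at this

theorem RR.all [Finite G] (g : Gl G) {x y w b : G} (p : Pa x y) (h : RR (AA x y) x y) (hw : w ∈ AA x y)
    (w1 : w ≠ 1) (hb : b ∈ AA x y) (hn : ∀ i : ℕ, b ≠ w ^ i) : RR (AA x y) w b := by
  have step : ∀ {x y : G}, Pa x y → RR (AA x y) x y → w ∈ AA x y → b ∈ AA x y → (∀ i : ℕ, w ≠ x ^ i) →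
      RR (AA x y) w b := by
    intro x y p h hw hb hx
    obtain ⟨q, e⟩ := p.of_mem p.w_mem p.ne hw hx
    have h1 := (h.right g p hw hx).symm
    rw [← e, AA_comm] at h1 hb ⊢
    exact h1.right g q.symm hb hn
  by_cases hx : ∀ i : ℕ, w ≠ x ^ i
  · exact step p h hw hb hx
  · push Not at hx
    obtain ⟨i, rfl⟩ := hx
    rw [AA_comm] at h hw hb ⊢
    refine step p.symm h.symm hw hb fun j e => w1 ?_
    have := (p.inj (i := i) (j := 0) (i' := 0) (j' := j) (by simpa using e)).1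
    rw [pow_mod3 p.w3, this]; simp

end Di

open Di

variable {G : Type*} [Group G] [Finite G]

/-- DICH (file Dich.lean), 1 -/
theorem Gl.dich (g : Gl G) {x y : G} (p : Pa x y) : AllC (AA x y) ∨ NoneC (AA x y) := by
  by_cases h : ∃ w ∈ AA x y, w ≠ 1 ∧ ∃ b ∈ AA x y, (∀ i : ℕ, b ≠ w ^ i) ∧ RR (AA x y) w b
  · left
    obtain ⟨x', hx, x1, y', hy, hn, h⟩ := h
    obtain ⟨p', e⟩ := p.of_mem hx x1 hy hn
    rw [← e] at h ⊢
    refine ⟨fun w hw w1 w' hw' w1' f f' hf hf' => ?_, fun w hw w1 c hc ⟨n, hn⟩ => ?_⟩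
    · obtain ⟨a, q, e⟩ := p'.exists_a hw w1
      obtain ⟨θ, m⟩ := g.fm q
      by_cases hn : ∀ i : ℕ, w' ≠ w ^ i
      · have hR := h.all g p' hw w1 hw' hn
        obtain ⟨q', e'⟩ := p'.of_mem hw w1 hw' hn
        obtain ⟨θ', m'⟩ := g.fm q'.symm
        rw [← e', AA_comm] at hf hf' hR
        obtain ⟨u, d, hu, hd, rfl⟩ := m'.F_dec hf'
        have hv := (hR d hd.1).2 f hf
        obtain ⟨v, hv', ev⟩ : ∃ v, InU (AA w' w) v ∧ d * f = v * f * d := ⟨_, hv, by group⟩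
        have fw : w * f * w⁻¹ = f := by rw [← hf.1, mul_inv_cancel_right]
        have vw : w * v * w⁻¹ = v := by rw [← hv'.1 w q'.symm.a_mem, mul_inv_cancel_right]
        have k1 : ∀ d, d * f = v * f * d → w * d * w⁻¹ * f = v * f * (w * d * w⁻¹) := by
          intro d hd
          conv_lhs => rw [← fw, conj_mul, hd, ← conj_mul, ← conj_mul, fw, vw]
        have e1 := k1 _ ev
        have e2 := k1 _ e1
        rw [show w * (w * d * w⁻¹) * w⁻¹ = w⁻¹ * d * w by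
          rw [show w * (w * d * w⁻¹) * w⁻¹ = w ^ 2 * d * (w ^ 2)⁻¹ by rw [sq]; group, ← inv_eq_sq q.w3, inv_inv]]
          at e2
        have e3 := (m'.D_iff.1 hd).2
        have c0 := hd.1.2.1 v hv'
        have c1 : w * d * w⁻¹ * v = v * (w * d * w⁻¹) := by
          conv_lhs => rw [← vw, conj_mul, c0, ← conj_mul, vw]
        have e4 : f = v * v * v * f := by
          calc f = d * (w * d * w⁻¹) * (w⁻¹ * d * w) * f := by rw [e3, one_mul]
            _ = d * (w * d * w⁻¹ * v * f) * (w⁻¹ * d * w) := by rw [mul_assoc _ _ f, e2]; group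
            _ = d * v * (w * d * w⁻¹ * f) * (w⁻¹ * d * w) := by rw [c1]; group
            _ = d * v * v * f * (w * d * w⁻¹) * (w⁻¹ * d * w) := by rw [e1]; group
            _ = v * v * (d * f) * (w * d * w⁻¹) * (w⁻¹ * d * w) := by rw [c0, mul_assoc v d v, c0]; group
            _ = v * v * v * f * (d * (w * d * w⁻¹) * (w⁻¹ * d * w)) := by rw [ev]; group
            _ = _ := by rw [e3, mul_one]
        rw [hv'.2, one_mul, eq_comm, mul_eq_right] at e4
        rw [e4, one_mul] at ev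
        rw [← mul_assoc, hf.2.1 u hu, mul_assoc, mul_assoc, ev]
      · push Not at hn
        obtain ⟨i, rfl⟩ := hn
        rw [← e] at hf hf'
        rcases pow_cases q.w3 i with k | k | k <;> rw [k] at hf'
        · exact absurd k w1'
        · exact m.F_comm hf hf'
        · exact m.F_comm hf (by simpa only [inv_inv] using hf'.inv)
    · obtain ⟨a, q, e⟩ := p'.exists_a hw w1
      obtain ⟨θ, m⟩ := g.fm q
      rw [← e] at hc ⊢
      exact (Y_le g q (T := VV (AA w a)) (fun b hb b1 f hf _ => Subgroup.subset_closure ⟨b, hb, b1, hf⟩)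
        (InY.of_comm (fun u hu => hc u (m.U_F hu)) hc)).1 (not_three_dvd hn)
  · right
    intro w hw w1 c h1 h2
    obtain ⟨a, q, e⟩ := p.exists_a hw w1
    obtain ⟨θ, m⟩ := g.fm q
    obtain ⟨F, hF, -⟩ := m.exists_F
    rw [← e] at h h1 h2 ⊢
    suffices hT : ∀ b ∈ AA w a, b ≠ 1 → ∀ f, InF (AA w a) b f → InY (AA w a) w f → InF (AA w a) w f by
      obtain ⟨n, hn, k⟩ := (Y_le g q (T := F) (c := c) (fun b hb b1 f hf hy => (hF f).2 (hT b hb b1 f hf hy))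
        ⟨h1, h2⟩).2
      exact ⟨n, (hF n).1 hn, k⟩
    intro b hb b1 f hf hy
    by_cases hn : ∀ i : ℕ, b ≠ w ^ i
    · obtain ⟨q', e'⟩ := q.of_mem q.w_mem w1 hb hn
      by_contra hf'
      refine h ⟨w, q.w_mem, w1, b, hb, hn, ?_⟩
      rw [← e'] at hf hy ⊢
      exact RR_of_mem g q' hf hy fun hu => hf' (m.U_F (e' ▸ hu))
    · push Not at hn
      obtain ⟨i, rfl⟩ := hn
      rcases pow_cases q.w3 i with k | k | k <;> rw [k] at hf
      · exact absurd k b1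
      · exact hf
      · simpa only [inv_inv] using hf.inv

/-- DICH, 2 -/
theorem Gl.noneB (g : Gl G) {x y : G} (p : Pa x y) (h : g.zf y ≠ g.zf x) : ¬ NoneC (AA x y) := by
  intro hN
  let α : Fin 4 → ℕ := ![1, 0, 1, 1]
  let β : Fin 4 → ℕ := ![0, 1, 1, 2]
  let W : Fin 4 → G := fun i => x ^ α i * y ^ β i
  have WA : ∀ i, W i ∈ AA x y := fun i => mul_mem (pow_mem p.w_mem _) (pow_mem p.a_mem _)
  have W1 : ∀ i, W i ≠ 1 := fun i e => by
    have := p.inj (i := α i) (j := β i) (i' := 0) (j' := 0) (by simpa using e)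
    revert this
    fin_cases i <;> simp [α, β]
  have Wn : ∀ i j, i ≠ j → ∀ n : ℕ, W i ≠ W j ^ n := fun i j hij n e => by
    have hc : Commute x y := p.comm.symm
    have := p.inj (i := α i) (j := β i) (i' := α j * n) (j' := β j * n)
      (by rw [pow_mul, pow_mul, ← (hc.pow_pow _ _).mul_pow]; exact e)
    revert this hij
    fin_cases i <;> fin_cases j <;> simp [α, β] <;> omega
  have W3 : ∀ i, W i ^ 3 = 1 := fun i => p.A_three (WA i)
  obtain ⟨θ, m⟩ := g.fm p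
  obtain ⟨U, hU, cU⟩ := m.exists_U
  have hF : ∀ i, ∃ F : Subgroup G, (∀ f, f ∈ F ↔ InF (AA x y) (W i) f) ∧ Nat.card F = 4 * Nat.card U ∧ U ≤ F ∧
      ∀ d ∈ F, ∀ e ∈ F, d * e = e * d := by
    intro i
    obtain ⟨a, q, e⟩ := p.exists_a (WA i) (W1 i)
    obtain ⟨θ', m'⟩ := g.fm q
    obtain ⟨F, hF, cF⟩ := m'.exists_F
    obtain ⟨U', hU', cU'⟩ := m'.exists_U
    obtain rfl : U = U' := Subgroup.ext fun u => by rw [hU, hU', e]
    refine ⟨F, fun f => by rw [hF, e], by omega, fun u hu => (hF u).2 (m'.U_F ((hU' u).1 hu)),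
      fun d hd e he => m'.F_comm ((hF _).1 hd) ((hF _).1 he)⟩
  choose F hF cF UF Fc using hF
  let C : Subgroup G := centralizer (U : Set G)
  have hC : ∀ c, c ∈ C ↔ ∀ u, InU (AA x y) u → c * u = u * c := fun c =>
    ⟨fun h u hu => (mem_centralizer_iff.1 h u ((hU u).2 hu)).symm,
      fun h => mem_centralizer_iff.2 fun u hu => (h u ((hU u).1 hu)).symm⟩
  have FC : ∀ i, F i ≤ C := fun i f hf => (hC f).2 ((hF i f).1 hf).2.1
  have hn : (U.subgroupOf C).Normal := ⟨fun u hu c => by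
    rw [mem_subgroupOf] at hu ⊢
    push_cast
    rwa [(hC c).1 c.2 u ((hU u).1 hu), mul_inv_cancel_right]⟩
  let π := QuotientGroup.mk' (U.subgroupOf C)
  have hπ : ∀ c d : C, π c = π d ↔ (c : G) * (d : G)⁻¹ ∈ U := fun c d => by
    rw [← mul_inv_eq_one, ← map_inv, ← map_mul, ← MonoidHom.mem_ker, QuotientGroup.ker_mk', mem_subgroupOf]
    rfl
  have hD : ∀ i (c : C), π c ∈ ((F i).subgroupOf C).map π ↔ (c : G) ∈ F i := fun i c => by
    refine ⟨fun ⟨d, hd, e⟩ => ?_, fun h => ⟨c, h, rfl⟩⟩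
    have := UF i ((hπ _ _).1 e)
    rwa [(F i).mul_mem_cancel_left (mem_subgroupOf.1 hd), inv_mem_iff] at this
  refine count4' (fun i => ((F i).subgroupOf C).map π) (fun i => ?_) (fun i d hd e he => ?_)
    (fun i t ht ⟨n, hn⟩ => ?_) fun i j t ht => ?_
  · have h1 := relIndex_ker ((F i).subgroupOf C) π
    rw [QuotientGroup.ker_mk', relIndex_subgroupOf (FC i)] at h1
    have h2 := (U.subgroupOf (F i)).index_mul_card
    rw [Nat.card_congr (subgroupOfEquivOfLe (UF i)).toEquiv, cF] at h2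
    rw [← h1]
    exact Nat.eq_of_mul_eq_mul_right Nat.card_pos h2
  · obtain ⟨d, hd, rfl⟩ := hd
    obtain ⟨e, he, rfl⟩ := he
    rw [← map_mul, ← map_mul]
    exact congrArg π (Subtype.ext (Fc i _ hd _ he))
  · obtain ⟨c, rfl⟩ := QuotientGroup.mk'_surjective _ t
    obtain ⟨f, hf, k, e⟩ := hN (W i) (WA i) (W1 i) c ((hC c).1 c.2) fun f hf => by
      have h1 := (hF i f).2 hf
      have := ht _ ((hD i ⟨f, FC i h1⟩).2 h1)
      rw [← map_mul, ← map_mul, hπ] at this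
      refine (hU _).1 ?_
      rwa [show (c : G) * f * (c : G)⁻¹ * f⁻¹ = c * f * (f * c)⁻¹ by group]
    have h2 : (c : G) ^ 2 ^ (n + 1) = 1 := by
      rw [← map_pow, ← map_one π, hπ] at hn
      have := ((hU _).1 hn).2
      rw [pow_succ, pow_mul, sq]
      simpa using this
    rw [hD, hF, eq_of_two (W3 i) hf.1 hf.2.2 e h2]
    exact hf
  · obtain ⟨c, rfl⟩ := QuotientGroup.mk'_surjective _ t
    by_contra hij
    have h1 : ∀ f ∈ F j, c * W i * (c : G)⁻¹ * f = f * (c * W i * (c : G)⁻¹) := by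
      intro f hf
      have h2 := (ht (π (c⁻¹ * ⟨f, FC j hf⟩ * c))).2 (by
        rw [← map_mul, ← map_inv, ← map_mul, hD]
        simpa [mul_assoc] using hf)
      have h3 := ((hF i _).1 ((hD i _).1 h2)).1
      push_cast at h3
      calc c * W i * (c : G)⁻¹ * f = c * (W i * ((c : G)⁻¹ * f * c)) * (c : G)⁻¹ := by group
        _ = _ := by rw [← h3]; group
    obtain ⟨f, hf, k, e⟩ := hN (W j) (WA j) (W1 j) (c * W i * (c : G)⁻¹)
      (fun u hu => h1 u (UF j ((hU u).2 hu))) fun f hf => by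
        rw [h1 f ((hF j f).2 hf), mul_inv_cancel_right, mul_inv_cancel]; exact U_one _
    have h2 := eq_pow_of_three (k := 1) (W3 j) hf.1 hf.2.2 e (by rw [pow_one, conj_pow, W3]; simp)
    have h3 := g.zf_conj (W1 i) (W3 i) c
    rw [(hC c).1 c.2 _ (g.zf_U p (WA i) (W1 i)), mul_inv_cancel_right, h2] at h3
    refine g.zf_ne p h (p.of_mem (WA j) (W1 j) (WA i) (Wn i j hij)).1 ?_
    rcases pow_cases (W3 j) k with e | e | e <;> rw [e] at h2 h3
    · rw [mul_inv_eq_one, mul_eq_left] at h2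
      exact absurd h2 (W1 i)
    · exact h3.symm
    · rw [← h3, g.zf_inv (W1 j) (W3 j)]

end CfsgLib.J4X
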