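import Mathlib
import Cfsg.Agent.Lib.J4X.Mf

/-!
# The centraliser of `uE 1` in `M22`: the extraspecial group of order 32
-/

set_option autoImplicit false

namespace CfsgLib.J4X

open Cfsg CfsgLib.Golay CfsgLib.M24E CfsgLib.J4T CfsgLib.J4T.G3 Subgroup

/-- the group of order 32 generated by the `sg j` -/
def bq (i : ℕ) : ℕ := [0xbdab49ca307b9ac5a928398a418820, 0xba64d4562f83a87312d362caa18820,
  0xbd2563d63078528329ac9ac44195c0, 0xbb6a964a2f806d3592874184a195c0, 0xbd9e86c1d2ac66c311343acaa08860,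
  0xba613a3dd5945075aacd618a408860, 0xbd1ec4c035944e8591b69984a71460, 0xbb607b3c32ac59332a8942c4471460,
  0xbd8346ba111ca6c328e84ac44796a0, 0xba42da39f11d50759193b184a81640, 0xbd1d6486111d4e85aa6c698a478a40,
  0xbb5c9b05f11c99331107a2caa80aa0, 0xbd8689c64e0c1ac590f44984aa95e0, 0xba473446ae0be873298db2c4491600,
  0xbd06c3c6a174128312766acaa909e0, 0xbb4676464173ed35a909a18a4a8a00, 0xbb2486d46f806765a8f4498a4889c0,
  0xb9eb3a4870785093118db2caa889c0, 0xba2ac4c86f838f432a766ac4489420, 0xbce47b54707b98d59109a184a89420,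
  0xbb2149bc3590db6310e84acaa70a20, 0xb9ded44032a8e895a993b18a470a20, 0xba2163bdd2a8d345926c6984a09620,
  0xbcde9641d590ecd32907a2c4409620, 0xbb1c8985e38d5b6329343ac4481640, 0xb9dd3406038ca89592cd6184a796a0,
  0xba02c3b9e38c9345a9b6998a480aa0, 0xbcc2763a038d6cd3128942caa78a40, 0xbb23468ea173e76591283984a91600,
  0xb9e2da0e417410932ad362c44a95e0, 0xba23648e4e0bcf4311ac9acaaa8a00, 0xbce29b0eae0c18d5aa87418a4909e0].getD i idq

/-- words for `bq` -/
def bW (i : ℕ) : List ℕ := (List.range 4).filter (fun b => i.testBit b) ++ if i.testBit 4 then [0, 3, 0, 3] else []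

/-- the conjugates of `qA` and `qA⁻¹` under the `bq j` -/
def tq (i : ℕ) : ℕ := [0xbd82d3ba32ac12c11a934154b191e0, 0xbb5d640632abe932992c3888b1aa00,
  0xba43463a3593ec712da8994861aa00, 0xbd1c998635941a82aec760946191e0, 0xbd9ed4c2511b8ec29913a088baa820,
  0xbcdec442a38ba8d119363954b91020, 0xba614b3eb11b9872ae686894691020, 0xba2079be438b9b412ec961486aa820,
  0xbd8733c5d07c92c12d0da14860aaa0, 0xbce36a0dd07d50d2ad2c3894609240, 0xb9e34b0c307c989119a89954b712a0,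
  0xbd0679c4307d5a829989b088b72a40, 0xbdab34ca0e0c4ec2ae8d4094679060, 0xbb6aca49e17451312d363948682860,
  0xb9eb464a0170ec929a686888b7aa20, 0xba2a99c9ee08db411987b154b81220, 0xbd9e94422e0ca8c215a79a8c21aea0,
  0xbd1ed64221756c8209333a96519a40, 0xbb6143be217493350ac8610c51aea0, 0xba6169be2e0d5a75168c4116219a40,
  0xbd86744612aba8c20a696a96579820, 0xba22db0df2ab994215333a8c282c20, 0xbce3448e15938ed516c86116279820,
  0xba46c9c5f5939a750916a10c582c20, 0xbd827a3a507c50c509a9990c5aac60, 0xbd1d3b06b07c5885152d3916291860,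
  0xbcc343bab078d2d21588b28c292e20, 0xb9dd69865078da92090ca2965a9a20, 0xbdaa9a49d11c10c5166769162099e0,
  0xba2b3649c38bed45092d390c50ae00, 0xbb6b44c8311bcf320988b296571a00, 0xb9eac9c8238c1a921696428c272de0].getD i idq

/-- elements of `C(qA, uE 1)` moving `sg j` to `sg 0` -/
def sL (j : ℕ) : ℕ := [0xbdab49ca307b9ac5a928398a418820, 0xbd9e94422e0ca8c215a79a8c21aea0,
  0xbd82d3ba32ac12c11a934154b191e0, 0xbc4f20a6cd9d1c311a157954b61100, 0xbc50e7d2c93b60321641aa8c262e60,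
  0xbc670ab6d4426435a9cf098a4608e0].getD j idq

theorem rp_sg {j : ℕ} (hj : j < 6) : Rp (ap (sg j)) (pm (sg j)) := pm_rp (is22_spec (is22_sg hj)).1

theorem rp_bq {i : ℕ} (hi : i < 32) : Rp (ap (bq i)) (pm (bq i)) :=
  pm_rp (of_allLT (n := 32) (f := fun i => isM (bq i)) (by decide +kernel) hi)

theorem rp_tq {i : ℕ} (hi : i < 32) : Rp (ap (tq i)) (pm (tq i)) :=
  pm_rp (of_allLT (n := 32) (f := fun i => isM (tq i)) (by decide +kernel) hi)

theorem bq_mem {S : Subgroup P24} (h0 : pm (sg 0) ∈ S) (h1 : pm (sg 1) ∈ S) (h5 : pm (sg 5) ∈ S) (h4 : pm (sg 4) ∈ S)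
    {i : ℕ} (hi : i < 32) : pm (bq i) ∈ S := by
  have h : ∀ q ∈ [sg 0, sg 1, sg 5, sg 4], isM q = true ∧ pm q ∈ S := by
    simp only [List.mem_cons, List.not_mem_nil, or_false, forall_eq_or_imp, forall_eq]
    exact ⟨⟨(is22_spec (is22_sg (by norm_num))).1, h0⟩, ⟨(is22_spec (is22_sg (by norm_num))).1, h1⟩,
      ⟨(is22_spec (is22_sg (by norm_num))).1, h5⟩, (is22_spec (is22_sg (by norm_num))).1, h4⟩
  exact pm_mem_of_evL h (w := bW i) (beq_iff'.1 (of_allLT (n := 32)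
    (f := fun i => Nat.beq (evL [sg 0, sg 1, sg 5, sg 4] (bW i)) (bq i)) (by decide +kernel) hi))

theorem bq_inj {i j : ℕ} (hi : i < 32) (hj : j < 32) (h : pm (bq i) = pm (bq j)) : i = j := by
  have := of_allLT (of_allLT (n := 32) (f := fun i => allLT 32 fun j => or (Nat.beq i j)
    (not (eqF (ap (bq i)) (ap (bq j))))) (by decide +kernel) hi) hj
  rw [((rp_bq hi).eqF_iff (rp_bq hj)).2 h, Bool.not_true, Bool.or_false] at this
  exact beq_iff'.1 this

theorem bq_center {i : ℕ} (hi : i < 32) (h : ∀ j ∈ [0, 1, 4, 5], pm (bq i) * pm (sg j) = pm (sg j) * pm (bq i)) :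
    pm (bq i) = 1 ∨ pm (bq i) = pm (uE 1) := by
  have := of_allLT (n := 32) (f := fun i => or (not (allL [0, 1, 4, 5] fun j =>
    intw (ap (bq i)) (ap (sg j)) (ap (sg j)))) (or (isId (ap (bq i))) (eqF (ap (bq i)) (ap (uE 1)))))
    (by decide +kernel) hi
  have hl : ∀ j ∈ [0, 1, 4, 5], j < 6 := by decide
  rw [(allL_iff _ _).2 fun j hj => ((rp_bq hi).intw_iff (rp_sg (hl j hj)) (rp_sg (hl j hj))).2 (h j hj),
    Bool.not_true, Bool.false_or, Bool.or_eq_true] at this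
  exact this.imp (rp_bq hi).isId_iff.1 ((rp_bq hi).eqF_iff (rp_uE (by norm_num))).1

theorem sL_spec {j : ℕ} (hj : j < 6) : pm (sL j) ∈ DD ∧ pm (sL j) * pm qA = pm qA * pm (sL j) ∧
    pm (sL j) * pm (uE 1) = pm (uE 1) * pm (sL j) ∧ pm (sL j) * pm (sg j) = pm (sg 0) * pm (sL j) := by
  have := of_allLT (n := 6) (f := fun j => and (is22 (sL j)) (and (intw (ap (sL j)) (ap qA) (ap qA))
    (and (intw (ap (sL j)) (ap (uE 1)) (ap (uE 1))) (intw (ap (sL j)) (ap (sg j)) (ap (sg 0))))))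
    (by decide +kernel) hj
  simp only [Bool.and_eq_true] at this
  have r := pm_rp (is22_spec this.1).1
  exact ⟨(is22_spec this.1).2.1, (r.intw_iff (pm_rp isM_A) (pm_rp isM_A)).1 this.2.1,
    (r.intw_iff (rp_uE (by norm_num)) (rp_uE (by norm_num))).1 this.2.2.1,
    (r.intw_iff (rp_sg hj) (rp_sg (by norm_num))).1 this.2.2.2⟩

theorem A_sg {j : ℕ} (hj : j < 6) : [1, 2, 0, 5, 3, 4].getD j 0 < 6 ∧
    pm qA * pm (sg j) * (pm qA)⁻¹ = pm (sg ([1, 2, 0, 5, 3, 4].getD j 0)) := by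
  have h1 : ∀ j < 6, [1, 2, 0, 5, 3, 4].getD j 0 < 6 := by decide
  refine ⟨h1 j hj, mul_inv_eq_iff_eq_mul.2 (((pm_rp isM_A).intw_iff (rp_sg hj) (rp_sg (h1 j hj))).1 ?_)⟩
  exact of_allLT (n := 6) (f := fun j => intw (ap qA) (ap (sg j)) (ap (sg ([1, 2, 0, 5, 3, 4].getD j 0))))
    (by decide +kernel) hj

theorem U_sg {u : ℕ} (hu : u ∈ [6, 7]) : pm (uE u) * pm (sg 0) * (pm (uE u))⁻¹ = pm (sg 5) := by
  simp only [List.mem_cons, List.not_mem_nil, or_false] at hu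
  rcases hu with rfl | rfl <;>
  exact mul_inv_eq_iff_eq_mul.2 (((rp_uE (by norm_num)).intw_iff (rp_sg (by norm_num)) (rp_sg (by norm_num))).1
    (by decide +kernel))

theorem sg_ne : pm (sg 5) ≠ pm (sg 0) := fun h =>
  absurd (((rp_sg (by norm_num)).eqF_iff (rp_sg (by norm_num))).2 h) (by decide +kernel)

theorem sg_nc : pm (sg 0) * pm (sg 4) ≠ pm (sg 4) * pm (sg 0) := fun h =>
  absurd (((rp_sg (by norm_num)).intw_iff (rp_sg (by norm_num)) (rp_sg (by norm_num))).2 h) (by decide +kernel)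

theorem sg_comm {i j : ℕ} (hi : i < 6) (hj : j < 6) : pm (sg i) * pm (sg j) = pm (sg j) * pm (sg i) ∨
    pm (sg i) * pm (sg j) * (pm (sg i) * pm (sg j)) = pm (uE 1) := by
  have := of_allLT (of_allLT (n := 6) (f := fun i => allLT 6 fun j => or (intw (ap (sg i)) (ap (sg j)) (ap (sg j)))
    (eqF (fun x => ap (sg i) (ap (sg j) (ap (sg i) (ap (sg j) x)))) (ap (uE 1)))) (by decide +kernel) hi) hj
  rw [Bool.or_eq_true] at this
  exact this.imp ((rp_sg hi).intw_iff (rp_sg hj) (rp_sg hj)).1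
    ((((rp_sg hi).mul (rp_sg hj)).mul ((rp_sg hi).mul (rp_sg hj))).eqF_iff (rp_uE (by norm_num))).1

theorem tq_spec {j : ℕ} (hj : j < 16) : pm (bq j) * pm qA = pm (tq j) * pm (bq j) ∧
    pm (bq j) * pm qA ^ 2 = pm (tq (j + 16)) * pm (bq j) := by
  have := of_allLT (n := 16) (f := fun j => and (intw (ap (bq j)) (ap qA) (ap (tq j)))
    (intw (ap (bq j)) (itF (ap qA) 2) (ap (tq (j + 16))))) (by decide +kernel) hj
  rw [Bool.and_eq_true] at this
  exact ⟨((rp_bq (by omega)).intw_iff (pm_rp isM_A) (rp_tq (by omega))).1 this.1,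
    ((rp_bq (by omega)).intw_iff ((pm_rp isM_A).pow 2) (rp_tq (by omega))).1 this.2⟩

/-- the centraliser of `uE 1` in `M22` -/
theorem centZ {g : P24} (hg : g ∈ DD) (h0 : g (pt 0) = pt 0) (h1 : g * pm (uE 1) = pm (uE 1) * g) :
    (g ^ 4 = 1 → ((g * pm qA) ^ 3 = 1 ∨ (g * pm qA) ^ 3 = pm (uE 1)) → ∃ i < 32, g = pm (bq i)) ∧
      (g * g = 1 → (g * pm qA) ^ 3 = 1 → (∃ i < 16, g = pm (uE i)) ∨ ∃ j < 6, g = pm (sg j)) ∧
      ∃ i < 32, ∃ n ∈ [1, 2], (pm (bq i))⁻¹ * g * pm qA * ((pm (bq i))⁻¹ * g)⁻¹ = pm qA ^ n := by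
  obtain ⟨q, hq, h⟩ := cU_spec (good := fun q => or (not (Nat.beq (ap q 0) 0))
    (frc (M24E.cmp q qA) fun s =>
      and (or (not (and (powId (ap q) 4) (or (powId (ap s) 3) (eqF (itF (ap s) 3) (ap (uE 1))))))
          (not (allLT 32 fun i => not (eqF (ap q) (ap (bq i))))))
        (and (or (not (and (isId fun x => ap q (ap q x)) (powId (ap s) 3)))
            (or (not (allLT 16 fun i => not (eqF (ap q) (ap (uE i)))))
              (not (allLT 6 fun i => not (eqF (ap q) (ap (sg i)))))))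
          (not (allLT 32 fun i => not (intw (ap q) (ap qA) (ap (tq i))))))))
    (by decide +kernel) hg h1
  have hs := hq.cmp (pm_rp isM_A)
  rw [beq_iff'.2 ((hq.pt_eq_iff (by norm_num) (by norm_num)).1 h0), Bool.not_true, Bool.false_or, frc_eq,
    Bool.and_eq_true, Bool.and_eq_true] at h
  obtain ⟨h2, h3, h4⟩ := h
  refine ⟨fun a b => ?_, fun a b => ?_, ?_⟩
  · rw [(hq.powId_iff 4).2 a, (Bool.or_eq_true _ _).symm.mp (b.imp (hs.powId_iff 3).2
      ((hs.pow 3).eqF_iff (rp_uE (by norm_num))).2), Bool.and_self, Bool.not_true, Bool.false_or] at h2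
    obtain ⟨i, hi, e⟩ := exists_of_not_allLT h2
    exact ⟨i, hi, (hq.eqF_iff (rp_bq hi)).1 e⟩
  · rw [(hq.mul hq).isId_iff.2 a, (hs.powId_iff 3).2 b, Bool.and_self, Bool.not_true, Bool.false_or,
      Bool.or_eq_true] at h3
    refine h3.imp (fun h => ?_) fun h => ?_ <;> obtain ⟨i, hi, e⟩ := exists_of_not_allLT h
    exacts [⟨i, hi, (hq.eqF_iff (rp_uE hi)).1 e⟩, ⟨i, hi, (hq.eqF_iff (rp_sg hi)).1 e⟩]
  · obtain ⟨i, hi, e⟩ := exists_of_not_allLT h4
    have e1 := (hq.intw_iff (pm_rp isM_A) (rp_tq hi)).1 e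
    have key : ∀ (b : P24) (n : ℕ), b * pm qA ^ n = pm (tq i) * b → b⁻¹ * g * pm qA * (b⁻¹ * g)⁻¹ = pm qA ^ n :=
      fun b n h => by
        calc _ = b⁻¹ * (g * pm qA * g⁻¹ * b) := by group
          _ = _ := by rw [e1, mul_inv_cancel_right, ← h, inv_mul_cancel_left]
    by_cases h16 : i < 16
    · exact ⟨i, hi, 1, by simp, key _ _ (by rw [pow_one]; exact (tq_spec h16).1)⟩
    · obtain ⟨j, rfl⟩ : ∃ j, i = j + 16 := ⟨i - 16, by omega⟩
      exact ⟨j, by omega, 2, by simp, key _ _ (tq_spec (by omega)).2⟩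

/-- the two hexad groups normalised by `TT` generate a group containing `TT` -/
theorem gen_FF {S : Subgroup P24} (h1 : ∀ i < 16, pm (uE i) ∈ S)
    (h2 : ∀ i < 16, pm qK * pm (uE i) * (pm qK)⁻¹ ∈ S) : pm qA ∈ S ∧ pm qB ∈ S := by
  have k : ∀ i < 16, ∀ q, isM q = true → intw (ap qK) (ap (uE i)) (ap q) = true → isM q = true ∧ pm q ∈ S :=
    fun i hi q hq h => ⟨hq, by
      have := h2 i hi
      rwa [((pm_rp (is22_spec is22_K).1).intw_iff (rp_uE hi) (pm_rp hq)).1 h, mul_inv_cancel_right] at this⟩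
  have h : ∀ q ∈ [uE 1, uE 2, uE 4, uE 8, 0xb8a019aa35335cc248a83bd2b1da80, 0xbc9ab9da2e2c2aca08c83a5e11a880,
      0xb85e299226aa4ac52dc83c1b21d2c0], isM q = true ∧ pm q ∈ S := by
    simp only [List.mem_cons, List.not_mem_nil, or_false, forall_eq_or_imp, forall_eq]
    exact ⟨⟨isM_uE (by norm_num), h1 _ (by norm_num)⟩, ⟨isM_uE (by norm_num), h1 _ (by norm_num)⟩,
      ⟨isM_uE (by norm_num), h1 _ (by norm_num)⟩, ⟨isM_uE (by norm_num), h1 _ (by norm_num)⟩,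
      k 1 (by norm_num) _ (by decide +kernel) (by decide +kernel),
      k 2 (by norm_num) _ (by decide +kernel) (by decide +kernel),
      k 4 (by norm_num) _ (by decide +kernel) (by decide +kernel)⟩
  exact ⟨pm_mem_of_evL h (w := [6, 1, 4, 2, 5, 2, 6, 1]) (by decide +kernel),
    pm_mem_of_evL h (w := [4, 2, 4, 1, 0, 4, 1, 4, 0]) (by decide +kernel)⟩

theorem K_A : pm qK * pm qA * (pm qK)⁻¹ = pm qB :=
  mul_inv_eq_iff_eq_mul.2 (((pm_rp (is22_spec is22_K).1).intw_iff (pm_rp isM_A) (pm_rp isM_B)).1 (by decide +kernel))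

/-- `DD` is generated by the elements that map `qA` into `TT` -/
theorem gen_DD {S : Subgroup P24} (h : ∀ p ∈ DD, p * pm qA * p⁻¹ ∈ TT → p ∈ S) {g : P24} (hg : g ∈ DD) : g ∈ S := by
  have k : ∀ q i j, isM q = true → pm q ∈ DD → intw (ap q) (ap qA) (tF i j) = true → pm q ∈ S :=
    fun q i j hq hd e => h _ hd ⟨i, j, mul_inv_eq_iff_eq_mul.2 (((pm_rp hq).intw_iff (pm_rp isM_A) (rp_tF i j)).1 e)⟩
  have key : ∀ g ∈ DD, g (pt 0) = pt 0 → g ∈ S := fun g hg h0 =>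
    gen_M22' (k _ 1 0 isM_A (is22_spec is22_A).2.1 (by decide +kernel))
      (k _ 1 0 isM_B (is22_spec is22_B).2.1 (by decide +kernel))
      (k _ 1 0 (isM_uE (by norm_num)) (uE_mem (by norm_num)) (by decide +kernel))
      (k _ 0 1 (is22_spec is22_K).1 (is22_spec is22_K).2.1 (by decide +kernel))
      (k _ 1 1 (is22_spec is22_L).1 (is22_spec is22_L).2.1 (by decide +kernel)) hg h0
  by_cases h0 : g (pt 0) = pt 0
  · exact key g hg h0
  have := mul_mem (key (g * pm qI) (mul_mem hg I_DD) (by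
    rw [Equiv.Perm.mul_apply, (DD_swap I_DD I_outer).1, (DD_swap hg h0).2]))
    (inv_mem (k _ 2 0 isM_I I_DD (by decide +kernel)))
  rwa [mul_inv_cancel_right] at this

end CfsgLib.J4X
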