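import Mathlib
import Cfsg.Agent.Lib.J4X.Loc
import Cfsg.Agent.Lib.J4X.EeK

/-!
# Computations modulo a central involution; central products of extraspecial groups
-/

set_option autoImplicit false

namespace CfsgLib.J4X

open Cfsg CfsgLib.J4T CfsgLib.J4T.G3 CfsgLib.ExtraTwo Subgroup

variable {G : Type*} [Group G]

/-- `⟨z⟩` in `C(z)` -/
def ZZ (z : G) : Subgroup (centralizer ({z} : Set G)) := zpowers ⟨z, mem_centralizer_singleton_iff.2 rfl⟩

instance (z : G) : (ZZ z).Normal := ⟨by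
  rintro _ ⟨n, rfl⟩ g
  have : Commute g (⟨z, mem_centralizer_singleton_iff.2 rfl⟩ : centralizer ({z} : Set G)) :=
    Subtype.ext (mem_centralizer_singleton_iff.1 g.2)
  show g * _ ^ n * g⁻¹ ∈ _
  rw [(this.zpow_right n).eq, mul_inv_cancel_right]
  exact ⟨n, rfl⟩⟩

open Classical in
/-- the image in `C(z) / ⟨z⟩` -/
noncomputable def qz (z g : G) : centralizer ({z} : Set G) ⧸ ZZ z :=
  if h : g * z = z * g then QuotientGroup.mk ⟨g, mem_centralizer_singleton_iff.2 h⟩ else 1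

theorem qz_mul {z a b : G} (ha : a * z = z * a) (hb : b * z = z * b) : qz z (a * b) = qz z a * qz z b := by
  rw [qz, qz, qz, dif_pos ha, dif_pos hb, dif_pos (comm_mul ha hb)]; rfl

theorem qz_eq_one {z a : G} (zz : z * z = 1) (ha : a * z = z * a) : qz z a = 1 ↔ a = 1 ∨ a = z := by
  rw [qz, dif_pos ha, QuotientGroup.eq_one_iff, ← mem_zpowers_iff_of_mul_self zz]
  constructor
  · rintro ⟨n, h⟩
    exact ⟨n, congrArg Subtype.val h⟩
  · rintro ⟨n, h⟩
    exact ⟨n, Subtype.ext h⟩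

theorem qz_one (z : G) : qz z 1 = 1 := by rw [qz, dif_pos (by simp)]; rfl

theorem qz_inv {z a : G} (ha : a * z = z * a) : qz z a⁻¹ = (qz z a)⁻¹ :=
  eq_inv_of_mul_eq_one_left (by rw [← qz_mul (comm_inv ha) ha, inv_mul_cancel, qz_one])

theorem qz_pow {z a : G} (ha : a * z = z * a) (n : ℕ) : qz z (a ^ n) = qz z a ^ n := by
  induction n with
  | zero => rw [pow_zero, pow_zero, qz_one]
  | succ n ih => rw [pow_succ, pow_succ, qz_mul (comm_pow ha n) ha, ih]

theorem qz_conj {z a b : G} (ha : a * z = z * a) (hb : b * z = z * b) :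
    qz z (a * b * a⁻¹) = qz z a * qz z b * (qz z a)⁻¹ := by
  rw [qz_mul (comm_mul ha hb) (comm_inv ha), qz_mul ha hb, qz_inv ha]

theorem qz_comm {z a b : G} (zz : z * z = 1) (ha : a * z = z * a) (hb : b * z = z * b) :
    Commute (qz z a) (qz z b) ↔ a * b = b * a ∨ a * b = z * (b * a) := by
  rw [← mul_inv_eq_one (a := a * b), ← mul_inv_eq_iff_eq_mul (a := a * b),
    ← qz_eq_one zz (comm_mul (comm_mul ha hb) (comm_inv (comm_mul hb ha))),
    qz_mul (comm_mul ha hb) (comm_inv (comm_mul hb ha)), qz_inv (comm_mul hb ha), qz_mul ha hb, qz_mul hb ha,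
    mul_inv_eq_one]
  rfl

theorem cube_eq {t c : G} (h : t ^ 3 = 1) : (c * t) ^ 3 = c * (t * c * t⁻¹) * (t⁻¹ * c * t) := by
  have e : t⁻¹ * t⁻¹ = t := by rw [← mul_inv_rev, inv_eq_iff_mul_eq_one, ← pow_three', h]
  calc _ = c * t * c * t * c * t := by rw [pow_three]; group
    _ = c * t * c * (t⁻¹ * t⁻¹) * c * t := by rw [e]
    _ = _ := by group

theorem cube_mul' {t d e : G} (h : t ^ 3 = 1) (h1 : Commute e (t * d * t⁻¹)) (h2 : Commute e (t⁻¹ * d * t))
    (h3 : Commute (t * e * t⁻¹) (t⁻¹ * d * t)) : (d * e * t) ^ 3 = (d * t) ^ 3 * (e * t) ^ 3 := by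
  rw [cube_eq h, cube_eq h, cube_eq h]
  have h0 : t⁻¹ * (d * e) * t = t⁻¹ * d * t * (t⁻¹ * e * t) := by group
  rw [← conj_mul, h0]
  calc _ = d * (e * (t * d * t⁻¹) * (t * e * t⁻¹ * (t⁻¹ * d * t))) * (t⁻¹ * e * t) := by simp only [mul_assoc]
    _ = d * (t * d * t⁻¹ * (e * (t⁻¹ * d * t)) * (t * e * t⁻¹)) * (t⁻¹ * e * t) := by
      rw [h1.eq, h3.eq]; simp only [mul_assoc]
    _ = _ := by rw [h2.eq]; simp only [mul_assoc]

theorem cube_inv {t c : G} (h : (c * t) ^ 3 = 1) : (c⁻¹ * t⁻¹) ^ 3 = 1 := by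
  rw [show c⁻¹ * t⁻¹ = c⁻¹ * (c * t)⁻¹ * c⁻¹⁻¹ by group, conj_pow, inv_pow, h]; simp

/-- the properties of the elements of the extraspecial group -/
def SE (x z c : G) : Prop := c * z = z * c ∧ (c * c = 1 ∨ c * c = z) ∧
  ((c * x) ^ 3 = 1 ∨ (c * x) ^ 3 = z) ∧ ((c * x⁻¹) ^ 3 = 1 ∨ (c * x⁻¹) ^ 3 = z)

theorem SE.four {x z c : G} (zz : z * z = 1) (h : SE x z c) : c ^ 2 ^ 2 = 1 := by
  rw [show (2 : ℕ) ^ 2 = 2 * 2 from rfl, pow_mul, pow_two c, pow_two]
  rcases h.2.1 with e | e <;> rw [e]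
  exacts [mul_one 1, zz]

theorem SE.of_comm {x z c : G} (zz : z * z = 1) (x3 : x ^ 3 = 1) (h : SE x z c) (hc : c * x = x * c) :
    c = 1 ∨ c = z := by
  have h1 := h.2.2.1
  rw [(show Commute c x from hc).mul_pow, x3, mul_one, ← qz_eq_one zz (comm_pow h.1 3), qz_pow h.1] at h1
  have h2 := h.2.1
  rw [← qz_eq_one zz (comm_mul h.1 h.1), qz_mul h.1 h.1, ← pow_two] at h2
  exact (qz_eq_one zz h.1).1 (eq_one_of_coprime (by norm_num) h1 h2)

theorem SE.conj {x z c n : G} (hn : n ∈ N3 x) (hz : n * z = z * n) (h : SE x z c) : SE x z (n * c * n⁻¹) := by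
  have e : n * z * n⁻¹ = z := by rw [hz, mul_inv_cancel_right]
  have k : ∀ g : G, g = 1 ∨ g = z → n * g * n⁻¹ = 1 ∨ n * g * n⁻¹ = z := by
    rintro _ (rfl | rfl)
    exacts [Or.inl (by simp), Or.inr e]
  have h1 := k _ h.2.2.1
  have h2 := k _ h.2.2.2
  rw [← conj_pow, ← conj_mul] at h1 h2
  rw [← conj_inv] at h2
  refine ⟨by have := comm_conj' (g := n) h.1; rwa [e] at this, by rw [conj_mul]; exact k _ h.2.1, ?_⟩
  rcases hn with h3 | h3 <;> rw [h3] at h1 h2
  · exact ⟨h1, h2⟩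
  · rw [inv_inv] at h2; exact ⟨h2, h1⟩

theorem SE.z_self {x z : G} (zz : z * z = 1) (x3 : x ^ 3 = 1) (hx : x * z = z * x) : SE x z z := by
  have c : Commute z x := hx.symm
  refine ⟨rfl, Or.inl zz, Or.inr ?_, Or.inr ?_⟩
  · rw [c.mul_pow, x3, mul_one, pow_three', zz, one_mul]
  · rw [c.inv_right.mul_pow, inv_pow, x3, inv_one, mul_one, pow_three', zz, one_mul]

/-- commutation modulo `z` passes to the generated subgroup -/
theorem comm_closure {z : G} (zz : z * z = 1) {X : Set G} (h1 : ∀ a ∈ X, a * z = z * a)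
    (h2 : ∀ a ∈ X, ∀ b ∈ X, a * b = b * a ∨ a * b = z * (b * a)) :
    (∀ a ∈ closure X, a * z = z * a) ∧ ∀ a ∈ closure X, ∀ b ∈ closure X, a * b = b * a ∨ a * b = z * (b * a) := by
  have hz : ∀ a ∈ closure X, a * z = z * a := fun a ha =>
    mem_centralizer_singleton_iff.1 ((closure_le (centralizer {z})).2
      (fun a ha => mem_centralizer_singleton_iff.2 (h1 a ha)) ha)
  refine ⟨hz, fun a ha b hb => (qz_comm zz (hz a ha) (hz b hb)).1 ?_⟩
  induction ha, hb using closure_induction₂ with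
  | mem a b ha hb => exact (qz_comm zz (h1 a ha) (h1 b hb)).2 (h2 a ha b hb)
  | one_left => rw [qz_one]; exact Commute.one_left _
  | one_right => rw [qz_one]; exact Commute.one_right _
  | mul_left a b c ha hb _ h h' => rw [qz_mul (hz a ha) (hz b hb)]; exact h.mul_left h'
  | mul_right b c a hb hc _ h h' => rw [qz_mul (hz b hb) (hz c hc)]; exact h.mul_right h'
  | inv_left a b ha _ h => rw [qz_inv (hz a ha)]; exact h.inv_left
  | inv_right a b _ hb h => rw [qz_inv (hz b hb)]; exact h.inv_right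

/-- the property `SE` passes to the generated subgroup -/
theorem SE_closure {x z : G} (zz : z * z = 1) (x3 : x ^ 3 = 1) (hx : x * z = z * x) {X : Set G}
    (h1 : ∀ a ∈ X, SE x z a) (h2 : ∀ a ∈ closure X, ∀ b ∈ closure X, a * b = b * a ∨ a * b = z * (b * a))
    (h3 : ∀ a ∈ closure X, x * a * x⁻¹ ∈ closure X) : ∀ a ∈ closure X, SE x z a := by
  have hz : ∀ a ∈ closure X, a * z = z * a := fun a ha =>
    mem_centralizer_singleton_iff.1 ((closure_le (centralizer {z})).2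
      (fun a ha => mem_centralizer_singleton_iff.2 (h1 a ha).1) ha)
  have h4 : ∀ a ∈ closure X, x⁻¹ * a * x ∈ closure X := fun a ha => by
    rw [← conj_conj_three x3]; exact h3 _ (h3 a ha)
  have cm : ∀ a ∈ closure X, ∀ b ∈ closure X, Commute (qz z a) (qz z b) := fun a ha b hb =>
    (qz_comm zz (hz a ha) (hz b hb)).2 (h2 a ha b hb)
  have q3 : qz z x ^ 3 = 1 := by rw [← qz_pow hx, x3, qz_one]
  have c1 : ∀ a ∈ closure X, ∀ b ∈ closure X, Commute (qz z a) (qz z x * qz z b * (qz z x)⁻¹) := fun a ha b hb =>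
    qz_conj hx (hz b hb) ▸ cm a ha _ (h3 b hb)
  have e2 : ∀ b ∈ closure X, qz z (x⁻¹ * b * x) = (qz z x)⁻¹ * qz z b * qz z x := fun b hb => by
    rw [qz_mul (comm_mul (comm_inv hx) (hz b hb)) hx, qz_mul (comm_inv hx) (hz b hb), qz_inv hx]
  have c2 : ∀ a ∈ closure X, ∀ b ∈ closure X, Commute (qz z a) ((qz z x)⁻¹ * qz z b * qz z x) := fun a ha b hb =>
    e2 b hb ▸ cm a ha _ (h4 b hb)
  have c3 : ∀ a ∈ closure X, ∀ b ∈ closure X, Commute (qz z x * qz z a * (qz z x)⁻¹)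
      ((qz z x)⁻¹ * qz z b * qz z x) := fun a ha b hb => qz_conj hx (hz a ha) ▸ c2 _ (h3 a ha) b hb
  have key : ∀ a, a * z = z * a → (SE x z a ↔ qz z a * qz z a = 1 ∧ (qz z a * qz z x) ^ 3 = 1 ∧
      (qz z a * (qz z x)⁻¹) ^ 3 = 1) := fun a ha => by
    rw [SE, ← qz_eq_one zz (comm_mul ha ha), ← qz_eq_one zz (comm_pow (comm_mul ha hx) 3),
      ← qz_eq_one zz (comm_pow (comm_mul ha (comm_inv hx)) 3), qz_pow (comm_mul ha hx),
      qz_pow (comm_mul ha (comm_inv hx)), qz_mul ha ha, qz_mul ha hx, qz_mul ha (comm_inv hx), qz_inv hx]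
    exact and_iff_right ha
  intro a ha
  rw [key a (hz a ha)]
  induction ha using closure_induction with
  | mem a ha => exact (key a (h1 a ha).1).1 (h1 a ha)
  | one => rw [qz_one, one_mul, one_mul, one_mul, inv_pow, q3, inv_one]; exact ⟨rfl, rfl, rfl⟩
  | mul a b ha hb h h' =>
    rw [qz_mul (hz a ha) (hz b hb)]
    refine ⟨by rw [← pow_two, (cm a ha b hb).mul_pow, pow_two, pow_two, h.1, h'.1, mul_one], ?_, ?_⟩
    · rw [cube_mul' q3 (c1 b hb a ha) (c2 b hb a ha) (c3 b hb a ha), h.2.1, h'.2.1, mul_one]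
    · rw [cube_mul' (by rw [inv_pow, q3, inv_one]) (by rw [inv_inv]; exact c2 b hb a ha)
        (by rw [inv_inv]; exact c1 b hb a ha) (by rw [inv_inv]; exact (c3 a ha b hb).symm), h.2.2, h'.2.2, mul_one]
  | inv a ha h => rwa [qz_inv (hz a ha), inv_of_sq h.1]

/-- central product -/
theorem ES_sup {P Q : Subgroup G} {z : G} (hP : ES P z) (hQ : ES Q z) (h : ∀ a ∈ P, ∀ b ∈ Q, a * b = b * a) :
    ES (P ⊔ Q) z ∧ Nat.card (P ⊔ Q : Subgroup G) * 2 = Nat.card P * Nat.card Q := by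
  have hn : Q ≤ normalizer (P : Set G) := fun b hb => mem_normalizer_iff.2 fun a =>
    ⟨fun ha => by rwa [← h a ha b hb, mul_inv_cancel_right], fun ha => by
      have := h _ ha b hb
      rw [inv_mul_cancel_right, mul_assoc, mul_right_inj] at this
      rwa [mul_assoc, ← this] at ha⟩
  have mem : ∀ c ∈ P ⊔ Q, ∃ a ∈ P, ∃ b ∈ Q, a * b = c := fun c hc => by
    rw [← SetLike.mem_coe, coe_mul_of_right_le_normalizer_left _ _ hn] at hc
    exact hc
  have hz : ∀ c ∈ P ⊔ Q, c * z = z * c := fun c hc => by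
    obtain ⟨a, ha, b, hb, rfl⟩ := mem c hc
    exact comm_mul (hP.comm_z a ha) (hQ.comm_z b hb)
  refine ⟨⟨hP.ne_one, hP.mul_self, mem_sup_left hP.mem, hz, fun c hc h1 => ?_, fun c hc d hd => ?_, ?_⟩, ?_⟩
  · obtain ⟨a, ha, b, hb, rfl⟩ := mem c hc
    have h2 := hP.center a ha fun q hq => by
      have := h1 q (mem_sup_left hq)
      rwa [mul_assoc a, ← h q hq b hb, ← mul_assoc, ← mul_assoc, mul_left_inj] at this
    have h3 := hQ.center b hb fun q hq => by
      have := h1 q (mem_sup_right hq)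
      rwa [← mul_assoc, ← h a ha q hq, mul_assoc, mul_assoc, mul_right_inj] at this
    rcases h2 with rfl | rfl <;> rcases h3 with rfl | rfl <;> simp [hP.mul_self]
  · obtain ⟨a, ha, b, hb, rfl⟩ := mem c hc
    obtain ⟨a', ha', b', hb', rfl⟩ := mem d hd
    have za := hP.comm_z a ha
    have zb := hQ.comm_z b hb
    have za' := hP.comm_z a' ha'
    have zb' := hQ.comm_z b' hb'
    rw [← qz_comm hP.mul_self (comm_mul za zb) (comm_mul za' zb'), qz_mul za zb, qz_mul za' zb']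
    exact (((qz_comm hP.mul_self za za').2 (hP.comm a ha a' ha')).mul_right
      ((qz_comm hP.mul_self za zb').2 (Or.inl (h a ha b' hb')))).mul_left
      (((qz_comm hP.mul_self zb za').2 (Or.inl (h a' ha' b hb).symm)).mul_right
        ((qz_comm hP.mul_self zb zb').2 (hQ.comm b hb b' hb')))
  · obtain ⟨a, ha, b, hb, e⟩ := hP.nonab
    exact ⟨a, mem_sup_left ha, b, mem_sup_left hb, e⟩
  · rw [← CfsgLib.Coprime.card_sup_mul_card_inf hn, ← hP.orderOf_eq, ← Nat.card_zpowers]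
    congr 3
    ext c
    rw [hP.mem_zpowers, mem_inf]
    constructor
    · rintro (rfl | rfl)
      exacts [⟨one_mem _, one_mem _⟩, ⟨hP.mem, hQ.mem⟩]
    · exact fun hc => hP.center c hc.1 fun q hq => h q hq c hc.2

end CfsgLib.J4X
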