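import Mathlib
import Cfsg.Agent.Lib.J4X.EeA

/-!
# A second elementary abelian group normalised by the Sylow 3-subgroup
-/

set_option autoImplicit false

namespace CfsgLib.J4X

open Cfsg CfsgLib.Golay CfsgLib.M24E CfsgLib.J4T CfsgLib.J4T.G3 CfsgLib.ExtraTwo Subgroup

variable {G : Type*} [Group G]

theorem AA_comm (x y : G) : AA x y = AA y x := by rw [AA, AA, Set.pair_comm]

theorem conj_cancel {g a b : G} (h : g * a * g⁻¹ * (g * b * g⁻¹) = g * b * g⁻¹ * (g * a * g⁻¹)) : a * b = b * a := by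
  rwa [conj_mul, conj_mul, mul_left_inj, mul_right_inj] at h

theorem VV_conj {n v : G} {A A' : Subgroup G} (h : Cj n A A') (hv : v ∈ VV A) : n * v * n⁻¹ ∈ VV A' := by
  induction hv using closure_induction with
  | mem f hf =>
    obtain ⟨w, hw, h1, hf⟩ := hf
    exact subset_closure ⟨_, (h w).1 hw, fun e => h1 (conj_eq_one_iff.1 e), hf.conj h⟩
  | one => simp
  | mul a b _ _ ha hb => rw [← conj_mul]; exact mul_mem ha hb
  | inv a _ ha => rw [← conj_inv]; exact inv_mem ha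

theorem VV_U {u v : G} {A : Subgroup G} (hu : InU A u) (hv : v ∈ VV A) : v * u = u * v :=
  mem_centralizer_singleton_iff.1 ((closure_le (centralizer {u})).2
    (by rintro _ ⟨_, _, _, hf⟩; exact mem_centralizer_singleton_iff.2 (hf.2.1 u hu)) hv)

theorem VV_comm {A : Subgroup G}
    (h : ∀ w ∈ A, w ≠ 1 → ∀ w' ∈ A, w' ≠ 1 → ∀ f f', InF A w f → InF A w' f' → f * f' = f' * f) :
    (∀ u ∈ VV A, ∀ v ∈ VV A, u * v = v * u) ∧ ∀ u ∈ VV A, u * u = 1 := by
  have h1 : ∀ u ∈ VV A, ∀ v ∈ VV A, Commute u v := fun u hu v hv => by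
    induction hu, hv using closure_induction₂ with
    | mem a b ha hb =>
      obtain ⟨w, hw, w1, ha⟩ := ha
      obtain ⟨w', hw', w1', hb⟩ := hb
      exact h w hw w1 w' hw' w1' a b ha hb
    | one_left => exact Commute.one_left _
    | one_right => exact Commute.one_right _
    | mul_left a b c _ _ _ h h' => exact h.mul_left h'
    | mul_right b c a _ _ _ h h' => exact h.mul_right h'
    | inv_left a b _ _ h => exact h.inv_left
    | inv_right a b _ _ h => exact h.inv_right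
  refine ⟨h1, fun u hu => ?_⟩
  induction hu using closure_induction with
  | mem f hf => obtain ⟨w, -, -, hf⟩ := hf; exact hf.2.2
  | one => exact mul_one 1
  | mul a b ha hb h h' => rw [← pow_two, (h1 a ha b hb).mul_pow, pow_two, pow_two, h, h', mul_one]
  | inv a _ h => rwa [inv_of_sq h]

theorem Pa.cases_A {x y b : G} (p : Pa x y) (hb : b ∈ AA x y) (b1 : b ≠ 1) :
    (∀ v, v * b = b * v → v * x = x * v) ∨ ∃ n < 3, ∀ v, v * b = b * v → v * (x ^ n * y) = x ^ n * y * v := by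
  obtain ⟨i, hi, j, hj, rfl⟩ := p.mem_AA.1 hb
  have e4 : ∀ w : G, w ^ 3 = 1 → w ^ (2 + 2) = w := fun w h => by rw [show 2 + 2 = 3 + 1 from rfl, pow_succ, h, one_mul]
  interval_cases j
  · left
    intro v hv
    interval_cases i
    · exact absurd (by simp) b1
    · simpa using hv
    · have h2 := (show Commute v _ from hv).mul_right (show Commute v _ from hv)
      rw [p.mul_nf, e4 x p.w3] at h2
      simpa using h2.eq
  · exact Or.inr ⟨i, hi, fun v hv => by simpa using hv⟩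
  · refine Or.inr ⟨(i + i) % 3, Nat.mod_lt _ (by norm_num), fun v hv => ?_⟩
    have h2 := (show Commute v _ from hv).mul_right (show Commute v _ from hv)
    rw [p.mul_nf, e4 y p.a3, ← pow_mod3 p.w3] at h2
    exact h2.eq

theorem KS0.comm_eq {w z : G} {θ : G → P24} (k : KS0 w z θ) {a b a' b' : G} (ha : a * w = w * a) (hb : b * w = w * b)
    (ha' : a' * w = w * a') (hb' : b' * w = w * b') (ea : θ a = θ a') (eb : θ b = θ b') :
    a * b * a⁻¹ * b⁻¹ = a' * b' * a'⁻¹ * b'⁻¹ := by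
  have h1 := fun c hc => k.ker_comm (b := c) (comm_mul ha (comm_inv ha')) hc (k.θ_eq ha ha' ea)
  have h2 := fun c hc => k.ker_comm (b := c) (comm_mul hb (comm_inv hb')) hc (k.θ_eq hb hb' eb)
  calc _ = a * a'⁻¹ * (a' * b * a'⁻¹) * (a * a'⁻¹)⁻¹ * b⁻¹ := by group
    _ = a' * b * a'⁻¹ * b⁻¹ := by rw [h1 _ (comm_mul (comm_mul ha' hb) (comm_inv ha')), mul_inv_cancel_right]
    _ = a' * (b * b'⁻¹ * (b' * a'⁻¹ * b'⁻¹) * (b * b'⁻¹)⁻¹) := by group
    _ = _ := by rw [h2 _ (comm_mul (comm_mul hb' (comm_inv ha')) (comm_inv hb')), mul_inv_cancel_right]; group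

/-- the data of the first step -/
structure Dat (g : Gl G) (x y r a : G) (W : Subgroup G) : Prop where
  p : Pa x y
  hz : g.zf y ≠ g.zf x
  rx : r * x = x * r
  r3 : r ^ 3 = 1
  ry : r * y * r⁻¹ = y * x
  aW : a ∈ W
  ay : a * y = y * a
  aF : ¬ InF (AA x y) y a
  Wc : ∀ u ∈ W, ∀ v ∈ W, u * v = v * u
  W2 : ∀ u ∈ W, u * u = 1
  Wz : ∀ u ∈ W, u * g.zf x = g.zf x * u
  W3 : ∀ u ∈ W, (u * x) ^ 3 = 1
  Wx : ∀ u ∈ W, x * u * x⁻¹ ∈ W
  Wr : ∀ u ∈ W, r * u * r⁻¹ ∈ W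

theorem not_three_dvd [Finite G] {W : Subgroup G} {n : ℕ} (h : ∀ u ∈ W, u ^ 2 ^ n = 1) : ¬ 3 ∣ Nat.card W := fun h3 => by
  haveI : Fact (Nat.Prime 3) := ⟨Nat.prime_three⟩
  obtain ⟨u, hu⟩ := exists_prime_orderOf_dvd_card' 3 h3
  have : orderOf u ∣ 2 ^ n := orderOf_dvd_of_pow_eq_one (Subtype.ext (h u u.2))
  rw [hu] at this
  exact absurd (Nat.prime_three.dvd_of_dvd_pow this) (by norm_num)

theorem exists_dat [Finite G] (g : Gl G) {x y k : G} {θ : G → P24} (m : Fm x y (g.zf x) θ) (h : g.zf y ≠ g.zf x)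
    (ha : AllC (AA x y)) (hk : k * x = x * k) (ek : θ k = pm qK)
    (e : k * y * k⁻¹ * y * (k * y * k⁻¹)⁻¹ = y * x) : ∃ a W, Dat g x y (k * y * k⁻¹) a W := by
  have p := m.pa
  have q := p.conj k
  have cj := p.cj k
  rw [hk, mul_inv_cancel_right] at q cj
  have er : θ (k * y * k⁻¹) = pm qB := by rw [m.k0.θ_conj hk p.comm, ek, m.θa, K_A]
  set r := k * y * k⁻¹ with hr
  obtain ⟨Vc, V2⟩ := VV_comm (A := AA x r) fun w hw w1 w' hw' w1' f f' hf hf' =>
    conj_cancel (g := k⁻¹) (ha.comm _ ((cj.symm w).1 hw) (fun e => w1 (conj_eq_one_iff.1 e)) _ ((cj.symm w').1 hw')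
      (fun e => w1' (conj_eq_one_iff.1 e)) _ _ (hf.conj cj.symm) (hf'.conj cj.symm))
  have cA : ∀ b ∈ AA x r, Cj b (AA x r) (AA x r) := fun b hb =>
    q.cj_self (mul_mem (mul_mem hb q.w_mem) (inv_mem hb)) (mul_mem (mul_mem hb q.a_mem) (inv_mem hb))
  have Vx : ∀ v ∈ VV (AA x r), x * v * x⁻¹ ∈ VV (AA x r) := fun v hv => VV_conj (cA x q.w_mem) hv
  have Vx' : ∀ v ∈ VV (AA x r), x⁻¹ * v * x ∈ VV (AA x r) := fun v hv => by
    simpa using VV_conj (cA _ (inv_mem q.w_mem)) hv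
  let W : Subgroup G := ⟨⟨⟨{v | v ∈ VV (AA x r) ∧ (v * x) ^ 3 = 1}, fun {u v} hu hv => ⟨mul_mem hu.1 hv.1, by
    rw [cube_mul' p.w3 (Vc _ hv.1 _ (Vx _ hu.1)) (Vc _ hv.1 _ (Vx' _ hu.1)) (Vc _ (Vx _ hv.1) _ (Vx' _ hu.1)), hu.2,
      hv.2, mul_one]⟩⟩, one_mem _, by rw [one_mul, p.w3]⟩, fun {u} hu => by rwa [inv_of_sq (V2 u hu.1)]⟩
  have Wn : ∀ n, n * x = x * n → Cj n (AA x r) (AA x r) → ∀ v ∈ W, n * v * n⁻¹ ∈ W := fun n hn hc v hv =>
    ⟨VV_conj hc hv.1, by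
      rw [show n * v * n⁻¹ * x = n * (v * x) * n⁻¹ by rw [← conj_mul, hn, mul_inv_cancel_right], conj_pow, hv.2]; simp⟩
  have Wx := Wn x rfl (cA x q.w_mem)
  have Wr := Wn r q.comm (cA r q.a_mem)
  have e1 : y * r * y⁻¹ = x⁻¹ * r := by
    rw [← p.comm.symm, mul_inv_eq_iff_eq_mul] at e
    rw [mul_inv_eq_iff_eq_mul, mul_assoc, e]; group
  have Wy := Wn y p.comm (q.cj_self (by rw [p.comm, mul_inv_cancel_right]; exact q.w_mem)
    (by rw [e1]; exact mul_mem (inv_mem q.w_mem) q.a_mem))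
  have fp : ∀ v ∈ W, v * x = x * v → v = 1 := fun v hv hc => by
    have := hv.2
    rwa [(show Commute v x from hc).mul_pow, p.w3, mul_one, pow_three', V2 v hv.1, one_mul] at this
  by_contra hne
  have H : ∀ a ∈ W, a * y = y * a → InF (AA x y) y a := fun a h1 h2 => by
    by_contra h3
    exact hne ⟨a, W, p, h, q.comm, q.a3, e, h1, h2, h3, fun u hu v hv => Vc u hu.1 v hv.1, fun u hu => V2 u hu.1,
      fun u hu => VV_U (g.zf_U q q.w_mem q.ne) hu.1, fun u hu => hu.2, Wx, Wr⟩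
  have hY : W ≤ centralizer {f | InF (AA x y) x f} := by
    refine p.le_of_cent (not_three_dvd (n := 1) fun u hu => two_of_sq (V2 u hu.1)) Wx Wy fun b hb b1 v hv hvb => ?_
    rcases p.cases_A hb b1 with h1 | ⟨n, -, h1⟩
    · rw [fp v hv (h1 v hvb)]; exact one_mem _
    have e2 := conj_pow_of_central (a := r) (b := y) (c := x) (by rw [e, p.comm]) q.comm.symm n
    have h2 := h1 v hvb
    rw [← e2] at h2
    have h3 : (r ^ n)⁻¹ * v * (r ^ n)⁻¹⁻¹ ∈ W :=
      (mem_normalizer_iff.1 (inv_mem (pow_mem (mem_normalizer_fintype Wr) n)) v).1 hv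
    rw [inv_inv] at h3
    have h4 := (H _ h3 (comm_conj h2)).conj (p.cj_self (g := r ^ n)
      (by rw [comm_pow q.comm n, mul_inv_cancel_right]; exact p.w_mem)
      (by rw [e2]; exact mul_mem (pow_mem p.w_mem n) p.a_mem))
    rw [show r ^ n * ((r ^ n)⁻¹ * v * r ^ n) * (r ^ n)⁻¹ = v by group] at h4
    intro f hf
    exact ha.comm _ p.w_mem p.ne _ (by rw [e2]; exact mul_mem (pow_mem p.w_mem n) p.a_mem)
      (fun e => p.a_ne (conj_eq_one_iff.1 e)) _ _ hf h4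
  have mem : ∀ c, c * x = x * c → c ∈ centralizer (W : Set G) →
      θ c ∈ ((centralizer (W : Set G)).subgroupOf (centralizer {x})).map m.k0.hom := fun c h1 h2 =>
    ⟨⟨c, mem_centralizer_singleton_iff.2 h1⟩, h2, rfl⟩
  obtain ⟨⟨y', hy', ey⟩, r', hr', er'⟩ := gen_FF
    (S := ((centralizer (W : Set G)).subgroupOf (centralizer {x})).map m.k0.hom) (fun i hi => by
      obtain ⟨f, hf, ef⟩ := m.exists_Fi hi
      exact ef ▸ mem f hf.1 fun v hv => (hY hv f hf).symm) fun i hi => by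
      obtain ⟨f, hf, ef⟩ := m.exists_Fi hi
      have h1 := hf.conj cj
      rw [hk, mul_inv_cancel_right] at h1
      rw [← ef, ← ek, ← m.k0.θ_conj hk hf.1]
      exact mem _ h1.1 fun v hv => Vc _ hv.1 _ (subset_closure ⟨x, q.w_mem, q.ne, h1⟩)
  have e3 := m.k0.comm_eq (mem_centralizer_singleton_iff.1 r'.2) (mem_centralizer_singleton_iff.1 y'.2) q.comm p.comm
    (er'.trans er.symm) (ey.trans m.θa.symm)
  rw [e, p.comm, mul_inv_cancel_right] at e3
  have hx : x ∈ centralizer (W : Set G) := e3 ▸ mul_mem (mul_mem (mul_mem hr' hy') (inv_mem hr')) (inv_mem hy')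
  obtain ⟨θ', m'⟩ := g.fm q.symm
  obtain ⟨d, d1, -, hd⟩ := m'.D_four
  have h5 := m'.D_iff.1 ((hd d).2 (Or.inr (Or.inl rfl)))
  rw [AA_comm, ← cube_eq p.w3] at h5
  have h6 : d ∈ W := ⟨subset_closure ⟨r, q.a_mem, q.a_ne, h5.1⟩, h5.2⟩
  exact d1 (fp d h6 (hx d h6))

end CfsgLib.J4X
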