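import Mathlib
import Cfsg.Agent.Lib.J4X.EeB

/-!
# The extraspecial group of order 32 in `C(y) ∩ C(z)`
-/

set_option autoImplicit false

namespace CfsgLib.J4X

open Cfsg CfsgLib.Golay CfsgLib.M24E CfsgLib.J4T CfsgLib.J4T.G3 CfsgLib.ExtraTwo Subgroup

variable {G : Type*} [Group G]

theorem Fm.twist {w a z : G} {θ : G → P24} (m : Fm w a z θ) {p : P24} (hp : p ∈ DD) (hc : p * pm qA = pm qA * p) :
    Fm w a z fun c => p * θ c * p⁻¹ :=
  ⟨m.ks.twist hp, m.pa, by rw [m.θa, hc, mul_inv_cancel_right]⟩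

theorem Gl.zf_ne_one (g : Gl G) {x y : G} (p : Pa x y) (h : g.zf y ≠ g.zf x) : g.zf x ≠ 1 := fun e => by
  obtain ⟨c, rfl⟩ := isConj_iff.1 (g.conj x y p.ne p.w3 p.a_ne p.a3)
  rw [g.zf_conj p.ne p.w3, e] at h
  exact h (by simp)

theorem Pa.N3_of {x y k : G} [Finite G] (g : Gl G) (p : Pa x y) (h : g.zf y ≠ g.zf x) (h1 : k * x * k⁻¹ ∈ AA x y)
    (h2 : k * g.zf x = g.zf x * k) : k ∈ N3 x := by
  by_contra hn
  refine g.zf_ne p h (p.of_mem p.w_mem p.ne h1 fun i e => ?_).1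
    (by rw [g.zf_conj p.ne p.w3, h2, mul_inv_cancel_right])
  rw [← pow_mod3 p.w3] at e
  have := Nat.mod_lt i (show 3 > 0 by norm_num)
  interval_cases i % 3
  · exact p.ne (conj_eq_one_iff.1 (e.trans (pow_zero _)))
  · exact hn (Or.inl (e.trans (pow_one _)))
  · exact hn (Or.inr (by rw [e, eq_inv_iff_mul_eq_one, ← pow_succ, p.w3]))

namespace Dat

variable [Finite G] {g : Gl G} {x y r a : G} {W : Subgroup G} (d : Dat g x y r a W)
include d

omit [Finite G] in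
theorem exists_fm : ∃ ψ, Fm y x (g.zf y) ψ ∧ ψ (g.zf x) = pm (uE 1) ∧ ψ a = pm (sg 0) := by
  have p := d.p.symm
  have hU := g.zf_U p p.a_mem p.a_ne
  obtain ⟨ψ, m, e⟩ : ∃ ψ, Fm y x (g.zf y) ψ ∧ ψ (g.zf x) = pm (uE 1) := by
    obtain ⟨ψ, m⟩ := g.fm p
    obtain ⟨h1, h2, i, hi, e⟩ := m.U_iff.1 hU
    have b1 := (actF_spec actF_B (i := 6) (by norm_num)).2
    have b2 := (actF_spec actF_B (i := 7) (by norm_num)).2
    have hB := (is22_spec is22_B).2.1
    simp only [List.mem_cons, List.not_mem_nil, or_false] at hi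
    rcases hi with rfl | rfl | rfl | rfl
    · rcases m.k0.ker_two h1 (e.trans uE_one) (two_of_sq h2) with h | h
      exacts [absurd h (g.zf_ne_one d.p d.hz), absurd h.symm d.hz]
    · exact ⟨ψ, m, e⟩
    · exact ⟨_, m.twist hB AB.symm.eq, by rw [e]; exact b1⟩
    · exact ⟨_, (m.twist hB AB.symm.eq).twist hB AB.symm.eq, by rw [e, b2]; exact b1⟩
  have zy := hU.1 y p.w_mem
  have h3 := (centZ (m.ks.mem a d.ay).1 (m.ks.mem a d.ay).2 (by
    rw [← e, ← m.ks.mul _ _ d.ay zy, ← m.ks.mul _ _ zy d.ay, d.Wz a d.aW])).2.1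
    (by rw [← m.ks.mul _ _ d.ay d.ay, d.W2 a d.aW, m.k0.θ_one])
    (by rw [← m.θa, ← m.ks.mul _ _ d.ay p.comm, ← m.k0.θ_pow (comm_mul d.ay p.comm), d.W3 a d.aW, m.k0.θ_one])
  rcases h3 with h3 | ⟨j, hj, h3⟩
  · exact absurd (AA_comm x y ▸ m.F_iff.2 ⟨d.ay, d.W2 a d.aW, h3⟩) d.aF
  obtain ⟨s1, s2, s3, s4⟩ := sL_spec hj
  exact ⟨_, m.twist s1 s2, by rw [e, s3, mul_inv_cancel_right], by rw [h3, s4, mul_inv_cancel_right]⟩

theorem exists_B : ∃ B : Subgroup G, ES B (g.zf x) ∧ Nat.card B = 32 ∧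
    (∀ c, c ∈ B ↔ c * y = y * c ∧ SE x (g.zf x) c) ∧ (∀ b ∈ B, ∀ c ∈ B, b * (r * c * r⁻¹) = r * c * r⁻¹ * b) ∧
    ∀ c, c * y = y * c → c * g.zf x = g.zf x * c → ∃ b ∈ B, ∃ k ∈ N3 x, c = b * k := by
  obtain ⟨ψ, m, ez, ea⟩ := d.exists_fm
  have p := m.pa
  have hU := g.zf_U p p.a_mem p.a_ne
  have zne := g.zf_ne_one d.p d.hz
  have hz := d.hz
  have rz : r * g.zf x = g.zf x * r := by
    obtain ⟨θ, k⟩ := g.ks x d.p.ne d.p.w3
    exact k.z_comm r d.rx
  have n1 : r * g.zf y * r⁻¹ ≠ g.zf y := by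
    rw [← g.zf_conj p.ne p.w3, d.ry]
    refine g.zf_ne d.p d.hz (p.of_mem p.w_mem p.ne (mul_mem p.w_mem p.a_mem) fun i e => ?_).1
    have := (p.inj (i := 1) (j := 1) (i' := i) (j' := 0) (by simpa using e)).2
    omega
  have n3 := fun k => @Pa.N3_of G _ x y k _ g d.p d.hz
  have z01 : g.zf y ≠ 1 := g.zf_ne_one p (Ne.symm hz)
  have az := d.Wz a d.aW
  generalize g.zf x = z at *
  generalize g.zf y = z0 at *
  have zz := hU.2
  have zy := hU.1 y p.w_mem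
  have zx := hU.1 x p.a_mem
  have cr : Cj r (AA y x) (AA y x) := p.cj_self (by rw [d.ry]; exact mul_mem p.w_mem p.a_mem)
    (by rw [d.rx, mul_inv_cancel_right]; exact p.a_mem)
  have U0 := m.z_U
  have U1 := U0.conj cr
  have U2 := U1.conj cr
  have e0 : r * (r * (r * z0 * r⁻¹) * r⁻¹) * r⁻¹ = z0 := by rw [conj_conj_three d.r3]; group
  have rz' : r * z * r⁻¹ = z := by rw [rz, mul_inv_cancel_right]
  have cc : ∀ a b : G, r * a * r⁻¹ = r * b * r⁻¹ → a = b := fun a b h => by simpa using h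
  set z1 := r * z0 * r⁻¹ with hz1
  set z2 := r * z1 * r⁻¹ with hz2
  have n2 : z1 ≠ z0 * z := fun e => by
    have h1 : z2 = z0 := by rw [hz2, e, ← conj_mul, ← hz1, rz', e, mul_assoc, zz, mul_one]
    rw [h1] at e0
    exact n1 e0
  have U67 : ∀ u, InU (AA y x) u → (u = 1 ∨ u = z0 ∨ u = z ∨ u = z0 * z) ∨ ∃ i ∈ [6, 7], ψ u = pm (uE i) := by
    intro u hu
    obtain ⟨h1, h2, i, hi, e⟩ := m.U_iff.1 hu
    simp only [List.mem_cons, List.not_mem_nil, or_false] at hi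
    rcases hi with rfl | rfl | rfl | rfl
    · rcases m.k0.ker_two h1 (e.trans uE_one) (two_of_sq h2) with h | h <;> simp [h]
    · rcases m.k0.eq_of_two h1 zy (e.trans ez.symm) (two_of_sq h2) (two_of_sq zz) with h | h <;> simp [h]
    · exact Or.inr ⟨6, by simp, e⟩
    · exact Or.inr ⟨7, by simp, e⟩
  obtain ⟨i1, hi1, e1⟩ := (U67 z1 U1).resolve_left (by
    rintro (h | h | h | h)
    exacts [z01 (conj_eq_one_iff.1 h), n1 h, hz (cc _ _ (h.trans rz'.symm)), n2 h])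
  obtain ⟨i2, hi2, e2⟩ := (U67 z2 U2).resolve_left (by
    rintro (h | h | h | h)
    · exact z01 (conj_eq_one_iff.1 (conj_eq_one_iff.1 h))
    · rw [h] at e0; exact n1 e0
    · exact hz (cc _ _ ((cc _ _ (h.trans rz'.symm)).trans rz'.symm))
    · rw [h, ← conj_mul, ← hz1, rz'] at e0
      exact n2 (by rw [← e0, mul_assoc, zz, mul_one]))
  have y1 := U1.1 y p.w_mem
  have y2 := U2.1 y p.w_mem
  have sw : ∀ c, c * y = y * c → c * z = z * c → z2 * c * z2⁻¹ = z1 * c * z1⁻¹ := by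
    intro c hc hcz
    have c0 := m.ks.z_comm c hc
    have h1 : c * (z1 * z2) = z1 * z2 * c := by
      rcases U67 _ (m.U_mul U1 U2) with (h | h | h | h) | ⟨i, hi, e⟩
      · rw [h]; simp
      · rw [h, c0]
      · rw [h, hcz]
      · rw [h]; exact (comm_mul c0.symm hcz.symm).symm
      · have hl : ∀ i ∈ [6, 7], ∀ j ∈ [6, 7], ∀ k ∈ [6, 7], i < 16 ∧ j < 16 ∧ k < 16 ∧ i ^^^ j < 16 ∧ i ^^^ j ≠ k := by
          decide
        obtain ⟨a1, a2, a3, a4, a5⟩ := hl i1 hi1 i2 hi2 i hi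
        rw [m.ks.mul _ _ y1 y2, e1, e2, uE_mul a1 a2] at e
        exact absurd (uE_injective a4 a3 e) a5
    calc _ = z1⁻¹ * (z1 * z2 * c) * z2⁻¹ := by group
      _ = _ := by rw [← h1, inv_of_sq U1.2]; simp only [mul_assoc, mul_inv_cancel, mul_one]
  let X : Set G := {c | c * y = y * c ∧ c * c = 1 ∧ c * z = z * c ∧ (c * x) ^ 3 = 1 ∧ (c ∈ W ∨ z1 * c * z1⁻¹ ∈ W) ∧
    ∃ j < 6, ψ c = pm (sg j)}
  have x1 := U1.1 x p.a_mem
  have Xx : ∀ c ∈ X, x * c * x⁻¹ ∈ X := by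
    rintro c ⟨h1, h2, h3, h4, h5, j, hj, h6⟩
    refine ⟨comm_mul (comm_mul p.comm h1) (comm_inv p.comm), by rw [conj_mul, h2]; simp,
      comm_mul (comm_mul zx.symm h3) (comm_inv zx.symm), ?_, h5.imp (d.Wx c) fun h => ?_, _, (A_sg hj).1, ?_⟩
    · rw [show x * c * x⁻¹ * x = x * (c * x) * x⁻¹ by group, conj_pow, h4]; simp
    · rw [show z1 * (x * c * x⁻¹) * z1⁻¹ = z1 * x * c * (z1 * x)⁻¹ by group, x1,
        show x * z1 * c * (x * z1)⁻¹ = x * (z1 * c * z1⁻¹) * x⁻¹ by group]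
      exact d.Wx _ h
    · rw [m.k0.θ_conj p.comm h1, m.θa, h6, (A_sg hj).2]
  have Xa : a ∈ X := ⟨d.ay, d.W2 a d.aW, az, d.W3 a d.aW, Or.inl d.aW, 0, by norm_num, ea⟩
  have eb : ∀ u i, i ∈ [6, 7] → u * y = y * u → ψ u = pm (uE i) → ψ (u * a * u⁻¹) = pm (sg 5) := fun u i hi hu e => by
    rw [m.k0.θ_conj hu d.ay, e, ea, U_sg hi]
  have Xb : z1 * a * z1⁻¹ ∈ X := by
    have h1 := (m.U_F U1).2.1 z hU
    refine ⟨comm_mul (comm_mul y1 d.ay) (comm_inv y1), by rw [conj_mul, d.W2 a d.aW]; simp,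
      comm_mul (comm_mul h1 az) (comm_inv h1), ?_, Or.inr ?_, 5, by norm_num, eb z1 i1 hi1 y1 e1⟩
    · rw [show z1 * a * z1⁻¹ * x = z1 * (a * x) * z1⁻¹ by rw [← conj_mul, x1, mul_inv_cancel_right], conj_pow,
        d.W3 a d.aW]; simp
    · rw [show z1 * (z1 * a * z1⁻¹) * z1⁻¹ = z1 * z1 * a * (z1 * z1)⁻¹ by group, U1.2]; simpa using d.aW
  have Xr : ∀ b ∈ X, ∀ c ∈ X, b * (r * c * r⁻¹) = r * c * r⁻¹ * b := by
    rintro b ⟨b1, -, b3, -, b5, -⟩ c ⟨c1, -, c3, -, c5, -⟩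
    have f1 : z1 * (r * c * r⁻¹) * z1⁻¹ = r * c * r⁻¹ := by
      rw [← comm_conj' (m.ks.z_comm c c1), mul_inv_cancel_right]
    have f0 : z0 * b * z0⁻¹ = b := by rw [← m.ks.z_comm b b1, mul_inv_cancel_right]
    have f2 : ∀ u, r * (u * c * u⁻¹) * r⁻¹ = r * u * r⁻¹ * (r * c * r⁻¹) * (r * u * r⁻¹)⁻¹ := fun u => by group
    rcases b5 with b5 | b5 <;> rcases c5 with c5 | c5
    · exact d.Wc _ b5 _ (d.Wr _ c5)
    · have := d.Wc _ b5 _ (d.Wr _ c5)
      rw [← sw c c1 c3, f2, e0, ← f0] at this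
      exact conj_cancel this
    · have := d.Wc _ b5 _ (d.Wr _ c5)
      rw [← f1] at this
      exact conj_cancel this
    · have := d.Wc _ b5 _ (d.Wr _ c5)
      rw [f2, ← hz2, ← sw b b1 b3] at this
      exact conj_cancel this
  have Xc : ∀ b ∈ X, ∀ c ∈ X, b * c = c * b ∨ b * c = z * (c * b) := by
    intro b hb c hc
    have hr : Commute (b * c * (b * c)) (r * a * r⁻¹) :=
      Commute.mul_left (Commute.mul_left (Xr b hb a Xa) (Xr c hc a Xa)) (Commute.mul_left (Xr b hb a Xa) (Xr c hc a Xa))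
    obtain ⟨b1, b2, b3, -, -, i, hi, ei⟩ := hb
    obtain ⟨c1, c2, -, -, -, j, hj, ej⟩ := hc
    rcases sg_comm hi hj with h | h
    · exact Or.inl (m.k0.comm_of_θ b1 c1 b2 c2 (by rw [ei, ej, h]))
    have hy := comm_mul (comm_mul b1 c1) (comm_mul b1 c1)
    have h1 : ψ (b * c * (b * c)) = ψ z := by rw [m.ks.mul _ _ (comm_mul b1 c1) (comm_mul b1 c1), m.ks.mul _ _ b1 c1, ei,
      ej, h, ez]
    have h2 : Commute (b * c * (b * c)) b := by
      have := (show Commute _ b from m.k0.ker_comm (comm_mul hy (comm_inv zy)) b1 (m.k0.θ_eq hy zy h1)).mul_left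
        (show Commute z b from b3.symm)
      rwa [inv_mul_cancel_right] at this
    have h3 : b * c * (b * c) * (b * c * (b * c)) = 1 := by
      calc _ = b * c * (b * c) * b * (c * (b * c)) := by group
        _ = b * b * (c * (b * (c * c) * b) * c) := by rw [h2.eq]; group
        _ = 1 := by rw [c2, mul_one, b2, mul_one, c2, mul_one]
    rcases m.k0.eq_of_two hy zy h1 (two_of_sq h3) (two_of_sq zz) with h4 | h4
    · right
      rw [← h4, mul_assoc (b * c), mul_assoc b c (c * b), ← mul_assoc c c, c2, one_mul, b2, mul_one]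
    · exfalso
      rw [h4] at hr
      have h5 : Commute z (r * a * r⁻¹) := by
        have := comm_conj' (g := r) az
        rw [rz'] at this
        exact this.symm
      have h6 := hr.mul_left h5
      rw [mul_assoc, zz, mul_one, ← e0] at h6
      have h7 := eb z2 i2 hi2 y2 e2
      rw [conj_cancel h6, mul_inv_cancel_right, ea] at h7
      exact sg_ne h7.symm
  obtain ⟨Bz, Bc⟩ := comm_closure zz (X := X) (fun c hc => hc.2.2.1) Xc
  have By : ∀ c ∈ closure X, c * y = y * c := fun c hc =>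
    mem_centralizer_singleton_iff.1 ((closure_le (centralizer {y})).2
      (fun c hc => mem_centralizer_singleton_iff.2 hc.1) hc)
  have Bx : ∀ c ∈ closure X, x * c * x⁻¹ ∈ closure X := fun c hc => by
    have : (closure X).map (MulAut.conj x).toMonoidHom ≤ closure X := by
      rw [MonoidHom.map_closure]
      exact closure_mono (by rintro _ ⟨c, hc, rfl⟩; exact Xx c hc)
    exact this ⟨c, hc, rfl⟩
  have BS := SE_closure zz p.a3 zx.symm (X := X) (fun c hc => ⟨hc.2.2.1, Or.inl hc.2.1, Or.inl hc.2.2.2.1, Or.inl (by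
    have := cube_inv hc.2.2.2.1
    rwa [inv_of_sq hc.2.1] at this)⟩) Bc Bx
  have mem : ∀ c ∈ closure X, ψ c ∈ ((closure X).subgroupOf (centralizer {y})).map m.k0.hom := fun c hc =>
    ⟨⟨c, mem_centralizer_singleton_iff.2 (By c hc)⟩, hc, rfl⟩
  have ea1 : ψ (x * a * x⁻¹) = pm (sg 1) := by
    rw [m.k0.θ_conj p.comm d.ay, m.θa, ea, (A_sg (by norm_num)).2]; rfl
  have eb0 := eb z1 i1 hi1 y1 e1
  have eb1 : ψ (x * (z1 * a * z1⁻¹) * x⁻¹) = pm (sg 4) := by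
    rw [m.k0.θ_conj p.comm Xb.1, m.θa, eb0, (A_sg (by norm_num)).2]; rfl
  have lift : ∀ i < 32, ∃ b ∈ closure X, ψ b = pm (bq i) := fun i hi => by
    obtain ⟨b, hb, e⟩ := bq_mem (ea ▸ mem a (subset_closure Xa)) (ea1 ▸ mem _ (subset_closure (Xx a Xa)))
      (eb0 ▸ mem _ (subset_closure Xb)) (eb1 ▸ mem _ (subset_closure (Xx _ Xb))) hi
    exact ⟨b, hb, e⟩
  have img : ∀ c, c * y = y * c → SE x z c → ∃ i < 32, ψ c = pm (bq i) := fun c hc hs => by
    refine (centZ (m.ks.mem c hc).1 (m.ks.mem c hc).2 (by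
      rw [← ez, ← m.ks.mul _ _ hc zy, ← m.ks.mul _ _ zy hc, hs.1])).1
      (by rw [← m.k0.θ_pow hc, show 4 = 2 ^ 2 from rfl, hs.four zz, m.k0.θ_one]) ?_
    rw [← m.θa, ← m.ks.mul _ _ hc p.comm, ← m.k0.θ_pow (comm_mul hc p.comm)]
    rcases hs.2.2.1 with h | h <;> rw [h]
    exacts [Or.inl m.k0.θ_one, Or.inr ez]
  have inj : ∀ b c, b * y = y * b → c * y = y * c → SE x z b → SE x z c → ψ c = ψ b → c = b := by
    intro b c hb hc sb sc e
    refine (m.k0.eq_of_two hc hb e (sc.four zz) (sb.four zz)).resolve_right fun h => ?_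
    have c0 : Commute z0 (b * x) := (m.ks.z_comm _ (comm_mul hb p.comm)).symm
    have h1 := sc.2.2.1
    rw [h, mul_assoc, c0.mul_pow, pow_three', U0.2, one_mul] at h1
    rcases sb.2.2.1 with h2 | h2 <;> rw [h2] at h1
    · rw [mul_one] at h1; exact h1.elim z01 hz
    · rcases h1 with h1 | h1
      · exact hz (by rw [eq_inv_of_mul_eq_one_left h1, inv_of_sq zz])
      · exact z01 (mul_eq_right.1 h1)
  have iff : ∀ c, c ∈ closure X ↔ c * y = y * c ∧ SE x z c := fun c => ⟨fun h => ⟨By c h, BS c h⟩, fun h => by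
    obtain ⟨i, hi, e⟩ := img c h.1 h.2
    obtain ⟨b, hb, e'⟩ := lift i hi
    rwa [inj b c (By b hb) h.1 (BS b hb) h.2 (e.trans e'.symm)]⟩
  have Sz := SE.z_self zz p.a3 zx.symm
  have hom : ∀ b ∈ closure X, ∀ c ∈ closure X, b * c = c * b → ψ b * ψ c = ψ c * ψ b := fun b hb c hc h => by
    rw [← m.ks.mul _ _ (By b hb) (By c hc), h, m.ks.mul _ _ (By c hc) (By b hb)]
  refine ⟨closure X, ⟨zne, zz, (iff z).2 ⟨zy, Sz⟩, Bz, fun c hc h => ?_, Bc, a, subset_closure Xa, _,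
    subset_closure (Xx _ Xb), fun h => sg_nc ?_⟩, ?_, iff, fun b hb c hc => ?_, fun c hc hcz => ?_⟩
  · obtain ⟨i, hi, e⟩ := img c (By c hc) (BS c hc)
    have h1 : ∀ b ∈ X, pm (bq i) * ψ b = ψ b * pm (bq i) := fun b hb =>
      e ▸ hom c hc b (subset_closure hb) (h b (subset_closure hb)).symm
    refine (bq_center hi ?_).imp (fun h2 => ?_) fun h2 => ?_
    · simp only [List.mem_cons, List.not_mem_nil, or_false, forall_eq_or_imp, forall_eq]
      exact ⟨ea ▸ h1 _ Xa, ea1 ▸ h1 _ (Xx _ Xa), eb1 ▸ h1 _ (Xx _ Xb), eb0 ▸ h1 _ Xb⟩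
    · exact inj 1 c (by simp) (By c hc) (BS 1 (one_mem _)) (BS c hc) (by rw [e, h2, m.k0.θ_one])
    · exact inj z c zy (By c hc) Sz (BS c hc) (by rw [e, h2, ez])
  · rw [← ea, ← eb1]
    exact hom _ (subset_closure Xa) _ (subset_closure (Xx _ Xb)) h
  · have : Function.Bijective fun i : Fin 32 => (⟨(lift i i.2).choose, (lift i i.2).choose_spec.1⟩ : closure X) := by
      refine ⟨fun i j h => Fin.ext (bq_inj i.2 j.2 ?_), fun c => ?_⟩
      · rw [← (lift i i.2).choose_spec.2, ← (lift j j.2).choose_spec.2]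
        exact congrArg (fun c : closure X => ψ c) h
      · obtain ⟨i, hi, e⟩ := img c (By c c.2) (BS c c.2)
        have := (lift i hi).choose_spec
        exact ⟨⟨i, hi⟩, Subtype.ext (inj _ _ (By c c.2) (By _ this.1) (BS c c.2) (BS _ this.1) (this.2.trans e.symm))⟩
    rw [← Nat.card_eq_of_bijective _ this]; simp
  · show Commute b (r * c * r⁻¹)
    induction hb, hc using closure_induction₂ with
    | mem a b ha hb => exact Xr a ha b hb
    | one_left => exact Commute.one_left _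
    | one_right => simp
    | mul_left a b c _ _ _ h h' => exact h.mul_left h'
    | mul_right b c a _ _ _ h h' => rw [← conj_mul]; exact h.mul_right h'
    | inv_left a b _ _ h => exact h.inv_left
    | inv_right a b _ _ h => rw [← conj_inv]; exact h.inv_right
  · obtain ⟨i, hi, n, hn, e⟩ := (centZ (m.ks.mem c hc).1 (m.ks.mem c hc).2 (by
      rw [← ez, ← m.ks.mul _ _ hc zy, ← m.ks.mul _ _ zy hc, hcz])).2.2
    obtain ⟨b, hb, e'⟩ := lift i hi
    have hk := comm_mul (comm_inv (By b hb)) hc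
    obtain ⟨j, -, e3⟩ := m.k0.eq_of_three (comm_mul (comm_mul hk p.comm) (comm_inv hk)) (comm_pow p.comm n)
      (by rw [m.k0.θ_conj hk p.comm, m.ks.mul _ _ (comm_inv (By b hb)) hc, m.k0.θ_inv (By b hb), e', m.θa, e,
        m.k0.θ_pow p.comm, m.θa]) (by rw [conj_pow, p.a3]; simp) (by rw [← pow_mul, mul_comm, pow_mul, p.a3, one_pow])
    exact ⟨b, hb, b⁻¹ * c, n3 _ (by rw [e3, AA_comm]; exact p.mem_AA'.2 ⟨_, _, rfl⟩)
      (comm_mul (comm_inv (Bz b hb)) hcz), by group⟩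

end Dat

end CfsgLib.J4X
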