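import Mathlib
import Cfsg.Agent.Lib.J4X.EeC

/-!
# The extraspecial group of order `2 ^ 13`
-/

set_option autoImplicit false

namespace CfsgLib.J4X

open Cfsg CfsgLib.Golay CfsgLib.M24E CfsgLib.J4T CfsgLib.J4T.G3 CfsgLib.ExtraTwo Subgroup

variable {G : Type*} [Group G]

/-- the canonical description of the extraspecial group -/
def EE (x z : G) (A : Subgroup G) : Subgroup G := closure {c | ∃ w ∈ A, w ≠ 1 ∧ c * w = w * c ∧ SE x z c}

theorem EE_conj {x z n c : G} {A A' : Subgroup G} (hn : n ∈ N3 x) (hz : n * z = z * n) (h : Cj n A A')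
    (hc : c ∈ EE x z A) : n * c * n⁻¹ ∈ EE x z A' := by
  have : (EE x z A).map (MulAut.conj n).toMonoidHom ≤ EE x z A' := by
    rw [EE, MonoidHom.map_closure]
    refine closure_mono ?_
    rintro _ ⟨c, ⟨w, hw, w1, h1, h2⟩, rfl⟩
    exact ⟨_, (h w).1 hw, fun e => w1 (conj_eq_one_iff.1 e), comm_conj' h1, h2.conj hn hz⟩
  exact this ⟨c, hc, rfl⟩

/-- `θ` as a homomorphism -/
def KS.hom {w z : G} {θ : G → P24} (k : KS w z θ) : N3 w →* P24 :=
  MonoidHom.mk' (fun a => θ a) fun a b => k.mul2 _ a.2 _ b.2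

theorem Dat.exists_EX [Finite G] {g : Gl G} {x y r a : G} {W : Subgroup G} (d : Dat g x y r a W) {θ : G → P24}
    (m : Fm x y (g.zf x) θ) (er : θ r = pm qB) : ∃ E, EX x (g.zf x) E := by
  obtain ⟨B, es, card, iff, cm, cent⟩ := d.exists_B
  have p := d.p
  generalize g.zf x = z at *
  have zz := es.mul_self
  have nz := m.ks.z_comm2
  have rN := N3_of_comm d.rx
  have rz : r * z * r⁻¹ = z := by rw [nz r rN, mul_inv_cancel_right]
  set f := (MulAut.conj r).toMonoidHom with hf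
  have fa : ∀ c, f c = r * c * r⁻¹ := fun _ => rfl
  have cf : ∀ P : Subgroup G, Nat.card (P.map f) = Nat.card P := fun P =>
    (Nat.card_congr (P.equivMapOfInjective f (MulAut.conj r).injective).toEquiv).symm
  have es1 : ES (B.map f) z := rz ▸ es.map_conj r
  have es2 : ES ((B.map f).map f) z := rz ▸ es1.map_conj r
  obtain ⟨s1, c1⟩ := ES_sup es es1 (by rintro b hb _ ⟨c, hc, rfl⟩; exact cm b hb c hc)
  have hn : B.map f ≤ normalizer (B : Set G) := by
    rintro _ ⟨c, hc, rfl⟩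
    exact mem_normalizer_fintype fun b hb => by rw [fa, ← cm b hb c hc, mul_inv_cancel_right]; exact hb
  obtain ⟨s2, c2⟩ := ES_sup s1 es2 (by
    rintro e he _ ⟨_, ⟨c, hc, rfl⟩, rfl⟩
    rw [← SetLike.mem_coe, coe_mul_of_right_le_normalizer_left _ _ hn] at he
    obtain ⟨b, hb, _, ⟨b', hb', rfl⟩, rfl⟩ := he
    refine (Commute.mul_left ?_ (comm_conj' (cm b' hb' c hc))).eq
    have := comm_conj' (g := r⁻¹) (cm c hc b hb)
    rw [inv_inv, ← conj_conj_three d.r3, show r⁻¹ * (r * b * r⁻¹) * r = b by group] at this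
    exact this.symm)
  rw [cf, cf, card] at c2
  rw [cf, card] at c1
  have e2 := fun n => conj_pow_of_central (a := r) (b := y) (c := x) (by rw [d.ry, p.comm]) d.rx.symm n
  have cr : Cj r (AA x y) (AA x y) := p.cj_self (by rw [d.rx, mul_inv_cancel_right]; exact p.w_mem)
    (by rw [d.ry]; exact mul_mem p.a_mem p.w_mem)
  have hE : B ⊔ B.map f ⊔ (B.map f).map f = EE x z (AA x y) := by
    have h0 : B ≤ EE x z (AA x y) := fun c hc => subset_closure ⟨y, p.a_mem, p.a_ne, (iff c).1 hc⟩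
    have h1 : ∀ P ≤ EE x z (AA x y), P.map f ≤ EE x z (AA x y) := by
      rintro P hP _ ⟨c, hc, rfl⟩
      exact EE_conj rN (nz r rN) cr (hP hc)
    refine le_antisymm (sup_le (sup_le h0 (h1 _ h0)) (h1 _ (h1 _ h0))) ((closure_le _).2 ?_)
    rintro c ⟨w, hw, w1, h2, h3⟩
    rcases p.cases_A hw w1 with h | ⟨n, hn, h⟩
    · rcases h3.of_comm zz p.w3 (h c h2) with rfl | rfl
      exacts [one_mem _, s2.mem]
    have h4 := h c h2
    rw [← e2] at h4
    have hr := inv_mem (pow_mem rN n)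
    have h5 := (iff _).2 ⟨comm_conj h4, by simpa using h3.conj hr (nz _ hr)⟩
    interval_cases n
    · exact mem_sup_left (mem_sup_left (by simpa using h5))
    · exact mem_sup_left (mem_sup_right ⟨_, h5, by rw [fa]; group⟩)
    · exact mem_sup_right ⟨_, ⟨_, h5, rfl⟩, by rw [fa, fa]; group⟩
  have hB : B ≤ EE x z (AA x y) := hE ▸ le_sup_of_le_left le_sup_left
  rw [hE] at s2 c2
  have N1 : ∀ n ∈ N3 x, Cj n (AA x y) (AA x y) → n ∈ normalizer (EE x z (AA x y) : Set G) := fun n hn h =>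
    mem_normalizer_fintype fun e he => EE_conj hn (nz n hn) h he
  have Nx := N1 x (N3_of_comm rfl) (m.cj_A p.w_mem)
  have Ny := N1 y (N3_of_comm p.comm) (m.cj_A p.a_mem)
  have Nr := N1 r rN cr
  have ES' : ∀ e ∈ EE x z (AA x y), SE x z e := SE_closure zz p.w3 (nz x (N3_of_comm rfl))
    (fun _ ⟨_, _, _, h⟩ => h.2) s2.comm fun e he => (mem_normalizer_iff.1 Nx e).1 he
  have N2 : ∀ n ∈ N3 x, θ n * pm qA * (θ n)⁻¹ ∈ TT → n ∈ normalizer (EE x z (AA x y) : Set G) := by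
    rintro n hn ⟨i, j, e⟩
    have hb := comm_mul (comm_pow p.comm i) (comm_pow d.rx j)
    obtain ⟨s, t, e1⟩ := m.eq_ker hb (N3_comm hn p.comm) (by
      rw [m.ks.θ_conj2 hn (N3_of_comm p.comm), m.θa, e, m.ks.mul _ _ (comm_pow p.comm i) (comm_pow d.rx j),
        m.k0.θ_pow p.comm, m.k0.θ_pow d.rx, m.θa, er])
    have h1 : n * y * n⁻¹ ∈ normalizer (EE x z (AA x y) : Set G) := e1 ▸
      mul_mem (mul_mem (pow_mem (le_normalizer s2.mem) s) (pow_mem Nx t)) (mul_mem (pow_mem Ny i) (pow_mem Nr j))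
    have h2 : n * x * n⁻¹ ∈ normalizer (EE x z (AA x y) : Set G) := by
      rcases hn with h | h <;> rw [h]
      exacts [Nx, inv_mem Nx]
    have h3 : EE x z (AA x y) ≤ EE x z (AA (n * x * n⁻¹) (n * y * n⁻¹)) :=
      (p.conj n).le_of_cent (not_three_dvd fun e he => (ES' e he).four zz)
        (fun e he => (mem_normalizer_iff.1 h2 e).1 he) (fun e he => (mem_normalizer_iff.1 h1 e).1 he)
        fun b hb b1 e he hc => subset_closure ⟨b, hb, b1, hc, ES' e he⟩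
    exact inv_mem_iff.1 (mem_normalizer_fintype fun e he =>
      EE_conj (inv_mem hn) (nz _ (inv_mem hn)) (p.cj n).symm (h3 he))
  have N3' : ∀ n ∈ N3 x, n ∈ normalizer (EE x z (AA x y) : Set G) := fun n hn => by
    obtain ⟨n', hn', e⟩ := gen_DD (S := ((normalizer (EE x z (AA x y) : Set G)).subgroupOf (N3 x)).map m.ks.hom)
      (fun q hq h => by
        obtain ⟨k, hk, rfl⟩ := m.ks.surj2 q hq
        exact ⟨⟨k, hk⟩, N2 k hk h, rfl⟩) (m.ks.mem2 n hn)
    have := mul_mem (N2 (n * (n' : G)⁻¹) (mul_mem hn (inv_mem n'.2)) (by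
      rw [m.ks.mul2 _ hn _ (inv_mem n'.2), m.ks.θ_inv2 n'.2, ← e]
      show θ n' * (θ n')⁻¹ * _ * (θ n' * (θ n')⁻¹)⁻¹ ∈ _
      simpa using A_TT)) (show (n' : G) ∈ _ from hn')
    rwa [inv_mul_cancel_right] at this
  refine ⟨_, s2, by omega, fun k hk e he => (mem_normalizer_iff.1 (N3' k hk) e).1 he,
    fun e he h => (ES' e he).of_comm zz p.w3 h, fun y' q c hc hcz => ?_⟩
  obtain ⟨s, hs, rfl⟩ := m.k0.conj3 p q
  have sN := N3_of_comm hs
  obtain ⟨b, hb, k, hk, e⟩ := cent _ (comm_conj hc) (comm_mul (comm_mul (comm_inv (nz s sN)) hcz) (nz s sN))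
  refine ⟨s * b * s⁻¹, (mem_normalizer_iff.1 (N3' s sN) b).1 (hB hb), s * k * s⁻¹,
    mul_mem (mul_mem sN hk) (inv_mem sN), by rw [conj_mul, ← e]; group⟩

theorem Pa.inv {w a : G} (p : Pa w a) : Pa w⁻¹ a ∧ AA w⁻¹ a = AA w a :=
  p.of_mem (inv_mem p.w_mem) (inv_ne_one.2 p.ne) p.a_mem fun i e => p.na (2 * i) (by
    rw [pow_mul, e, show w ^ 2 = w⁻¹ by rw [eq_inv_iff_mul_eq_one, ← pow_succ, p.w3]])

/-- EE -/
theorem Gl.exists_EX [Finite G] (g : Gl G) {x y : G} (p : Pa x y) (h : g.zf y ≠ g.zf x) (ha : AllC (AA x y)) :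
    ∃ E, EX x (g.zf x) E := by
  obtain ⟨θ, m⟩ := g.fm p
  obtain ⟨k, hk, ek⟩ := m.ks.surj _ (is22_spec is22_K).2.1 (is22_spec is22_K).2.2
  have hr := comm_mul (comm_mul hk p.comm) (comm_inv hk)
  have er : θ (k * y * k⁻¹) = pm qB := by rw [m.k0.θ_conj hk p.comm, ek, m.θa, K_A]
  obtain ⟨i, hi, e⟩ := m.k0.eq_of_three (comm_mul (comm_mul hr p.comm) (comm_inv hr)) p.comm
    (by rw [m.k0.θ_conj hr p.comm, m.θa, er, ← AB.eq, mul_inv_cancel_right]) (by rw [conj_pow, p.a3]; simp) p.a3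
  interval_cases i
  · rw [pow_zero, one_mul, mul_inv_eq_iff_eq_mul] at e
    exact absurd e.symm (m.k0.not_comm p.comm hr m.θa er)
  · obtain ⟨a, W, d⟩ := exists_dat g m h ha hk ek (by rw [e, pow_one, p.comm])
    exact d.exists_EX m er
  · have e1 := g.zf_inv p.ne p.w3
    have m' : Fm x⁻¹ y (g.zf x⁻¹) θ := ⟨e1 ▸ m.ks.inv, p.inv.1, m.θa⟩
    obtain ⟨a, W, d⟩ := exists_dat g m' (e1 ▸ h) (p.inv.2 ▸ ha) (comm_inv_right.2 hk) ek (by
      rw [e, show x ^ 2 = x⁻¹ by rw [eq_inv_iff_mul_eq_one, ← pow_succ, p.w3], p.inv.1.comm])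
    obtain ⟨E, hE⟩ := d.exists_EX m' er
    rw [e1] at hE
    refine ⟨E, hE.es, hE.card, fun k hk => hE.norm k (N3_inv.2 hk), fun e he h => hE.fpf e he (comm_inv_right.2 h),
      fun y' q c hc hcz => ?_⟩
    obtain ⟨e, he, k, hk, rfl⟩ := hE.cent y' q.inv.1 c hc hcz
    exact ⟨e, he, k, N3_inv.1 hk, rfl⟩

end CfsgLib.J4X
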