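import Mathlib
import Cfsg.Agent.Lib.J4X.Defs

/-! # The embedding hypothesis of the packages H0, SC, GOLD -/

set_option autoImplicit false

namespace CfsgLib.J4X

open Cfsg CfsgLib.Golay CfsgLib.M24E CfsgLib.J4T CfsgLib.J4T.G3 Subgroup

/-- the hypothesis of the packages H0 and SC: `H` (with coordinates) is strongly 3-embedded in `Γ` -/
structure Emb {H Γ : Type*} [Group H] [Group Γ] {z : H} (h : HM z) (φ : H →* Γ) : Prop where
  inj : Function.Injective φ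
  cH : ∀ k : H, k * z = z * k
  cΓ : ∀ c : Γ, c * φ z = φ z * c
  rho : ∀ c : Γ, c ∈ N3 (φ h.ρ) → c ∈ φ.range
  cent : ∀ y : H, Pa h.ρ y → ∀ c : Γ, c * φ y = φ y * c → c ∈ φ.range
  nconj : ∀ y : H, Pa h.ρ y → ¬ IsConj (φ h.ρ) (φ y)

variable {H Γ : Type*} [Group H] [Group Γ] {z : H} {h : HM z} {φ : H →* Γ}

/-- the embedding followed by an inner automorphism -/
def cjh (c : Γ) (φ : H →* Γ) : H →* Γ := (MulAut.conj c).toMonoidHom.comp φ

theorem cjh_apply (c : Γ) (φ : H →* Γ) (x : H) : cjh c φ x = c * φ x * c⁻¹ := rfl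

theorem mem_range_cjh {c g : Γ} : g ∈ (cjh c φ).range ↔ c⁻¹ * g * c ∈ φ.range :=
  ⟨fun ⟨x, e⟩ => ⟨x, by rw [← e, cjh_apply]; group⟩, fun ⟨x, e⟩ => ⟨x, by rw [cjh_apply, e]; group⟩⟩

theorem Emb.cjh_z (b : Emb h φ) (c : Γ) : cjh c φ z = φ z := by
  rw [cjh_apply, b.cΓ, mul_inv_cancel_right]

theorem Emb.conj (b : Emb h φ) (c : Γ) : Emb h (cjh c φ) where
  inj := (MulAut.conj c).injective.comp b.inj
  cH := b.cH
  cΓ := fun g => by rw [b.cjh_z, b.cΓ]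
  rho := fun g hg => mem_range_cjh.2 (b.rho _ (by
    rw [mem_N3, cjh_apply] at hg
    have e : c⁻¹ * g * c * φ h.ρ * (c⁻¹ * g * c)⁻¹ = c⁻¹ * (g * (c * φ h.ρ * c⁻¹) * g⁻¹) * c := by group
    rw [mem_N3, e]
    refine hg.imp (fun e' => ?_) fun e' => ?_ <;> rw [e'] <;> group))
  cent := fun y hy g hg => mem_range_cjh.2 (b.cent y hy _ (by
    rw [cjh_apply] at hg
    calc _ = c⁻¹ * (g * (c * φ y * c⁻¹)) * c := by group
      _ = _ := by rw [hg]; group))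
  nconj := fun y hy e => b.nconj y hy
    (((isConj_iff.2 ⟨c, rfl⟩).trans e).trans (isConj_iff.2 ⟨c, rfl⟩).symm)

end CfsgLib.J4X
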