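import Mathlib
import Cfsg.Agent.Lib.J4X.Loc
import Cfsg.Agent.Lib.J4X.Emb
import Cfsg.Agent.Lib.J4X.Jof
import Cfsg.Agent.Lib.J4T.Main

/-! # The group `E N(⟨x⟩)` and its embedding in the centraliser of `z` -/

set_option autoImplicit false
set_option linter.unusedSectionVars false

namespace CfsgLib.J4X

open Cfsg CfsgLib.Golay CfsgLib.M24E CfsgLib.J4T CfsgLib.J4T.G3 Subgroup CfsgLib.LargeExtra

namespace Fn

variable {G : Type*} [Group G] [Finite G]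

/-- the extraspecial group normalised by `N(⟨x⟩)` -/
structure EY (x z : G) (θ : G → P24) (E : Subgroup G) : Prop where
  ks : KS x z θ
  es : ExtraTwo.ES E z
  card : Nat.card E = 8192
  norm : ∀ k ∈ N3 x, ∀ e ∈ E, k * e * k⁻¹ ∈ E
  fpf : ∀ e ∈ E, e * x = x * e → e = 1 ∨ e = z

variable {x z : G} {θ : G → P24} {E : Subgroup G}

theorem x_N3 : x ∈ N3 x := N3_of_comm rfl

namespace EY

variable (y : EY x z θ E)
include y

theorem k0 : KS0 x z θ := y.ks.toKS0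

theorem x_not : x ∉ E := fun h =>
  y.ks.ne (eq_one_of_coprime (by norm_num : Nat.Coprime 4 3) (y.es.pow_four h) y.ks.three)

theorem inf {t : G} (h1 : t ∈ E) (h2 : t ∈ N3 x) : t = 1 ∨ t = z := by
  rcases h2 with h | h
  · exact y.fpf t h1 (by rw [← mul_inv_eq_iff_eq_mul]; exact h)
  · refine absurd ?_ y.x_not
    have := mul_mem h1 (y.norm x x_N3 _ (inv_mem h1))
    rw [← mul_assoc, ← mul_assoc, h, ← mul_inv_rev, inv_mem_iff] at this
    have e : x = (x * x) ^ 2 := by rw [← pow_two, ← pow_mul, show 2 * 2 = 3 + 1 by rfl, pow_succ, y.ks.three, one_mul]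
    rw [e]
    exact pow_mem this 2

theorem θ_eq {e e' k k' : G} (he : e ∈ E) (he' : e' ∈ E) (hk : k ∈ N3 x) (hk' : k' ∈ N3 x) (h : e * k = e' * k') :
    θ k = θ k' := by
  have e1 : k * k'⁻¹ = e⁻¹ * e' := by
    calc _ = e⁻¹ * (e * k) * k'⁻¹ := by group
      _ = _ := by rw [h]; group
  have e2 : θ (k * k'⁻¹) = 1 := by
    rcases y.inf (e1 ▸ mul_mem (inv_mem he) he') (mul_mem hk (inv_mem hk')) with h | h <;> rw [h]
    exacts [y.k0.θ_one, y.k0.θ_z]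
  rwa [y.ks.mul2 _ hk _ (inv_mem hk'), y.ks.θ_inv2 hk', mul_inv_eq_one] at e2

theorem mul {e e' k k' : G} (he : e ∈ E) (he' : e' ∈ E) (hk : k ∈ N3 x) :
    e * (k * e' * k⁻¹) ∈ E ∧ e * k * (e' * k') = e * (k * e' * k⁻¹) * (k * k') :=
  ⟨mul_mem he (y.norm k hk e' he'), by group⟩

/-- the group `E N(⟨x⟩)` -/
def HH : Subgroup G where
  carrier := {g | ∃ e ∈ E, ∃ k ∈ N3 x, g = e * k}
  one_mem' := ⟨1, one_mem _, 1, one_mem _, by simp⟩
  mul_mem' := by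
    rintro _ _ ⟨e, he, k, hk, rfl⟩ ⟨e', he', k', hk', rfl⟩
    exact ⟨_, (y.mul he he' hk (k' := k')).1, _, mul_mem hk hk', (y.mul he he' hk).2⟩
  inv_mem' := by
    rintro _ ⟨e, he, k, hk, rfl⟩
    exact ⟨_, y.norm _ (inv_mem hk) _ (inv_mem he), _, inv_mem hk, by group⟩

theorem mem_HH {g : G} : g ∈ y.HH ↔ ∃ e ∈ E, ∃ k ∈ N3 x, g = e * k := Iff.rfl

theorem E_le : E ≤ y.HH := fun e he => ⟨e, he, 1, one_mem _, by simp⟩

theorem N3_le : N3 x ≤ y.HH := fun k hk => ⟨1, one_mem _, k, hk, by simp⟩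

theorem HH_z {g : G} (h : g ∈ y.HH) : g * z = z * g := by
  obtain ⟨e, he, k, hk, rfl⟩ := h
  exact comm_mul (y.es.comm_z e he) (y.ks.z_comm2 k hk)

/-- the kernel of `N(⟨x⟩)` on `E / ⟨z⟩` -/
def K0 : Subgroup G where
  carrier := {k | k ∈ N3 x ∧ ∀ e ∈ E, k * e * k⁻¹ = e ∨ k * e * k⁻¹ = e * z}
  one_mem' := ⟨one_mem _, fun e _ => Or.inl (by simp)⟩
  mul_mem' := by
    rintro a b ⟨ha, ha'⟩ ⟨hb, hb'⟩
    refine ⟨mul_mem ha hb, fun e he => ?_⟩
    have e1 : a * b * e * (a * b)⁻¹ = a * (b * e * b⁻¹) * a⁻¹ := by group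
    have e2 : a * (e * z) * a⁻¹ = a * e * a⁻¹ * z := by
      calc _ = a * e * (a⁻¹ * z) := by rw [comm_inv (y.ks.z_comm2 a ha)]; group
        _ = _ := by group
    rw [e1]
    rcases hb' e he with h | h <;> rw [h]
    · exact ha' e he
    · rw [e2]
      rcases ha' e he with h' | h' <;> rw [h']
      exacts [Or.inr rfl, Or.inl (y.es.zz' e)]
  inv_mem' := by
    rintro a ⟨ha, ha'⟩
    refine ⟨inv_mem ha, fun e he => (ha' _ (y.norm _ (inv_mem ha) e he)).imp (fun h => ?_) fun h => ?_⟩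
    · rw [← h]; group
    · rw [← y.es.zz' (a⁻¹ * e * a⁻¹⁻¹), ← h]; group

theorem mem_K0 {k : G} : k ∈ y.K0 ↔ k ∈ N3 x ∧ ∀ e ∈ E, k * e * k⁻¹ = e ∨ k * e * k⁻¹ = e * z := Iff.rfl

theorem K0_conj {k c : G} (hk : k ∈ y.K0) (hc : c ∈ N3 x) : c * k * c⁻¹ ∈ y.K0 := by
  refine ⟨mul_mem (mul_mem hc hk.1) (inv_mem hc), fun e he => ?_⟩
  have e1 : c * k * c⁻¹ * e * (c * k * c⁻¹)⁻¹ = c * (k * (c⁻¹ * e * c⁻¹⁻¹) * k⁻¹) * c⁻¹ := by group
  rw [e1]
  refine (hk.2 _ (y.norm _ (inv_mem hc) e he)).imp (fun h => ?_) fun h => ?_ <;> rw [h]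
  · group
  · calc _ = e * (c * z) * c⁻¹ := by group
      _ = _ := by rw [y.ks.z_comm2 c hc]; group

theorem z_K0 : z ∈ y.K0 :=
  ⟨N3_of_comm y.k0.z_w, fun e he => Or.inl (by rw [← y.es.comm_z e he]; group)⟩

theorem x_K0 : x ∉ y.K0 := fun h => by
  have : ∀ e ∈ E, e = 1 ∨ e = z := fun e he => y.fpf e he (by
    rcases h.2 e he with h1 | h1
    · rw [← mul_inv_eq_iff_eq_mul.1 h1]
    · have h2 := conj_pow_of_central (c := z) (h1.trans (y.es.comm_z e he)) y.k0.z_w 3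
      rw [y.ks.three, pow_succ, pow_two, y.ks.zz] at h2
      exact absurd (by simpa using h2.symm) y.es.ne_one)
  obtain ⟨a, ha, b, hb, hab⟩ := y.es.nonab
  rcases this a ha with rfl | rfl
  · simp at hab
  · exact hab (y.es.comm_z b hb).symm

theorem K0_cases {k : G} (hk : k ∈ y.K0) : k = 1 ∨ k = z := by
  let f : N3 x →* P24 := MonoidHom.mk' (fun a => θ a) fun a b => y.ks.mul2 _ a.2 _ b.2
  have hQ := bot_or_le (Q := (y.K0.subgroupOf (N3 x)).map f) (by rintro _ ⟨a, -, rfl⟩; exact y.ks.mem2 _ a.2) (by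
    rintro g hg _ ⟨a, ha, rfl⟩
    obtain ⟨c, hc, rfl⟩ := y.ks.surj2 g (mem_M22.1 hg).1
    exact ⟨⟨c, hc⟩ * a * ⟨c, hc⟩⁻¹, y.K0_conj ha hc, by rw [map_mul, map_mul, map_inv]; rfl⟩)
  rcases hQ with hQ | hQ
  · have h1 : θ k = 1 := mem_bot.1 (hQ ▸ mem_map_of_mem f (x := ⟨k, hk.1⟩) hk)
    obtain ⟨b, i, e⟩ := y.ks.ker2 hk.1 h1
    have h2 : x ^ i ∈ y.K0 := (mul_mem_cancel_left (pow_mem y.z_K0 b)).1 (e ▸ hk)
    rw [← pow_mod3 y.ks.three] at h2
    have h3 : i % 3 = 0 := by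
      by_contra h
      rcases (by omega : i % 3 = 1 ∨ i % 3 = 2) with h | h <;> rw [h] at h2
      · exact y.x_K0 (by simpa using h2)
      · have := pow_mem h2 2
        rw [← pow_mul, show 2 * 2 = 3 + 1 by rfl, pow_succ, y.ks.three, one_mul] at this
        exact y.x_K0 this
    rw [e, ← pow_mod3 y.ks.three i, h3, pow_zero, mul_one]
    exact sq_pow_cases y.ks.zz b
  · refine absurd (commutator_le.2 ?_ y.ks.perf) y.x_K0
    intro a ha b hb
    rw [mem_cent] at ha hb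
    obtain ⟨⟨c, hc⟩, hc', e⟩ := hQ (mem_M22.2 (y.ks.mem a ha))
    have e' : θ c = θ a := e
    have hcx : c * x = x * c := y.ks.inner c hc (e' ▸ (y.ks.mem a ha).2)
    have h1 := y.k0.ker_comm (comm_mul ha (comm_inv hcx)) hb (y.k0.θ_eq ha hcx e'.symm)
    have h2 := y.k0.ker_comm (comm_mul ha (comm_inv hcx)) hcx (y.k0.θ_eq ha hcx e'.symm)
    have h3 : a * b * a⁻¹ * b⁻¹ = c * (b * c⁻¹ * b⁻¹) := by
      have ea : a = c * (a * c⁻¹) := by rw [← h2]; group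
      generalize a * c⁻¹ = t at h1 ea
      rw [ea]
      calc _ = c * (t * b) * t⁻¹ * c⁻¹ * b⁻¹ := by group
        _ = _ := by rw [h1]; group
    rw [commutatorElement_def, h3]
    exact mul_mem hc' (y.K0_conj (inv_mem hc') (N3_of_comm hb))

theorem base (hall : ∀ c, c * z = z * c → c ∈ y.HH) : ∃ b : Base z, b.E = E ∧ b.ρ = x := by
  classical
  have hθ : ∃ η : G → P24, ∀ e ∈ E, ∀ k ∈ N3 x, η (e * k) = θ k := by
    refine ⟨fun g => if h : g ∈ y.HH then θ h.choose_spec.2.choose else 1, fun e he k hk => ?_⟩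
    have h : e * k ∈ y.HH := ⟨e, he, k, hk, rfl⟩
    simp only [dif_pos h]
    exact y.θ_eq h.choose_spec.1 he h.choose_spec.2.choose_spec.1 hk h.choose_spec.2.choose_spec.2.symm
  obtain ⟨η, hη⟩ := hθ
  refine ⟨⟨E, x, η, ⟨y.es, fun g hg => ?_, fun g hg e he => ?_⟩, y.card, y.ks.ne, y.ks.three, y.k0.z_w.symm,
    fun a b ha hb => ?_, fun a ha => ?_, fun p hp => ?_, fun a ha => ?_, y.fpf⟩, rfl, rfl⟩
  · obtain ⟨e, he, k, hk, rfl⟩ := hall g (hg z y.es.mem).symm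
    have : k ∈ E := by
      have : k ∈ y.K0 := ⟨hk, fun q hq => by
        have e1 : k * q * k⁻¹ = e⁻¹ * q * e⁻¹⁻¹ := by
          calc _ = e⁻¹ * (e * k * q) * k⁻¹ := by group
            _ = _ := by rw [← hg q hq]; group
        rw [e1]
        exact y.es.conj hq (inv_mem he)⟩
      rcases y.K0_cases this with h | h <;> rw [h]
      exacts [one_mem _, y.es.mem]
    exact y.es.center _ (mul_mem he this) hg
  · obtain ⟨e', he', k, hk, rfl⟩ := hall g hg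
    have := mul_mem (mul_mem he' (y.norm k hk e he)) (inv_mem he')
    rwa [show e' * (k * e * k⁻¹) * e'⁻¹ = e' * k * e * (e' * k)⁻¹ by group] at this
  · obtain ⟨e, he, k, hk, rfl⟩ := hall a ha
    obtain ⟨e', he', k', hk', rfl⟩ := hall b hb
    rw [(y.mul he he' hk).2, hη _ (y.mul he he' hk (k' := k')).1 _ (mul_mem hk hk'), hη e he k hk, hη e' he' k' hk',
      y.ks.mul2 k hk k' hk']
  · obtain ⟨e, he, k, hk, rfl⟩ := hall a ha
    rw [hη e he k hk]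
    exact y.ks.mem2 k hk
  · obtain ⟨k, hk, rfl⟩ := y.ks.surj2 p hp
    exact ⟨1 * k, by rw [one_mul, y.ks.z_comm2 k hk], hη 1 (one_mem _) k hk⟩
  · constructor
    · obtain ⟨e, he, k, hk, rfl⟩ := hall a ha
      rw [hη e he k hk]
      intro h
      obtain ⟨b, i, rfl⟩ := y.ks.ker2 hk h
      exact ⟨_, mul_mem he (pow_mem y.es.mem b), i, (mul_assoc _ _ _).symm⟩
    · rintro ⟨e, he, i, rfl⟩
      rw [hη e he _ (pow_mem x_N3 i), y.k0.θ_pow rfl, y.k0.θ_w, one_pow]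

end EY

theorem coe_N3 {H : Subgroup G} {w k : H} : k ∈ N3 w ↔ (k : G) ∈ N3 (w : G) := by
  simp only [mem_N3, Subtype.ext_iff, coe_mul, coe_inv]

theorem coe_comm {H : Subgroup G} {a b : H} : a * b = b * a ↔ (a : G) * b = b * a := by
  simp only [Subtype.ext_iff, coe_mul]

/-- restriction of the coordinates to a subgroup that contains `N(⟨x⟩)` -/
theorem ks_sub {H : Subgroup G} {w z : H} (k : KS (w : G) z θ) (h : N3 (w : G) ≤ H) : KS w z fun a => θ a where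
  ne := fun e => k.ne (congrArg Subtype.val e)
  three := Subtype.ext k.three
  zz := Subtype.ext k.zz
  z_comm := fun a ha => coe_comm.2 (k.z_comm a (coe_comm.1 ha))
  mul := fun a b ha hb => k.mul a b (coe_comm.1 ha) (coe_comm.1 hb)
  mem := fun a ha => k.mem a (coe_comm.1 ha)
  surj := fun p hp h0 => by
    obtain ⟨a, ha, e⟩ := k.surj p hp h0
    exact ⟨⟨a, h (N3_of_comm ha)⟩, coe_comm.2 ha, e⟩
  ker := fun a ha => by
    rw [k.ker a (coe_comm.1 ha)]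
    simp only [Subtype.ext_iff, coe_mul, coe_pow]
  perf := by
    have e : (centralizer ({w} : Set H)).map H.subtype = centralizer ({(w : G)} : Set G) := by
      ext a
      rw [mem_cent]
      refine ⟨?_, fun ha => ⟨⟨a, h (N3_of_comm ha)⟩, mem_cent.2 (coe_comm.2 ha), rfl⟩⟩
      rintro ⟨b, hb, rfl⟩
      exact coe_comm.1 (mem_cent.1 hb)
    have := k.perf
    rw [← e, ← map_commutator] at this
    obtain ⟨b, hb, e'⟩ := this
    obtain rfl : b = w := Subtype.ext e'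
    exact hb
  z_comm2 := fun a ha => coe_comm.2 (k.z_comm2 a (coe_N3.1 ha))
  mul2 := fun a ha b hb => k.mul2 a (coe_N3.1 ha) b (coe_N3.1 hb)
  mem2 := fun a ha => k.mem2 a (coe_N3.1 ha)
  surj2 := fun p hp => by
    obtain ⟨a, ha, e⟩ := k.surj2 p hp
    exact ⟨⟨a, h ha⟩, coe_N3.2 ha, e⟩
  inner := fun a ha h0 => coe_comm.2 (k.inner a (coe_N3.1 ha) h0)

theorem pa_coe {H : Subgroup G} {w a : H} (p : Pa w a) : Pa (w : G) a :=
  ⟨fun e => p.ne (Subtype.ext e), congrArg Subtype.val p.w3, congrArg Subtype.val p.a3, coe_comm.1 p.comm,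
    fun i e => p.na i (Subtype.ext e)⟩

theorem pa_inv {w a : G} (p : Pa w⁻¹ a) : Pa w a :=
  ⟨fun e => p.ne (by rw [e, inv_one]), by simpa using p.w3, p.a3, comm_inv_right.1 p.comm, fun i e => p.na (2 * i) (by
    have : w⁻¹ ^ 2 = w := by
      rw [← inv_inv w, inv_inv w⁻¹, eq_inv_iff_mul_eq_one, ← pow_succ, p.w3]
    rw [pow_mul, this, e])⟩

/-- the embedding of `E N(⟨x⟩)` in `C(z)` -/
theorem exists_emb (g : Gl G) {x y : G} (p : Pa x y) (h : g.zf y ≠ g.zf x) {E : Subgroup G}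
    (e : EX x (g.zf x) E) {θ : G → P24} (u : EY x (g.zf x) θ E) :
    ∃ (z : u.HH) (m : HM z), Emb m (inclusion (H := u.HH) (K := centralizer {g.zf x}) fun _ hc => mem_cent.2 (u.HH_z hc)) := by
  let x' : u.HH := ⟨x, u.N3_le x_N3⟩
  let z' : u.HH := ⟨g.zf x, u.E_le u.es.mem⟩
  have u' : EY x' z' (fun a => θ a) (E.subgroupOf u.HH) :=
    ⟨ks_sub u.ks u.N3_le, u.es.subgroupOf u.E_le, by rw [Nat.card_congr (subgroupOfEquivOfLe u.E_le).toEquiv, u.card],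
      fun k hk a ha => u.norm k (coe_N3.1 hk) a ha,
      fun a ha hc => (u.fpf a ha (coe_comm.1 hc)).imp Subtype.ext Subtype.ext⟩
  obtain ⟨b, -, hb⟩ := u'.base fun c _ => by
    obtain ⟨a, ha, k, hk, ec⟩ := c.2
    exact ⟨⟨a, u.E_le ha⟩, ha, ⟨k, u.N3_le hk⟩, coe_N3.2 hk, Subtype.ext ec⟩
  obtain ⟨m, -, hm⟩ := b.exists_HM
  rw [hb] at hm
  have hρ : (m.ρ : G) = x ∨ (m.ρ : G) = x⁻¹ := hm.imp (congrArg Subtype.val) (congrArg Subtype.val)
  have hp : ∀ w : u.HH, Pa m.ρ w → Pa x (w : G) := fun w q => by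
    have := pa_coe q
    rcases hρ with h | h <;> rw [h] at this
    exacts [this, pa_inv this]
  refine ⟨z', m, inclusion_injective _, fun k => coe_comm.2 (u.HH_z k.2), fun c => coe_comm.2 (mem_cent.1 c.2),
    fun c hc => ?_, fun w q c hc => ?_, fun w q hc => ?_⟩
  · have h1 : (c : G) ∈ N3 (m.ρ : G) := coe_N3.1 hc
    refine ⟨⟨c, u.N3_le ?_⟩, rfl⟩
    rcases hρ with h | h <;> rw [h] at h1
    exacts [h1, N3_inv.1 h1]
  · exact ⟨⟨c, e.cent w (hp w q) c (coe_comm.1 hc) (mem_cent.1 c.2)⟩, rfl⟩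
  · obtain ⟨c, hc⟩ := isConj_iff.1 hc
    have h1 : (c : G) * m.ρ * (c : G)⁻¹ = w := congrArg Subtype.val hc
    have h2 : g.zf m.ρ = g.zf x := by
      rcases hρ with h | h <;> rw [h]
      exact g.zf_inv p.ne p.w3
    refine g.zf_ne p h (hp w q) ?_
    rw [← h1, g.zf_conj (pa_coe q).ne (pa_coe q).w3, h2, mem_cent.1 c.2, mul_inv_cancel_right]

end Fn

end CfsgLib.J4X
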