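import Mathlib
import Cfsg.Agent.Lib.J4X.Emb
import Cfsg.Agent.Lib.J4X.Loc
import Cfsg.Agent.Lib.J4X.DichA
import Cfsg.Agent.S2775
import Cfsg.Agent.Lib.Invol.Dihedral
import Cfsg.Agent.Lib.Mathieu.Simple
import Cfsg.Agent.Lib.Core.Cores
import Cfsg.Agent.Lib.Tech.SylowIn

/-! # The embedding is onto, given the strong closure of `E` and the normaliser of `E` -/

set_option autoImplicit false

namespace CfsgLib.J4X

open Cfsg CfsgLib.Golay CfsgLib.M24E CfsgLib.J4T CfsgLib.J4T.G3 Subgroup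

namespace Go

/-- every involution in the normal closure of a strongly closed elementary abelian 2-group `A` is conjugate into `A` -/
theorem conj_into {G : Type*} [Group G] [Finite G] (S : Sylow 2 G) {A : Subgroup G} (h2 : ∀ a ∈ A, a * a = 1)
    (hsc : IsStronglyClosed A (S : Subgroup G)) {k : G} (hk : k ∈ normalClosure (A : Set G)) (k2 : k * k = 1) :
    ∃ a ∈ A, IsConj a k := by
  haveI : Fact (Nat.Prime 2) := ⟨Nat.prime_two⟩
  have hA : IsMulCommutative A := ⟨⟨fun a b => Subtype.ext (J4T.comm_of_sq h2 a.2 b.2)⟩⟩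
  set K := normalClosure (A : Set G) with hK
  let π := QuotientGroup.mk' (pPrimeCore 2 K)
  obtain ⟨-, -, ⟨T, -, hT⟩, -⟩ := Cfsg.Agent.S2775.result S A hA hsc K rfl (K ⧸ pPrimeCore 2 K) π
    (QuotientGroup.mk'_surjective _) (QuotientGroup.ker_mk' _)
  have k2' : (⟨k, hk⟩ : K) * ⟨k, hk⟩ = 1 := Subtype.ext k2
  have e2 : π ⟨k, hk⟩ ^ 2 = 1 := by rw [sq, ← map_mul, k2', map_one]
  have hp : IsPGroup 2 (zpowers (π ⟨k, hk⟩)) := by
    rintro ⟨x, n, rfl⟩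
    refine ⟨1, Subtype.ext ?_⟩
    show (π ⟨k, hk⟩ ^ n) ^ 2 ^ 1 = 1
    rw [pow_one, ← zpow_natCast, ← zpow_mul, mul_comm, zpow_mul, zpow_natCast, e2, one_zpow]
  obtain ⟨T', hT'⟩ := hp.exists_le_sylow
  obtain ⟨q, rfl⟩ := MulAction.exists_smul_eq (K ⧸ pPrimeCore 2 K) T' T
  have hm : q * π ⟨k, hk⟩ * q⁻¹ ∈ ((q • T' : Sylow 2 _) : Subgroup _) := by
    rw [Sylow.coe_subgroup_smul]
    exact smul_mem_pointwise_smul _ (MulAut.conj q) _ (hT' (mem_zpowers _))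
  have hm2 : q * π ⟨k, hk⟩ * q⁻¹ ∈ (A.subgroupOf K).map π := by
    rw [hT]
    refine mem_sup_right (subset_closure ⟨hm, ?_⟩)
    rw [conj_pow, e2, mul_one, mul_inv_cancel]
  obtain ⟨a, ha, ea⟩ := hm2
  obtain ⟨c, rfl⟩ := QuotientGroup.mk'_surjective _ q
  have a2 : a * a = 1 := Subtype.ext (h2 _ ha)
  have hker : a * (c * ⟨k, hk⟩ * c⁻¹) ∈ pPrimeCore 2 K := by
    rw [← QuotientGroup.ker_mk' (pPrimeCore 2 K), MonoidHom.mem_ker]
    show π _ = 1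
    rw [map_mul, map_mul π (c * _), map_mul π c, map_inv]
    show π a * (π c * π ⟨k, hk⟩ * (π c)⁻¹) = 1
    have ea' : π a = π c * π ⟨k, hk⟩ * (π c)⁻¹ := ea
    rw [← ea', ← map_mul, a2, map_one]
  have hodd : Odd (orderOf (a * (c * ⟨k, hk⟩ * c⁻¹))) := by
    have h1 := Subgroup.orderOf_dvd_natCard _ hker
    have h3 := CfsgLib.Core.not_dvd_card_pPrimeCore Nat.prime_two K
    rw [← Nat.not_even_iff_odd, even_iff_two_dvd]
    exact fun e => h3 (e.trans h1)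
  have hc := Invol.isConj_of_odd a2 (by rw [show c * ⟨k, hk⟩ * c⁻¹ * (c * ⟨k, hk⟩ * c⁻¹) = c * (⟨k, hk⟩ * ⟨k, hk⟩) * c⁻¹ by group, k2', mul_one, mul_inv_cancel]) hodd
  have hc' : IsConj a ⟨k, hk⟩ := hc.trans (isConj_iff.2 ⟨c, rfl⟩).symm
  exact ⟨a, ha, K.subtype.map_isConj hc'⟩

variable {H Γ : Type*} [Group H] [Finite H] [Group Γ] [Finite Γ] {z : H} {h : HM z} {φ : H →* Γ}

/-- the two facts of the packages H0 and SC -/
structure Hy (h : HM z) (φ : H →* Γ) : Prop extends Emb h φ where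
  sc : ∀ e ∈ h.E, ∀ (t : H) (c : Γ), c * φ e * c⁻¹ = φ t → t ∈ h.E
  nE : ∀ c : Γ, (∀ e ∈ h.E, c * φ e * c⁻¹ ∈ h.E.map φ) → c ∈ φ.range

namespace Hy

variable (b : Hy h φ)
include b

omit [Finite H] [Finite Γ] in
theorem of_range {c : Γ} (hc : ∀ e ∈ h.E, c * φ e * c⁻¹ ∈ φ.range) : c ∈ φ.range :=
  b.nE c fun e he => by
    obtain ⟨t, ht⟩ := hc e he
    exact ⟨t, b.sc e he t c ht.symm, ht⟩

omit [Finite H] [Finite Γ] b in
theorem sq_E {e : H} (he : e ∈ h.E) : ∃ a : ℕ, e * e = z ^ a := by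
  obtain ⟨v, hv, a, -, rfl⟩ := h.mem_E'.1 he
  refine ⟨qf v, ?_⟩
  rw [show h.s v * z ^ a * (h.s v * z ^ a) = h.s v * (z ^ a * h.s v) * z ^ a by group, ← h.s_zpow hv,
    show h.s v * (h.s v * z ^ a) * z ^ a = h.s v * h.s v * (z ^ a * z ^ a) by group, h.zpow_self, mul_one, h.s_sq hv]

omit [Finite H] [Finite Γ] b in
theorem four_E {e : H} (he : e ∈ h.E) : e ^ 2 ^ 2 = 1 := by
  obtain ⟨a, ha⟩ := sq_E he
  rw [show e ^ 2 ^ 2 = e * e * (e * e) by norm_num [pow_succ, mul_assoc], ha, h.zpow_self]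

omit [Finite H] in
theorem exists_S : ∃ S : Sylow 2 Γ, h.E.map φ ≤ S ∧ (S : Subgroup Γ) ≤ φ.range := by
  haveI : Fact (Nat.Prime 2) := ⟨Nat.prime_two⟩
  have hE : IsPGroup 2 h.E := fun x => ⟨2, Subtype.ext (four_E x.2)⟩
  obtain ⟨S, hS⟩ := (hE.map φ).exists_le_sylow
  refine ⟨S, hS, ?_⟩
  by_contra hn
  have hlt : (S : Subgroup Γ) ⊓ φ.range < S := lt_of_le_of_ne inf_le_left fun e => hn (e ▸ inf_le_right)
  obtain ⟨c, hc, hc1⟩ := SetLike.exists_of_lt (Tech.lt_inf_normalizer_of_lt S.isPGroup' hlt)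
  refine hc1 ⟨hc.1, b.of_range fun e he => ?_⟩
  exact ((mem_normalizer_iff.1 hc.2 (φ e)).1 ⟨hS ⟨e, he, rfl⟩, ⟨e, rfl⟩⟩).2

omit [Finite H] in
/-- a normal subgroup containing `φ E` whose elements with square in `⟨φ z⟩` are conjugate into `φ E` -/
theorem exists_K : ∃ K : Subgroup Γ, K.Normal ∧ h.E.map φ ≤ K ∧
    ∀ k ∈ K, ∀ a : ℕ, k * k = φ z ^ a → ∃ e ∈ h.E, IsConj (φ e) k := by
  haveI : Fact (Nat.Prime 2) := ⟨Nat.prime_two⟩
  haveI hZ : (zpowers (φ z)).Normal := ⟨by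
    rintro x ⟨n, rfl⟩ g
    have : g * φ z ^ n * g⁻¹ = φ z ^ n := by
      rw [← _root_.conj_zpow, b.cΓ, mul_inv_cancel_right]
    show g * φ z ^ n * g⁻¹ ∈ _
    rw [this]; exact ⟨n, rfl⟩⟩
  let π := QuotientGroup.mk' (zpowers (φ z))
  have hπ : Function.Surjective π := QuotientGroup.mk'_surjective _
  have hker : ∀ x y : Γ, π x = π y → ∃ u ∈ h.E, y = x * φ u := by
    intro x y e
    obtain ⟨_, ⟨n, rfl⟩, e'⟩ := (QuotientGroup.mk'_eq_mk' _).1 e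
    exact ⟨z ^ n, zpow_mem h.z_mem n, by rw [← e', map_zpow]⟩
  have hz : ∀ a : ℕ, π (φ z ^ a) = 1 := fun a =>
    (QuotientGroup.eq_one_iff _).2 (pow_mem (mem_zpowers _) a)
  obtain ⟨S, hS, hS'⟩ := b.exists_S
  have h2 : ∀ a ∈ (h.E.map φ).map π, a * a = 1 := by
    rintro _ ⟨_, ⟨e, he, rfl⟩, rfl⟩
    obtain ⟨a, ha⟩ := sq_E he
    rw [← map_mul, ← map_mul, ha, map_pow, hz]
  have hsc : IsStronglyClosed ((h.E.map φ).map π) (S.mapSurjective hπ : Subgroup _) := by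
    refine ⟨map_mono hS, ?_⟩
    rintro _ ⟨_, ⟨e, he, rfl⟩, rfl⟩ g ⟨x, hx, ex⟩
    obtain ⟨g, rfl⟩ := hπ g
    rw [← map_inv, ← map_mul, ← map_mul] at ex ⊢
    obtain ⟨u, hu, eu⟩ := hker _ _ ex
    obtain ⟨t, rfl⟩ := hS' hx
    exact ⟨_, ⟨t * u, b.sc e he _ g (by rw [eu, map_mul]), by rw [eu, map_mul]⟩, rfl⟩
  refine ⟨(normalClosure ((h.E.map φ).map π : Set _)).comap π, inferInstance, fun x hx =>
    subset_normalClosure (mem_map_of_mem π hx), fun k hk a ha => ?_⟩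
  obtain ⟨_, ⟨_, ⟨e, he, rfl⟩, rfl⟩, hc⟩ := conj_into _ h2 hsc hk (by rw [← map_mul, ha, hz])
  obtain ⟨c, hc⟩ := isConj_iff.1 hc
  obtain ⟨c, rfl⟩ := hπ c
  rw [← map_inv, ← map_mul, ← map_mul] at hc
  obtain ⟨_, ⟨n, rfl⟩, e'⟩ := (QuotientGroup.mk'_eq_mk' _).1 hc
  refine ⟨e * z ^ n, mul_mem he (zpow_mem h.z_mem n), isConj_iff.2 ⟨c, ?_⟩⟩
  rw [← e', map_mul, map_zpow]
  have : c * φ z ^ n * c⁻¹ = φ z ^ n := by
    rw [← _root_.conj_zpow, b.cΓ, mul_inv_cancel_right]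
  show _ = c * φ e * c⁻¹ * φ z ^ n
  calc _ = c * φ e * c⁻¹ * (c * φ z ^ n * c⁻¹) := by group
    _ = _ := by rw [this]

omit [Finite H] [Finite Γ] in
theorem θ_K {K : Subgroup Γ} (hK : K.Normal) (hE : h.E.map φ ≤ K)
    (h2 : ∀ k ∈ K, ∀ a : ℕ, k * k = φ z ^ a → ∃ e ∈ h.E, IsConj (φ e) k) {t : H} (ht : φ t ∈ K) : h.θ t = 1 := by
  let θ' : H →* P24 := MonoidHom.mk' h.θ fun x y => h.θ_mul x y (b.cH x) (b.cH y)
  let N : Subgroup P24 := (K.comap φ).map θ'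
  have hN : ∀ n ∈ N, ∀ d ∈ DD, d * n * d⁻¹ ∈ N := by
    rintro _ ⟨x, hx, rfl⟩ d hd
    obtain ⟨k, -, rfl⟩ := h.θ_surj d hd
    exact ⟨k * x * k⁻¹, (hK.comap φ).conj_mem x hx k, h.θ_conj (b.cH k) (b.cH x)⟩
  have hM : (N.subgroupOf Spor.M22).Normal :=
    ⟨fun n hn g => hN _ hn _ (mem_M22.1 g.2).1⟩
  haveI := Mathieu.simple_M22
  rcases hM.eq_bot_or_eq_top with e | e
  · have hd := h.θ_mem t (b.cH t)
    refine eq_one_of_cent_M22 hd fun g hg => ?_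
    have h1 : h.θ t * g * (h.θ t)⁻¹ * g⁻¹ ∈ Spor.M22 :=
      mul_mem ((mem_normalizer_iff.1 (DD_le_normalizer hd) g).1 hg) (inv_mem hg)
    have h3 : h.θ t * g * (h.θ t)⁻¹ * g⁻¹ ∈ N := by
      rw [show h.θ t * g * (h.θ t)⁻¹ * g⁻¹ = h.θ t * (g * (h.θ t)⁻¹ * g⁻¹) by group]
      have : h.θ t ∈ N := ⟨t, ht, rfl⟩
      exact mul_mem this (hN _ (inv_mem this) _ (mem_M22.1 hg).1)
    have h4 : (⟨_, h1⟩ : Spor.M22) ∈ N.subgroupOf Spor.M22 := h3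
    rw [e, mem_bot] at h4
    have h5 : h.θ t * g * (h.θ t)⁻¹ * g⁻¹ = 1 := congrArg Subtype.val h4
    calc h.θ t * g = h.θ t * g * (h.θ t)⁻¹ * g⁻¹ * (g * h.θ t) := by group
      _ = _ := by rw [h5, one_mul]
  · exfalso
    obtain ⟨u, hu⟩ : ∃ u : Spor.M22, orderOf u = 2 := by
      haveI : Fact (Nat.Prime 2) := ⟨Nat.prime_two⟩
      refine exists_prime_orderOf_dvd_card' 2 ?_
      rw [Mathieu.card_M22]; norm_num
    have hu' : orderOf (u : P24) = 2 := by rw [orderOf_coe, hu]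
    have u2 : (u : P24) * u = 1 := by rw [← sq, ← hu', pow_orderOf_eq_one]
    have hu1 : (u : P24) ≠ 1 := fun e => by simp [e] at hu'
    have : u ∈ N.subgroupOf Spor.M22 := e ▸ mem_top u
    obtain ⟨x, hx, ex⟩ := this
    obtain ⟨v, hv, k, hk, rfl⟩ := h.decomp x (b.cH x)
    have ek : h.θ k = u := by rw [← h.θ_E_mul (h.s_mem hv) (b.cH k)]; exact ex
    have hk' : φ k ∈ K := by
      have h1 : φ (h.s v * k) ∈ K := hx
      rw [map_mul] at h1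
      exact (mul_mem_cancel_left (hE ⟨_, h.s_mem hv, rfl⟩)).1 h1
    obtain ⟨a, i, e2⟩ := h.θ_ker (k * k) (mul_mem hk hk) (by rw [h.θ_mul _ _ (b.cH k) (b.cH k), ek, u2])
    have e3 : k ^ 3 * k ^ 3 = z ^ a := by
      rw [← ker_cube h a i, ← e2, ← sq, ← sq, ← pow_mul, ← pow_mul]
    obtain ⟨y, hy, hc⟩ := h2 (φ (k ^ 3)) (by rw [map_pow]; exact pow_mem hk' 3) a (by rw [← map_mul, e3, map_pow])
    obtain ⟨c, hc⟩ := isConj_iff.1 hc
    have h5 := h.θ_E _ (b.sc y hy _ c hc)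
    rw [h.θ_pow (b.cH k), ek, pow_succ, sq, u2, one_mul] at h5
    exact hu1 h5

theorem surj : Function.Surjective φ := by
  obtain ⟨K, hK, hE, h2⟩ := b.exists_K
  have hθ : ∀ t, φ t ∈ K → h.θ t = 1 := fun t => b.θ_K hK hE h2
  have w1 : φ h.ρ ≠ 1 := fun e => h.rho_ne (b.inj (by rw [e, map_one]))
  have w3 : φ h.ρ ^ 3 = 1 := by rw [← map_pow, h.rho_three, map_one]
  let Y : Subgroup Γ := K ⊔ zpowers (φ h.ρ)
  let w : Y := ⟨φ h.ρ, mem_sup_right (mem_zpowers _)⟩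
  obtain ⟨N, hN, hN3, -⟩ := Di.compl3 (w := w) (fun e => w1 (congrArg Subtype.val e)) (Subtype.ext w3) (by
    rintro ⟨c, hc⟩ hn
    have hn' : c ∈ N3 (φ h.ρ) := (mem_N3.1 hn).imp (congrArg Subtype.val) (congrArg Subtype.val)
    obtain ⟨t, rfl⟩ := b.rho c hn'
    have ht : t ∈ h.K2 := (h.mem_K2 t).2 ⟨b.cH t, (mem_N3.1 hn').imp
      (fun e => b.inj (by simpa using e)) fun e => b.inj (by simpa using e)⟩
    have hc' : φ t ∈ ((K ⊔ zpowers (φ h.ρ) : Subgroup Γ) : Set Γ) := hc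
    rw [normal_mul] at hc'
    obtain ⟨k, hk, _, ⟨n, rfl⟩, e⟩ := hc'
    have e1 : φ (t * (h.ρ ^ n)⁻¹) = k := by
      rw [map_mul, map_inv, map_zpow, ← e]; simp
    have e2 := hθ _ (e1 ▸ hk)
    obtain ⟨a, i, e3⟩ := h.θ_ker _ (mul_mem ht (inv_mem (zpow_mem h.rho_mem n))) e2
    obtain ⟨j, hj⟩ : ∃ j : ℕ, h.ρ ^ j = h.ρ ^ n := mem_powers_iff_mem_zpowers.2 ⟨n, rfl⟩
    refine ⟨⟨φ (z ^ a), mem_sup_left (hE ⟨_, pow_mem h.z_mem a, rfl⟩)⟩, Subtype.ext ?_, Subtype.ext ?_, i + j,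
      Subtype.ext ?_⟩
    · show φ (z ^ a) * φ h.ρ = φ h.ρ * φ (z ^ a)
      rw [← map_mul, ← map_mul, comm_zpow h.rho_z]
    · show φ (z ^ a) * φ (z ^ a) = 1
      rw [← map_mul, h.zpow_self, map_one]
    · show φ t = φ (z ^ a) * φ h.ρ ^ (i + j)
      rw [← map_pow, ← map_mul, pow_add, ← mul_assoc, ← e3, hj, inv_mul_cancel_right])
  let L : Subgroup Γ := N.map Y.subtype ⊓ K
  have hL : ∀ c, c ∈ L ↔ c ∈ K ∧ ¬ 3 ∣ orderOf c := by
    intro c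
    constructor
    · rintro ⟨⟨x, hx, rfl⟩, hc⟩
      exact ⟨hc, by rw [show orderOf (Y.subtype x) = orderOf x from orderOf_coe x]; exact (hN x).1 hx⟩
    · rintro ⟨hc, h3⟩
      exact ⟨⟨⟨c, mem_sup_left hc⟩, (hN _).2 (by rwa [← orderOf_coe]), rfl⟩, hc⟩
  have hLn : ∀ g, ∀ x ∈ L, g * x * g⁻¹ ∈ L := fun g x hx => (hL _).2
    ⟨hK.conj_mem _ ((hL x).1 hx).1 g, by
      rw [show orderOf (g * x * g⁻¹) = orderOf x from (MulAut.conj g).orderOf_eq x]; exact ((hL x).1 hx).2⟩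
  have hL3 : ¬ 3 ∣ Nat.card L := fun e => hN3 (e.trans (by
    rw [← card_map_of_injective (K := N) Y.subtype_injective]; exact card_dvd_of_le inf_le_left))
  obtain ⟨a, a', g⟩ := exists_gens h
  have ha := (mem_R0 h).1 g.a_mem
  have p : Pa h.ρ a := ⟨h.rho_ne, h.rho_three, ha.2.1, KK_rho h (R0_KK h g.a_mem), fun i e => A_ne (by
    rw [← g.θa, e, h.θ_pow h.rho_z, h.θ_rho, one_pow])⟩
  have p' : Pa (φ h.ρ) (φ a) := ⟨w1, w3, by rw [← map_pow, p.a3, map_one], by rw [← map_mul, p.comm, map_mul],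
    fun i e => p.na i (b.inj (by rw [e, map_pow]))⟩
  have hle : L ≤ φ.range := p'.le_of_cent hL3 (hLn _) (hLn _) fun y hy y1 x _ hx => by
    obtain ⟨i, j, rfl⟩ := p'.mem_AA'.1 hy
    rw [← map_pow, ← map_pow, ← map_mul] at hx y1
    by_cases hi : ∃ n : ℕ, h.ρ ^ i * a ^ j = h.ρ ^ n
    · obtain ⟨n, hn⟩ := hi
      rw [hn, map_pow] at hx y1
      rcases Di.pow_cases w3 n with e | e | e <;> rw [e] at hx y1
      · exact (y1 rfl).elim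
      · exact b.rho x (N3_of_comm hx)
      · exact b.rho x (N3_of_comm (comm_inv_right.1 hx))
    · exact b.cent _ (p.of_mem p.w_mem p.ne (p.mem_AA'.2 ⟨i, j, rfl⟩) fun n e => hi ⟨n, e⟩).1 x hx
  intro c
  refine b.of_range fun e he => hle (hLn c _ ((hL _).2 ⟨hE ⟨e, he, rfl⟩, fun h3 => ?_⟩))
  have : orderOf (φ e) ∣ 2 ^ 2 := orderOf_dvd_of_pow_eq_one (by rw [← map_pow, four_E he, map_one])
  exact absurd (h3.trans this) (by norm_num)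

end Hy

end Go

end CfsgLib.J4X
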