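import Mathlib
import Cfsg.Agent.Lib.J4X.Loc
import Cfsg.Agent.Lib.J4X.Emb
import Cfsg.Agent.Lib.J4X.DichA
import Cfsg.Agent.Lib.J4T.NotWC
import Cfsg.Agent.Lib.KMS.Cover
import Cfsg.Agent.Lib.Coprime.Sylow
import Cfsg.Agent.Lib.Frob.Basic

/-! # Elements of order 3 in `H` and fusion of the elements of `E` -/

set_option autoImplicit false

namespace CfsgLib.J4X

open Cfsg CfsgLib.Golay CfsgLib.M24E CfsgLib.J4T CfsgLib.J4T.G3 CfsgLib.LargeExtra Subgroup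
open scoped Pointwise commutatorElement

namespace H0

section Gen

variable {Γ : Type*} [Group Γ]

theorem one_cop {c : Γ} {m n : ℕ} (h : m.Coprime n) (h1 : c ^ m = 1) (h2 : c ^ n = 1) : c = 1 := by
  have := pow_gcd_eq_one.2 ⟨h1, h2⟩
  rwa [h, pow_one] at this

theorem cj1 {w g a : Γ} (ha : a * (g * w * g⁻¹) = g * w * g⁻¹ * a) : g⁻¹ * a * g * w = w * (g⁻¹ * a * g) := by
  calc g⁻¹ * a * g * w = g⁻¹ * (a * (g * w * g⁻¹)) * g := by group
    _ = _ := by rw [ha]; group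

theorem cj2 {w g a : Γ} (ha : a * w = w * a) : g * a * g⁻¹ * (g * w * g⁻¹) = g * w * g⁻¹ * (g * a * g⁻¹) := by
  rw [conj_mul, conj_mul, ha]

theorem cinv {w a : Γ} : a * w⁻¹ = w⁻¹ * a ↔ a * w = w * a :=
  ⟨fun h => by simpa using (show Commute a w⁻¹ from h).inv_right.eq, fun h => (show Commute a w from h).inv_right.eq⟩

theorem orderOf3 {y : Γ} (y1 : y ≠ 1) (y3 : y ^ 3 = 1) : orderOf y = 3 :=
  haveI : Fact (Nat.Prime 3) := ⟨Nat.prime_three⟩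
  orderOf_eq_prime y3 y1

theorem pg3 {y : Γ} {n : ℕ} (y3 : y ^ 3 ^ n = 1) : IsPGroup 3 (zpowers y) := by
  rintro ⟨_, k, rfl⟩
  refine ⟨n, Subtype.ext ?_⟩
  change (y ^ k) ^ 3 ^ n = 1
  rw [← zpow_natCast, ← zpow_mul, mul_comm, zpow_mul, zpow_natCast, y3, one_zpow]

theorem zp3 [Finite Γ] {y x : Γ} (y3 : y ^ 3 = 1) (hx : x ∈ zpowers y) : x = 1 ∨ x = y ∨ x = y⁻¹ := by
  obtain ⟨k, rfl⟩ := mem_powers_iff_mem_zpowers.2 hx
  exact Di.pow_cases y3 k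

theorem exists_conj_of_max [Finite Γ] {C : Subgroup Γ} {y w : Γ} (hy : y ∈ C) (y1 : y ≠ 1) (y3 : y ^ 3 = 1)
    (hw : w ∈ C) (w1 : w ≠ 1) (w3 : w ^ 3 = 1)
    (hmax : ∀ p ∈ C, (∃ n, p ^ 3 ^ n = 1) → p * y = y * p → p ∈ zpowers y) :
    ∃ d ∈ C, d * y * d⁻¹ = w ∨ d * y * d⁻¹ = w⁻¹ := by
  have : Fact (Nat.Prime 3) := ⟨Nat.prime_three⟩
  obtain ⟨P, h1, h2, h3, h4⟩ := Coprime.exists_le_sylow_relIndex (zpowers_le.2 hy)
    (pg3 (n := 1) (by rwa [pow_one]))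
  have hP : ∀ p ∈ P, ∃ n, p ^ 3 ^ n = 1 := fun p hp => by
    obtain ⟨n, hn⟩ := h3 ⟨p, hp⟩
    exact ⟨n, congrArg Subtype.val hn⟩
  have hyP : y ∈ P := h1 (mem_zpowers y)
  obtain ⟨⟨q, hq⟩, q1⟩ := ne_bot_iff_exists_ne_one.1 (Core.inf_centralizer_ne_bot_of_isPGroup h3 h3
    le_normalizer fun e => y1 (by rwa [e, mem_bot] at hyP))
  have hc : ∀ p ∈ P, p * y = y * p := by
    intro p hp
    rcases zp3 y3 (hmax q (h2 hq.1) (hP q hq.1) (hq.2 y hyP).symm) with e | e | e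
    · exact absurd (Subtype.ext e) q1
    · exact e ▸ hq.2 p hp
    · exact cinv.1 (e ▸ hq.2 p hp)
  obtain ⟨k, hk, h5⟩ := Coprime.exists_conj_smul_le_sylow h2 h3 h4 (zpowers_le.2 hw)
    (pg3 (n := 1) (by rwa [pow_one]))
  have h6 : k⁻¹ * w * k ∈ P := Frob.mem_conj_smul_iff.1 (h5 (mem_zpowers w))
  refine ⟨k, hk, ?_⟩
  rcases zp3 y3 (hmax _ (h2 h6) (hP _ h6) (hc _ h6)) with e | e | e
  · exact absurd (by simpa [mul_assoc] using congrArg (fun x => k * x * k⁻¹) e) w1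
  · left; rw [← e]; group
  · right; rw [← inv_inv y, ← e]; group

theorem exists_three_fixed [Finite Γ] {X : Subgroup Γ} {r : Γ} (r3 : r ^ 3 = 1)
    (hr : r ∈ normalizer (X : Set Γ)) (hd : 3 ∣ Nat.card X) :
    ∃ x ∈ X, x ≠ 1 ∧ x ^ 3 = 1 ∧ x * r = r * x := by
  have : Fact (Nat.Prime 3) := ⟨Nat.prime_three⟩
  have h := KMS.card_modEq_fix (X.normalizerMonoidHom) (P := zpowers ⟨r, hr⟩)
    (pg3 (n := 1) (Subtype.ext (by simpa using r3)))
  obtain ⟨x, hx, h3⟩ := Core.exists_mem_orderOf_eq_of_dvd_card Nat.prime_three ((h.dvd_iff dvd_rfl).1 hd)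
  refine ⟨x, x.2, fun e => ?_, ?_, ?_⟩
  · rw [show x = 1 from Subtype.ext e, orderOf_one] at h3; norm_num at h3
  · rw [← h3, ← orderOf_coe, pow_orderOf_eq_one]
  · exact (comm_of_conj_eq (congrArg Subtype.val (KMS.mem_fix.1 hx _ (mem_zpowers _)))).symm

/-- an element of odd order centralising `t` modulo a central involution centralises `t` -/
theorem comm_of_mod {w t ζ : Γ} (w3 : w ^ 3 = 1) (hζ : w * ζ = ζ * w) (h2 : ζ * ζ = 1)
    (hw : w * t * w⁻¹ = t ∨ w * t * w⁻¹ = t * ζ) : w * t = t * w := by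
  rcases hw with e | e
  · exact comm_of_conj_eq e
  · have e1 : w * (t * ζ) * w⁻¹ = t := by
      rw [show w * (t * ζ) * w⁻¹ = w * t * w⁻¹ * (w * ζ * w⁻¹) by group, e, conj_eq_of_comm hζ, mul_assoc, h2,
        mul_one]
    have e2 : w⁻¹ * t = t * w⁻¹ := by
      apply comm_of_conj_eq
      rw [Di.inv_eq_sq w3, pow_two, show w * w * t * (w * w)⁻¹ = w * (w * t * w⁻¹) * w⁻¹ by group, e, e1]
    exact (cinv.1 e2.symm).symm

end Gen

variable {H : Type*} [Group H] {z : H} {h : HM z}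

theorem ks0 (h : HM z) (cH : ∀ k : H, k * z = z * k) : KS0 h.ρ z h.θ where
  ne := h.rho_ne
  three := h.rho_three
  zz := h.zz
  z_comm := fun k _ => cH k
  mul := fun a b _ _ => h.θ_mul _ _ (cH a) (cH b)
  mem := fun a ha => ⟨h.θ_mem a (cH a), (h.inner_iff a (h.mem_K2_of_comm (cH a) ha)).1 ha⟩
  surj := fun p hp h0 => by
    obtain ⟨k, hk, rfl⟩ := h.θ_surj p hp
    exact ⟨k, (h.inner_iff k hk).2 h0, rfl⟩
  ker := fun k hk => ⟨h.θ_ker k (h.mem_K2_of_comm (cH k) hk), by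
    rintro ⟨a, i, rfl⟩
    rw [h.θ_E_mul (pow_mem h.z_mem a) (cH _), h.θ_pow h.rho_z, h.θ_rho, one_pow]⟩
  perf := by
    obtain ⟨a, b, g⟩ := exists_gens h
    have e : h.ρ = ⁅a, b⁆ := by rw [commutatorElement_def, g.ab]; group
    have h1 := commutator_mem_commutator (H₁ := centralizer {h.ρ}) (H₂ := centralizer {h.ρ})
      (mem_cent.2 (KK_rho h (R0_KK h g.a_mem))) (mem_cent.2 (KK_rho h (R0_KK h g.b_mem)))
    rwa [← e] at h1

theorem pa_of {y : H} (y3 : y ^ 3 = 1) (hc : y * h.ρ = h.ρ * y) (hn : ∀ i : ℕ, y ≠ h.ρ ^ i) : Pa h.ρ y :=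
  ⟨h.rho_ne, h.rho_three, y3, hc, hn⟩

theorem rho_pow_fix {i v : ℕ} (hv : v < 4096) (h0 : v ≠ 0) (e : h.α (h.ρ ^ i) v = v) : h.ρ ^ i = 1 := by
  have h1 := h.mem_E_of_fix (comm_pow h.rho_z i) (by rw [h.θ_pow h.rho_z, h.θ_rho, one_pow]) hv h0 e
  exact one_cop (m := 4) (n := 3) (by norm_num) (h.pre.es.pow_four h1)
    (by rw [← pow_mul, mul_comm, pow_mul, h.rho_three, one_pow])

theorem pa_of_fix {y : H} (y1 : y ≠ 1) (y3 : y ^ 3 = 1) (hc : y * h.ρ = h.ρ * y) {v : ℕ} (hv : v < 4096)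
    (h0 : v ≠ 0) (e : h.α y v = v) : Pa h.ρ y :=
  pa_of y3 hc fun _ e1 => y1 (e1.trans (rho_pow_fix hv h0 (e1 ▸ e)))

theorem pa_a {a b : H} (g : Gens h a b) : Pa h.ρ a :=
  pa_of g.a3 (KK_rho h (R0_KK h g.a_mem)) fun i e => A_ne (by
    rw [← g.θa, e, h.θ_pow h.rho_z, h.θ_rho, one_pow])

theorem R0_cases {x : H} (hx : x ∈ R0 h) (x1 : x ≠ 1) : (∃ k, k * x * k⁻¹ = h.ρ) ∨ Pa h.ρ x := by
  by_cases hn : ∀ i : ℕ, x ≠ h.ρ ^ i
  · exact Or.inr (pa_of hx.2.1 (KK_rho h (R0_KK h hx)) hn)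
  push Not at hn
  obtain ⟨i, rfl⟩ := hn
  rcases Di.pow_cases h.rho_three i with e | e | e
  · exact absurd e x1
  · exact Or.inl ⟨1, by rw [e]; group⟩
  · obtain ⟨k, -, e1⟩ := exists_outer h
    exact Or.inl ⟨k⁻¹, by rw [e, ← e1]; group⟩

variable [Finite H]

theorem conj_into (cH : ∀ k : H, k * z = z * k) {Q : Subgroup H} (hQ : IsPGroup 3 Q) :
    ∃ k, ∀ q ∈ Q, k * q * k⁻¹ ∈ R0 h := by
  have : Fact (Nat.Prime 3) := ⟨Nat.prime_three⟩
  obtain ⟨a, b, g⟩ := exists_gens h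
  obtain ⟨S, hS⟩ := g.sylow fun x _ => cH x
  obtain ⟨P, hP⟩ := hQ.exists_le_sylow
  obtain ⟨k, rfl⟩ := MulAction.exists_smul_eq H S P
  refine ⟨k⁻¹, fun q hq => ?_⟩
  rw [← hS, inv_inv]
  exact Frob.mem_conj_smul_iff.1 (hP hq)

/-- the classes of elements of order 3 -/
theorem three_conj (cH : ∀ k : H, k * z = z * k) {y : H} (hy : Pa h.ρ y) {w : H} (w1 : w ≠ 1) (w3 : w ^ 3 = 1) :
    (∃ k, k * w * k⁻¹ = h.ρ) ∨ ∃ k, k * w * k⁻¹ = y := by
  obtain ⟨k, hk⟩ := conj_into (h := h) cH (pg3 (y := w) (n := 1) (by rwa [pow_one]))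
  rcases R0_cases (hk w (mem_zpowers w)) (by simpa using w1) with ⟨l, e⟩ | p
  · exact Or.inl ⟨l * k, by rw [← e]; group⟩
  · obtain ⟨c, -, e⟩ := (ks0 h cH).conj3 p hy
    exact Or.inr ⟨c * k, by rw [← e]; group⟩

/-- a 3-subgroup fixing a non-zero vector has order at most 3 -/
theorem max3 (cH : ∀ k : H, k * z = z * k) {y p : H} (y1 : y ≠ 1) (y3 : y ^ 3 = 1) {n : ℕ} (hp : p ^ 3 ^ n = 1)
    (hc : p * y = y * p) {v : ℕ} (hv : v < 4096) (h0 : v ≠ 0) (e1 : h.α y v = v) (e2 : h.α p v = v) :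
    p ∈ zpowers y := by
  have : Fact (Nat.Prime 3) := ⟨Nat.prime_three⟩
  obtain ⟨a, b, g⟩ := exists_gens h
  obtain ⟨k, hk⟩ := conj_into (h := h) cH (Q := zpowers p ⊔ zpowers y)
    ((pg3 hp).to_sup_of_normal_right' (pg3 (n := 1) (by rwa [pow_one])) (zpowers_le.2
      (centralizer_le_normalizer _ (by
        rintro _ ⟨m, rfl⟩
        exact ((show Commute p y from hc).zpow_right m).symm.eq))))
  have hp' := hk p (mem_sup_left (mem_zpowers p))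
  have hy' := hk y (mem_sup_right (mem_zpowers y))
  have tr : ∀ x : H, h.α x v = v → h.α (k * x * k⁻¹) (h.α k v) = h.α k v := fun x e => by
    rw [h.α_mul (cH _) (cH _) (h.α_lt _ _), h.α_inv_α (cH k) hv, h.α_mul (cH _) (cH _) hv, e]
  have h0' : h.α k v ≠ 0 := fun e => h0 (h.α_inj (cH k) hv (by norm_num) (by rw [e, h.α_zero (cH k)]))
  have py : Pa h.ρ (k * y * k⁻¹) :=
    pa_of_fix (by simpa using y1) hy'.2.1 (KK_rho h (R0_KK h hy')) (h.α_lt _ _) h0' (tr y e1)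
  have hA : AA h.ρ (k * y * k⁻¹) ≤ R0 h := (closure_le _).2 (by
    rintro x (rfl | rfl)
    exacts [rho_R0 h, hy'])
  have hm : k * p * k⁻¹ ∈ AA h.ρ (k * y * k⁻¹) := by
    by_contra hn
    let T := AA h.ρ (k * y * k⁻¹) ⊔ zpowers (k * p * k⁻¹)
    have hT : T ≤ R0 h := sup_le hA (zpowers_le.2 hp')
    have hlt : AA h.ρ (k * y * k⁻¹) < T := lt_of_le_of_ne le_sup_left fun e =>
      hn (e ▸ mem_sup_right (mem_zpowers _))
    have c1 := card_dvd_of_le hT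
    have c2 := Core.card_lt_of_lt hlt
    rw [g.card] at c1
    rw [py.card_AA] at c2
    have c3 : Nat.card T = 27 := by
      have := Nat.le_of_dvd (by norm_num) c1
      generalize Nat.card T = m at *
      interval_cases m <;> simp_all
    have hTe : T = R0 h := eq_of_le_of_card_ge hT (by rw [c3, g.card])
    have cen : ∀ x : H, h.ρ * x = x * h.ρ → k * y * k⁻¹ * x = x * (k * y * k⁻¹) →
        k * p * k⁻¹ * x = x * (k * p * k⁻¹) → ∀ r ∈ R0 h, r * x = x * r := fun x a1 a2 a3 r hr => by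
      have : T ≤ centralizer {x} := sup_le ((closure_le _).2 (by
        rintro x (rfl | rfl)
        exacts [mem_cent.2 a1, mem_cent.2 a2])) (zpowers_le.2 (mem_cent.2 a3))
      exact mem_cent.1 (this (hTe ▸ hr))
    have hc' := cj2 (g := k) hc
    exact g.ne (cen b (KK_rho h (R0_KK h g.b_mem)).symm
      (cen _ py.comm.symm rfl hc' b g.b_mem).symm
      (cen _ (KK_rho h (R0_KK h hp')).symm hc'.symm rfl b g.b_mem).symm a g.a_mem)
  obtain ⟨i, -, j, -, e⟩ := py.mem_AA.1 hm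
  have e3 : h.α ((k * y * k⁻¹) ^ j) (h.α k v) = h.α k v := by
    rw [conj_pow]
    apply tr
    clear e
    induction j with
    | zero => rw [pow_zero, h.α_one hv]
    | succ j ih => rw [pow_succ, h.α_mul (cH _) (cH _) hv, e1, ih]
  have e4 := tr p e2
  rw [e, h.α_mul (cH _) (cH _) (h.α_lt _ _), e3] at e4
  rw [rho_pow_fix (h.α_lt _ _) h0' e4, one_mul, conj_pow] at e
  exact (mul_left_cancel (mul_right_cancel e)) ▸ pow_mem (mem_zpowers y) j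

/-- elements of order 3 fixing the vectors `1`, `64`, `72` -/
def yL : List (ℕ × ℕ × ℕ) :=
  [(1, 0xbb5058a9703d0329b12333dc4a8ac0, 0xa091179a48480bd510ab93400849e822001),
    (64, 0xbd6963cc6d43990599e9910aa08a20, 0x100fc0200900e00040006012018036010003),
    (72, 0xbce14712b155a453892832c6d63c20, 0x1b6c36e49db01b03882dcbea3c06a7e97f80)]

theorem yL_spec : ∀ t ∈ yL, t.1 < 4096 ∧ chkL t.2.1 t.2.2 = true ∧ mpow t.2.2 3 = mI ∧ ap t.2.1 0 = 0 ∧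
    mv t.2.2 t.1 = t.1 ∧ isId (ap t.2.1) = false := by decide +kernel

omit [Finite H] in
theorem exists_y (h : HM z) {v : ℕ} (hv : v < 4096) (h0 : v ≠ 0) :
    ∃ y, Pa h.ρ y ∧ h.α y v = v ∧ y * h.s v = h.s v * y := by
  obtain ⟨t, ht, e⟩ : ∃ t ∈ yL, ty t.1 = ty v := by
    have h1 := ty_lt v
    have h2 := mt (ty_eq_zero hv).1 h0
    have h3 : ∀ i < 4, i ≠ 0 → ∃ t ∈ yL, ty t.1 = i := by decide +kernel
    exact h3 _ h1 h2
  obtain ⟨a1, a2, a3, a4, a5, a6⟩ := yL_spec t ht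
  obtain ⟨y, r, y3⟩ := lift3 h a2 a3
  obtain ⟨k, hk, e1⟩ := h.ty_trans a1 hv e
  have hy : y ∈ h.KK := h.mem_KK.2 ⟨r.1, r.inner_iff.2 a4⟩
  have hy' : k * y * k⁻¹ ∈ h.KK := mul_mem (mul_mem hk hy) (inv_mem hk)
  have kz := h.K2_z hk.1
  have e2 : h.α (k * y * k⁻¹) v = v := by
    rw [← e1, h.α_mul (comm_mul kz r.comm) (comm_inv kz) (h.α_lt _ _), h.α_inv_α kz a1, h.α_mul kz r.comm a1,
      r.α_eq a1, a5]
  refine ⟨k * y * k⁻¹, pa_of_fix (fun e3 => ?_) (by rw [conj_pow, y3]; group) (KK_rho h hy') hv h0 e2, e2, ?_⟩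
  · have : y = 1 := by simpa using e3
    have h4 := r.rp.isId_iff.2 (by rw [this, h.θ_one])
    rw [a6] at h4
    exact Bool.noConfusion h4
  · apply comm_of_conj_eq
    rw [h.α_in _ hy'.1 (h.mem_KK.1 hy').2 v hv, e2]

omit [Finite H] in
theorem vec_ne {e : H} (he : e ∈ h.E) (h1 : e ≠ 1) (hz : e ≠ z) : NW.vec h e ≠ 0 := fun e0 => by
  rcases NW.eq_of_vec (one_mem _) he (by rw [e0, NW.vec_one]) with e1 | e1
  exacts [h1 e1, hz (by rw [e1, one_mul])]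

omit [Finite H] in
theorem exists_ye (cH : ∀ k : H, k * z = z * k) {e : H} (he : e ∈ h.E) (h1 : e ≠ 1) (hz : e ≠ z) :
    ∃ y, Pa h.ρ y ∧ y * e = e * y := by
  obtain ⟨y, p, -, c⟩ := exists_y h (NW.vec_lt e) (vec_ne he h1 hz)
  obtain ⟨a, -, e1⟩ := NW.vec_spec he
  refine ⟨y, p, ?_⟩
  rw [e1]
  exact ((show Commute y _ from c).mul_right ((show Commute y z from cH y).pow_right a)).eq

omit [Finite H] in
theorem α_of_comm {x e : H} (hx : x * z = z * x) (he : e ∈ h.E) (c : x * e = e * x) :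
    h.α x (NW.vec h e) = NW.vec h e := by rw [← NW.vec_conj hx he, conj_eq_of_comm c]

end H0

open H0

variable {H Γ : Type*} [Group H] [Finite H] [Group Γ] [Finite Γ] {z : H} {h : HM z} {φ : H →* Γ}

omit [Finite Γ] in
/-- an element conjugating `φ ρ` into `φ H` lies in `φ H` -/
theorem Emb.mem_of_conj_rho (b : Emb h φ) {c : Γ} (hc : c * φ h.ρ * c⁻¹ ∈ φ.range) : c ∈ φ.range := by
  obtain ⟨x, hx⟩ := hc
  obtain ⟨a, b', g⟩ := exists_gens h
  have x1 : x ≠ 1 := fun e => h.rho_ne (b.inj (by rw [e, map_one] at hx; simpa using hx.symm))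
  have x3 : x ^ 3 = 1 := b.inj (by rw [map_pow, hx, conj_pow, ← map_pow, h.rho_three]; simp)
  rcases three_conj b.cH (pa_a g) x1 x3 with ⟨k, e⟩ | ⟨k, e⟩
  · have := b.rho (φ k * c) (Or.inl (by
      conv_rhs => rw [← e, map_mul, map_mul, map_inv, hx]
      group))
    simpa using mul_mem (inv_mem (⟨k, rfl⟩ : φ k ∈ φ.range)) this
  · exact absurd (isConj_iff.2 ⟨φ k * c, by rw [← e, map_mul, map_mul, map_inv, hx]; group⟩) (b.nconj a (pa_a g))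

/-- H0 (file H0.lean), 1: fusion of an element of `E` to an element with a centraliser of order divisible by 3 -/
theorem Emb.fus {H Γ : Type*} [Group H] [Finite H] [Group Γ] [Finite Γ] {z : H} {h : HM z} {φ : H →* Γ}
    (b : Emb h φ) {e t w : H} (he : e ∈ h.E) (h1 : e ≠ 1) (hz : e ≠ z) {c : Γ} (hc : c * φ e * c⁻¹ = φ t)
    (w1 : w ≠ 1) (w3 : w ^ 3 = 1) (hw : w * t * w⁻¹ = t ∨ w * t * w⁻¹ = t * z) :
    ∃ d : Γ, d * φ t = φ t * d ∧ d * c ∈ φ.range := by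
  have wt := comm_of_mod w3 (b.cH w) h.zz hw
  obtain ⟨y, p, ye⟩ := exists_ye b.cH he h1 hz
  have m3 : ∀ x : H, x ^ 3 = 1 → φ x ^ 3 = 1 := fun x e => by rw [← map_pow, e, map_one]
  have m1 : ∀ x : H, x ≠ 1 → φ x ≠ 1 := fun x e e' => e (b.inj (by rw [e', map_one]))
  obtain ⟨d, hd, e1⟩ := exists_conj_of_max (C := centralizer {φ e}) (y := φ y) (w := c⁻¹ * φ w * c)
    (mem_cent.2 (by rw [← map_mul, ye, map_mul])) (m1 y p.a_ne) (m3 y p.a3)
    (mem_cent.2 (cj1 (by rw [hc, ← map_mul, wt, map_mul])))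
    (fun e => m1 w w1 (by simpa [mul_assoc] using congrArg (fun x => c * x * c⁻¹) e))
    (by have := conj_pow (a := c⁻¹) (b := φ w) (i := 3); rw [inv_inv] at this; rw [this, m3 w w3]; group) (by
      rintro q hq ⟨n, hn⟩ qy
      obtain ⟨q, rfl⟩ := b.cent y p q qy
      obtain ⟨m, e⟩ := max3 b.cH p.a_ne p.a3 (p := q) (n := n) (b.inj (by rw [map_pow, hn, map_one]))
        (b.inj (by rw [map_mul, qy, map_mul])) (NW.vec_lt e) (vec_ne he h1 hz) (α_of_comm (b.cH y) he ye)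
        (α_of_comm (b.cH q) he (b.inj (by rw [map_mul, mem_cent.1 hq, map_mul])))
      exact ⟨m, by rw [← e]; exact (map_zpow φ y m).symm⟩)
  obtain ⟨w', w1', w3', e2⟩ : ∃ w' : H, w' ≠ 1 ∧ w' ^ 3 = 1 ∧ c * d * φ y * (c * d)⁻¹ = φ w' := by
    rcases e1 with e1 | e1
    · exact ⟨w, w1, w3, by rw [mul_assoc c, mul_inv_rev, mul_assoc c, ← mul_assoc (d * _), e1]; group⟩
    · exact ⟨w⁻¹, by simpa using w1, by rw [inv_pow, w3, inv_one], by
        rw [mul_assoc c, mul_inv_rev, mul_assoc c, ← mul_assoc (d * _), e1, map_inv]; group⟩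
  refine ⟨c * d * c⁻¹, hc ▸ cj2 (mem_cent.1 hd), ?_⟩
  rw [inv_mul_cancel_right]
  rcases three_conj b.cH p w1' w3' with ⟨k, e3⟩ | ⟨k, e3⟩
  · exact absurd (isConj_iff.2 ⟨φ k * (c * d), by
      rw [← e3, map_mul, map_mul, map_inv, ← e2]; group⟩).symm (b.nconj y p)
  · have := b.cent y p (φ k * (c * d)) (comm_of_conj_eq (by
      conv_rhs => rw [← e3, map_mul, map_mul, map_inv, ← e2]
      group))
    simpa using mul_mem (inv_mem (⟨k, rfl⟩ : φ k ∈ φ.range)) this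

/-- the consequence of `Emb.fus` inside `H` -/
theorem Emb.fus' (b : Emb h φ) {e t w : H} (he : e ∈ h.E) {c : Γ} (hc : c * φ e * c⁻¹ = φ t)
    (w1 : w ≠ 1) (w3 : w ^ 3 = 1) (hw : w * t * w⁻¹ = t ∨ w * t * w⁻¹ = t * z) : ∃ g, g * e * g⁻¹ = t := by
  by_cases h1 : e = 1
  · exact ⟨1, b.inj (by rw [← hc, h1]; simp)⟩
  by_cases hz : e = z
  · exact ⟨1, b.inj (by rw [← hc, hz, b.cΓ]; simp)⟩
  obtain ⟨d, hd, g, hg⟩ := b.fus he h1 hz hc w1 w3 hw
  refine ⟨g, b.inj ?_⟩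
  rw [map_mul, map_mul, map_inv, hg, ← conj_eq_of_comm hd, ← hc]
  group

/-- the image of `R0` is a Sylow 3-subgroup -/
theorem Emb.sylow (b : Emb h φ) : ∃ Q : Sylow 3 Γ, (Q : Subgroup Γ) = (R0 h).map φ := by
  have : Fact (Nat.Prime 3) := ⟨Nat.prime_three⟩
  obtain ⟨a, b', g⟩ := exists_gens h
  obtain ⟨S, hS⟩ := g.sylow fun x _ => b.cH x
  have hp : IsPGroup 3 ((R0 h).map φ) := (hS ▸ S.isPGroup').map φ
  refine ⟨hp.toSylow ?_, rfl⟩
  rw [← relIndex_top_right]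
  refine Coprime.not_dvd_relIndex_of_normalizer le_top hp fun hd => S.not_dvd_index ?_
  have hle : ⊤ ⊓ normalizer (((R0 h).map φ : Subgroup Γ) : Set Γ) ≤ (⊤ : Subgroup H).map φ := by
    rintro n ⟨-, hn⟩
    rw [← MonoidHom.range_eq_map]
    exact b.mem_of_conj_rho (map_le_range _ _ ((mem_normalizer_iff.1 hn _).1 (mem_map_of_mem φ (rho_R0 h))))
  have h2 := relIndex_mul_relIndex _ _ _ (le_inf le_top le_normalizer) hle
  rw [relIndex_map_map_of_injective _ _ b.inj, relIndex_top_right, ← hS] at h2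
  rw [← h2, hS]
  exact hd.mul_right _

/-- every element of order 3 is conjugate to `φ ρ` or to `φ y` -/
theorem Emb.three_conj (b : Emb h φ) {y : H} (hy : Pa h.ρ y) {w : Γ} (w1 : w ≠ 1) (w3 : w ^ 3 = 1) :
    (∃ k, k * w * k⁻¹ = φ h.ρ) ∨ ∃ k, k * w * k⁻¹ = φ y := by
  have : Fact (Nat.Prime 3) := ⟨Nat.prime_three⟩
  obtain ⟨S, hS⟩ := b.sylow
  obtain ⟨P, hP⟩ := (pg3 (y := w) (n := 1) (by rwa [pow_one])).exists_le_sylow
  obtain ⟨k, rfl⟩ := MulAction.exists_smul_eq Γ S P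
  have h1 : k⁻¹ * w * k ∈ (S : Subgroup Γ) := Frob.mem_conj_smul_iff.1 (hP (mem_zpowers w))
  rw [hS] at h1
  obtain ⟨x, hx, e⟩ := h1
  have x1 : x ≠ 1 := fun e1 => w1 (by
    rw [e1, map_one] at e
    simpa [mul_assoc] using congrArg (fun x => k * x * k⁻¹) e.symm)
  refine (H0.three_conj b.cH hy x1 hx.2.1).imp ?_ ?_ <;> rintro ⟨l, e1⟩ <;>
    exact ⟨φ l * k⁻¹, by rw [← e1, map_mul, map_mul, map_inv, e]; group⟩

end CfsgLib.J4X
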