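import Mathlib
import Cfsg.Agent.Lib.J4X.H0a

/-! # The normaliser of `E` lies in `H` -/

set_option autoImplicit false

namespace CfsgLib.J4X

open Cfsg CfsgLib.Golay CfsgLib.M24E CfsgLib.J4T CfsgLib.J4T.G3 CfsgLib.LargeExtra Subgroup
open scoped Pointwise commutatorElement

namespace H0

/-- twelve vectors of type 1, connected in the graph of type 1 sums -/
def mG : ℕ := 0x208041820410104082020010008004003002
/-- the inverse matrix -/
def mGi : ℕ := 0x220110808084041403020010008004001003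

theorem chkA : allLT 4096 (fun x => not (and (Nat.beq (ty x) 1) (and (Nat.beq (ty (Nat.xor x 1)) 1)
    (Nat.beq (ty (Nat.xor x (rho 1))) 3)))) = true := by decide +kernel

theorem chkB' : allLT 4096 (fun w => or (not (and (Nat.beq (ty w) 1) (Nat.beq (ty (Nat.xor 1 w)) 1)))
    (or (Nat.beq w (rho 1)) (or (Nat.beq w (rho (rho 1)))
      (anyL [2, 3, 4, 8, 16, 32, 130, 260, 1040, 2080] fun x => and (Nat.beq (ty x) 1)
        (and (Nat.beq (ty (Nat.xor x 1)) 1) (Nat.beq (ty (Nat.xor x w)) 3)))))) = true := by decide +kernel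

theorem chkG : ∀ j < 12, ty (col mG j) = 1 ∧ (ty (1 ^^^ col mG j) = 1 ∨ ty (2 ^^^ col mG j) = 1) := by
  decide +kernel

variable {H : Type*} [Group H] {z : H}

theorem patA (h : HM z) {v x : ℕ} (hv : v < 4096) (hx : x < 4096) (h1 : ty v = 1) (h2 : ty x = 1)
    (h3 : ty (x ^^^ v) = 1) : ty (x ^^^ rho v) ≠ 3 := by
  obtain ⟨k, hk, e⟩ := h.ty_trans hv (w := 1) (by norm_num) (h1.trans (by decide +kernel))
  have kz := h.K2_z hk.1
  have c := of_allLT chkA (h.α_lt k x)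
  rw [← h.ty_α kz hx] at h2
  rw [← h.ty_α kz (xor_lt' hx hv), h.α_xor kz hx hv, e] at h3
  rw [← h.ty_α kz (xor_lt' hx (rho_lt hv)), h.α_xor kz hx (rho_lt hv),
    h.α_rho_in hk.1 (h.mem_KK.1 hk).2 hv, e]
  intro h4
  rw [beq_iff'.2 h2, beq_iff'.2 (show ty (Nat.xor _ _) = 1 from h3),
    beq_iff'.2 (show ty (Nat.xor _ _) = 3 from h4)] at c
  exact Bool.noConfusion c

theorem patB (h : HM z) {v w : ℕ} (hv : v < 4096) (hw : w < 4096) (h1 : ty v = 1) (h2 : ty w = 1)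
    (h3 : ty (v ^^^ w) = 1) : w = rho v ∨ w = rho (rho v) ∨
      ∃ x < 4096, ty x = 1 ∧ ty (x ^^^ v) = 1 ∧ ty (x ^^^ w) = 3 := by
  obtain ⟨k, hk, rfl⟩ := h.ty_trans (v := 1) (by norm_num) hv (Eq.trans (by decide +kernel) h1.symm)
  have kz := h.K2_z hk.1
  have k0 := (h.mem_KK.1 hk).2
  have one : (1 : ℕ) < 4096 := by norm_num
  obtain ⟨w, hw', rfl⟩ : ∃ w' < 4096, h.α k w' = w := ⟨_, h.α_lt _ _, h.α_α_inv kz hw⟩
  rw [h.ty_α kz hw'] at h2
  rw [← h.α_xor kz one hw', h.ty_α kz (xor_lt' one hw')] at h3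
  have c := of_allLT chkB' hw'
  rw [beq_iff'.2 h2, beq_iff'.2 (show ty (Nat.xor _ _) = 1 from h3)] at c
  simp only [Bool.and_self, Bool.not_true, Bool.false_or, Bool.or_eq_true, beq_iff', anyL_iff,
    Bool.and_eq_true] at c
  rcases c with rfl | rfl | ⟨x, hx, c1, c2, c3⟩
  · exact Or.inl (h.α_rho_in hk.1 k0 one)
  · exact Or.inr (Or.inl (by rw [h.α_rho_in hk.1 k0 (rho_lt one), h.α_rho_in hk.1 k0 one]))
  · have hx' : x < 4096 := (by decide : ∀ x ∈ [2, 3, 4, 8, 16, 32, 130, 260, 1040, 2080], x < 4096) x hx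
    refine Or.inr (Or.inr ⟨_, h.α_lt k x, by rw [h.ty_α kz hx', c1], ?_, ?_⟩)
    · rw [← h.α_xor kz hx' one, h.ty_α kz (xor_lt' hx' one)]; exact c2
    · rw [← h.α_xor kz hx' hw', h.ty_α kz (xor_lt' hx' hw')]; exact c3

theorem xor_cancel_left {a b c : ℕ} (e : a ^^^ b = a ^^^ c) : b = c := by
  rw [← Nat.xor_xor_cancel_left a b, e, Nat.xor_xor_cancel_left]

theorem xor_cancel_right {a b c : ℕ} (e : a ^^^ c = b ^^^ c) : a = b := by
  rw [Nat.xor_comm a, Nat.xor_comm b] at e; exact xor_cancel_left e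

/-- a type preserving linear bijection is semilinear -/
theorem semilin (h : HM z) {β : ℕ → ℕ} (hl : Lin β) (hlt : ∀ v, β v < 4096)
    (hs : ∀ w < 4096, ∃ v < 4096, β v = w) (ht : ∀ v < 4096, ty (β v) = ty v) :
    (∀ v < 4096, β (rho v) = rho (β v)) ∨ ∀ v < 4096, β (rho v) = rho (rho (β v)) := by
  have step1 : ∀ v < 4096, ty v = 1 → β (rho v) = rho (β v) ∨ β (rho v) = rho (rho (β v)) := by
    intro v hv h1
    have hr := rho_lt hv
    rcases patB h (hlt v) (hlt (rho v)) (by rw [ht v hv, h1]) (by rw [ht _ hr, ty_rho hv, h1])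
      (by rw [← hl v hv _ hr, ht _ (xor_lt' hv hr), ← rho_rho hv, ty_rho hr, ty_rho hv, h1]) with
      e | e | ⟨x, hx, c1, c2, c3⟩
    exacts [Or.inl e, Or.inr e, by
      obtain ⟨x, hx', rfl⟩ := hs x hx
      rw [ht x hx'] at c1
      rw [← hl x hx' v hv, ht _ (xor_lt' hx' hv)] at c2
      rw [← hl x hx' _ hr, ht _ (xor_lt' hx' hr)] at c3
      exact absurd c3 (patA h hv hx' h1 c1 c2)]
  have nz : ∀ v < 4096, ty v = 1 → β v ≠ 0 := fun v hv h1 e => by
    have := ht v hv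
    rw [e, h1] at this
    exact absurd this (by decide +kernel)
  have key : ∀ r r' : ℕ → ℕ, Lin r → Lin r' → (∀ x < 4096, x ≠ 0 → r x ≠ r' x) →
      (∀ v < 4096, ty v = 1 → β (rho v) = r (β v) ∨ β (rho v) = r' (β v)) → β (rho 1) = r (β 1) →
      ∀ v < 4096, β (rho v) = r (β v) := by
    intro r r' lr lr' hne hor h1
    have adj : ∀ v < 4096, ∀ v' < 4096, ty v = 1 → ty v' = 1 → ty (v ^^^ v') = 1 → β (rho v) = r (β v) →
        β (rho v') = r (β v') := by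
      intro v hv v' hv' a1 a2 a3 e
      refine (hor v' hv' a2).resolve_right fun e' => ?_
      have e3 := hor _ (xor_lt' hv hv') a3
      rw [lin_rho v hv v' hv', hl _ (rho_lt hv) _ (rho_lt hv'), e, e', hl v hv v' hv', lr _ (hlt _) _ (hlt _),
        lr' _ (hlt _) _ (hlt _)] at e3
      rcases e3 with e3 | e3
      · exact hne _ (hlt _) (nz v' hv' a2) (xor_cancel_left e3).symm
      · exact hne _ (hlt _) (nz v hv a1) (xor_cancel_right e3)
    have t1 : ty 1 = 1 := by decide +kernel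
    have h2 := adj 1 (by norm_num) 2 (by norm_num) t1 (by decide +kernel) (by decide +kernel) h1
    have h3 := lin_ext (f := fun x => β (rho (mv mG x))) (g := fun x => r (β (mv mG x)))
      (hl.comp (lin_rho.comp (lin_mv _) fun _ _ => mv_lt _ _) fun _ _ => rho_lt (mv_lt _ _))
      (lr.comp (hl.comp (lin_mv _) fun _ _ => mv_lt _ _) fun _ _ => hlt _) fun j hj => by
        rw [mv_two_pow _ hj]
        rcases chkG j hj with ⟨c1, c2 | c2⟩
        · exact adj 1 (by norm_num) _ (col_lt _ _) t1 c1 c2 h1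
        · exact adj 2 (by norm_num) _ (col_lt _ _) (by decide +kernel) c1 c2 h2
    intro v hv
    have h4 := h3 _ (mv_lt mGi v)
    rwa [← mv_mm _ _ hv, show mm mG mGi = mI by decide +kernel, mv_mI hv] at h4
  have l2 : Lin fun x => rho (rho x) := lin_rho.comp lin_rho fun _ => rho_lt
  have ne : ∀ x < 4096, x ≠ 0 → rho x ≠ rho (rho x) := fun x hx h0 e =>
    rho_ne (rho_lt hx) (fun e' => h0 (by rw [← rho_three hx, e', rho_zero, rho_zero])) e.symm
  rcases step1 1 (by norm_num) (by decide +kernel) with e | e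
  · exact Or.inl (key rho _ lin_rho l2 ne step1 e)
  · exact Or.inr (key _ rho l2 lin_rho (fun x hx h0 => (ne x hx h0).symm) (fun v hv h1 => (step1 v hv h1).symm) e)

variable {h : HM z}

theorem vec_zpow (a : ℕ) : NW.vec h (z ^ a) = 0 := by
  have := NW.vec_eq (h := h) (v := 0) (by norm_num) a
  rwa [h.s_zero, one_mul] at this

theorem vec_z : NW.vec h z = 0 := by simpa using vec_zpow (h := h) 1

end H0

open H0

/-- `π` is the quotient map modulo the central involution `ζ` -/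
def Md {Γ Q : Type*} [Group Γ] [Group Q] (ζ : Γ) (π : Γ →* Q) : Prop := ∀ x y, π x = π y ↔ y = x ∨ y = x * ζ

variable {H : Type*} [Group H] {z : H} {h : HM z}

theorem Emb.exists_md.{u} {Γ : Type u} [Group Γ] {φ : H →* Γ} (b : Emb h φ) :
    ∃ (Q : Type u) (_ : Group Q) (π : Γ →* Q), Md (φ z) π := by
  have : (zpowers (φ z)).Normal := ⟨by
    rintro _ ⟨k, rfl⟩ g
    have : g * φ z ^ k * g⁻¹ = φ z ^ k := conj_eq_of_comm ((show Commute g (φ z) from b.cΓ g).zpow_right k).eq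
    rw [this]
    exact zpow_mem (mem_zpowers _) k⟩
  refine ⟨Γ ⧸ zpowers (φ z), inferInstance, QuotientGroup.mk' _, fun x y => ?_⟩
  rw [QuotientGroup.mk'_apply, QuotientGroup.mk'_apply, QuotientGroup.eq,
    ExtraTwo.mem_zpowers_iff_of_mul_self (by rw [← map_mul, h.zz, map_one]), inv_mul_eq_one,
    inv_mul_eq_iff_eq_mul, eq_comm]

variable {Γ Q : Type*} [Group Γ] [Group Q] {φ : H →* Γ} {π : Γ →* Q}

theorem Emb.md_iff (b : Emb h φ) (m : Md (φ z) π) {x y : H} : π (φ x) = π (φ y) ↔ y = x ∨ y = x * z := by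
  rw [m, ← map_mul, b.inj.eq_iff, b.inj.eq_iff]

theorem Emb.md_vec (b : Emb h φ) (m : Md (φ z) π) {x y : H} (hx : x ∈ h.E) (hy : y ∈ h.E) :
    π (φ x) = π (φ y) ↔ NW.vec h x = NW.vec h y := by
  rw [b.md_iff m]
  refine ⟨?_, NW.eq_of_vec hx hy⟩
  rintro (rfl | rfl)
  · rfl
  · rw [NW.vec_mul hx h.z_mem, vec_z, Nat.xor_zero]

theorem Emb.md_comm (b : Emb h φ) (m : Md (φ z) π) {k e : H} (he : e ∈ h.E) :
    π (φ k) * π (φ e) = π (φ e) * π (φ k) ↔ h.α k (NW.vec h e) = NW.vec h e := by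
  rw [← NW.vec_conj (b.cH k) he, ← b.md_vec m (h.conj_mem_E (b.cH k) he) he, map_mul, map_mul, map_mul, map_mul,
    map_inv, map_inv, mul_inv_eq_iff_eq_mul]

variable [Finite Γ]

/-- the elements acting trivially on `E / ⟨z⟩` lie in `E` -/
theorem Emb.mem_E_of_md (b : Emb h φ) (m : Md (φ z) π) {g : Γ}
    (hg : ∀ e ∈ h.E, π g * π (φ e) = π (φ e) * π g) : g ∈ h.E.map φ := by
  let X : Subgroup Γ := (centralizer (((h.E.map φ).map π : Subgroup Q) : Set Q)).comap π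
  have hX : ∀ g, g ∈ X ↔ ∀ e ∈ h.E, π g * π (φ e) = π (φ e) * π g := fun g =>
    ⟨fun hg e he => (hg _ ⟨_, ⟨e, he, rfl⟩, rfl⟩).symm, by
      rintro hg _ ⟨_, ⟨e, he, rfl⟩, rfl⟩
      exact (hg e he).symm⟩
  have hE : ∀ x : H, φ x ∈ X → x ∈ h.E := fun x hx => h.mem_E_of_α (b.cH x) fun v hv => by
    have := (b.md_comm m (h.s_mem hv)).1 ((hX _).1 hx _ (h.s_mem hv))
    rwa [NW.vec_s hv] at this
  have hn : ∀ k : H, ∀ x ∈ X, φ k * x * (φ k)⁻¹ ∈ X := fun k x hx => (hX _).2 fun e he => by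
    have := cj2 (g := π (φ k)) ((hX _).1 hx _ (h.conj_mem_E (b.cH k⁻¹) he))
    simpa [mul_assoc] using this
  have h3 : ¬ 3 ∣ Nat.card X := fun hd => by
    obtain ⟨x, hx, x1, x3, xc⟩ := exists_three_fixed (r := φ h.ρ) (by rw [← map_pow, h.rho_three, map_one])
      (mem_normalizer_fintype (hn h.ρ)) hd
    obtain ⟨x, rfl⟩ := b.rho x (N3_of_comm xc)
    exact x1 (one_cop (m := 4) (n := 3) (by norm_num)
      (by rw [← map_pow, h.pre.es.pow_four (hE x hx), map_one]) x3)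
  obtain ⟨a, b', g'⟩ := exists_gens h
  have p := pa_a g'
  have p' : Pa (φ h.ρ) (φ a) := ⟨fun e => p.ne (b.inj (by rw [e, map_one])), by rw [← map_pow, p.w3, map_one],
    by rw [← map_pow, p.a3, map_one], by rw [← map_mul, p.comm, map_mul],
    fun i e => p.na i (b.inj (by rw [e, map_pow]))⟩
  have hle : X ≤ φ.range := p'.le_of_cent h3 (hn _) (hn _) fun y hy y1 x _ hc => by
    obtain ⟨i, -, j, -, rfl⟩ := p'.mem_AA.1 hy
    rw [← map_pow, ← map_pow, ← map_mul] at hc y1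
    have hm : h.ρ ^ i * a ^ j ∈ R0 h := mul_mem (pow_mem (rho_R0 h) i) (pow_mem g'.a_mem j)
    rcases R0_cases hm (fun e => y1 (by rw [e, map_one])) with ⟨k, e⟩ | q
    · have := b.rho (φ k * x * (φ k)⁻¹) (N3_of_comm (by
        rw [← e, map_mul φ (k * _), map_mul φ k, map_inv]; exact cj2 hc))
      simpa [mul_assoc] using mul_mem (mul_mem (inv_mem (⟨k, rfl⟩ : φ k ∈ φ.range)) this) ⟨k, rfl⟩
    · exact b.cent _ q x hc
  obtain ⟨x, rfl⟩ := hle ((hX g).2 hg)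
  exact mem_map_of_mem φ (hE x ((hX _).2 hg))

/-- H0, 2 -/
theorem Emb.norm_E {H Γ : Type*} [Group H] [Finite H] [Group Γ] [Finite Γ] {z : H} {h : HM z} {φ : H →* Γ}
    (b : Emb h φ) {c : Γ} (hc : ∀ e ∈ h.E, c * φ e * c⁻¹ ∈ h.E.map φ) : c ∈ φ.range := by
  obtain ⟨Q, _, π, m⟩ := b.exists_md
  choose! γ hγ eγ using hc
  let β : ℕ → ℕ := fun v => NW.vec h (γ (h.s v))
  have γmul : ∀ x ∈ h.E, ∀ y ∈ h.E, γ (x * y) = γ x * γ y := fun x hx y hy => b.inj (by
    rw [eγ _ (mul_mem hx hy), map_mul, map_mul, eγ x hx, eγ y hy, conj_mul])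
  have γz : ∀ a : ℕ, γ (z ^ a) = z ^ a := fun a => b.inj (by
    rw [eγ _ (pow_mem h.z_mem a), map_pow,
      conj_eq_of_comm ((show Commute c (φ z) from b.cΓ c).pow_right a).eq])
  have hβ : ∀ e ∈ h.E, NW.vec h (γ e) = β (NW.vec h e) := fun e he => by
    obtain ⟨a, -, e1⟩ := NW.vec_spec he
    have hs := h.s_mem (NW.vec_lt (h := h) e)
    conv_lhs => rw [e1, γmul _ hs _ (pow_mem h.z_mem a), γz, NW.vec_mul (hγ _ hs) (pow_mem h.z_mem a), vec_zpow,
      Nat.xor_zero]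
  have hl : Lin β := fun v hv w hw => by
    have := hβ _ (mul_mem (h.s_mem hv) (h.s_mem hw))
    rw [NW.vec_mul (h.s_mem hv) (h.s_mem hw), NW.vec_s hv, NW.vec_s hw, γmul _ (h.s_mem hv) _ (h.s_mem hw),
      NW.vec_mul (hγ _ (h.s_mem hv)) (hγ _ (h.s_mem hw))] at this
    exact this.symm
  have hlt : ∀ v, β v < 4096 := fun v => NW.vec_lt _
  have ht : ∀ v < 4096, ty (β v) = ty v := by
    intro v hv
    by_cases h0 : v = 0
    · rw [h0, hl.zero]
    have hs := h.s_mem hv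
    have n1 : γ (h.s v) ≠ 1 := fun e => (h.s_ne v hv h0).1 (b.inj (by
      have := eγ _ hs
      rw [e, map_one] at this
      simpa using this.symm))
    have n2 : γ (h.s v) ≠ z := fun e => (h.s_ne v hv h0).2 (b.inj (by
      have := eγ _ hs
      rw [e, eq_mul_inv_iff_mul_eq, ← b.cΓ] at this
      exact (mul_left_cancel this).symm))
    obtain ⟨y, p, c1⟩ := exists_ye b.cH (hγ _ hs) n1 n2
    obtain ⟨g, e⟩ := b.fus' hs (eγ _ hs).symm p.a_ne p.a3 (Or.inl (conj_eq_of_comm c1))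
    change ty (NW.vec h _) = _
    rw [← e, NW.vec_conj (b.cH g) hs, NW.vec_s hv, h.ty_α (b.cH g) hv]
  have hs : ∀ w < 4096, ∃ v < 4096, β v = w := by
    let f : Fin 4096 → Fin 4096 := fun v => ⟨β v, hlt v⟩
    have hf : Function.Injective f := fun v w e => by
      have e1 : β v = β w := congrArg Fin.val e
      have h1 := ht _ (xor_lt' v.2 w.2)
      rw [hl _ v.2 _ w.2, e1, Nat.xor_self, eq_comm, show ty 0 = 0 by decide +kernel,
        ty_eq_zero (xor_lt' v.2 w.2)] at h1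
      exact Fin.ext (Nat.xor_eq_zero_iff.1 h1)
    intro w hw
    obtain ⟨v, e⟩ := Finite.injective_iff_surjective.1 hf ⟨w, hw⟩
    exact ⟨v, v.2, congrArg Fin.val e⟩
  obtain ⟨r, hr⟩ : ∃ r : H, ∀ v < 4096, β (J4T.rho v) = h.α r (β v) := by
    rcases semilin h hl hlt hs ht with e | e
    · exact ⟨h.ρ, fun v hv => by rw [e v hv, h.α_rho _ (hlt v)]⟩
    · exact ⟨h.ρ ^ 2, fun v hv => by rw [e v hv, h.α_rho_two (hlt v)]⟩
  have key := b.mem_E_of_md m (g := (φ r)⁻¹ * (c * φ h.ρ * c⁻¹)) fun e he => by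
    obtain ⟨v, hv, e1⟩ := hs _ (NW.vec_lt (h := h) e)
    have hs := h.s_mem hv
    have h1 := h.conj_mem_E h.rho_z hs
    rw [← (b.md_vec m (hγ _ hs) he).2 e1]
    have h2 := (b.md_vec m (hγ _ h1) (h.conj_mem_E (b.cH r) (hγ _ hs))).2 (by
      rw [hβ _ h1, NW.vec_conj h.rho_z hs, NW.vec_s hv, h.α_rho v hv, hr v hv, NW.vec_conj (b.cH r) (hγ _ hs)])
    rw [eγ _ h1] at h2
    rw [← mul_inv_eq_iff_eq_mul]
    simp only [map_mul, map_inv, eγ _ hs] at h2 ⊢
    calc _ = (π (φ r))⁻¹ * (π c * (π (φ h.ρ) * π (φ (h.s v)) * (π (φ h.ρ))⁻¹) * (π c)⁻¹) * π (φ r) := by group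
      _ = _ := by rw [h2]; group
  refine b.mem_of_conj_rho ?_
  simpa using mul_mem (⟨r, rfl⟩ : φ r ∈ φ.range) (map_le_range _ _ key)

end CfsgLib.J4X
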