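import Mathlib
import Cfsg.Agent.Lib.J4X.H0
import Cfsg.Agent.Lib.KMS.Core

/-! # `E` is strongly closed in `H` -/

set_option autoImplicit false

namespace CfsgLib.J4X

open Cfsg CfsgLib.Golay CfsgLib.M24E CfsgLib.J4T CfsgLib.J4T.G3 CfsgLib.LargeExtra Subgroup
open scoped Pointwise commutatorElement
open H0 NW

namespace Sc

/-- an element of order 3 commuting with `rE 1` -/
def pY : ℕ := 0xbd8733c5d07c92c12d0da14860aaa0
/-- its matrix -/
def mY : ℕ := 0xfc0cc0480e0074040002102d01e00d028035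

theorem chkY : allLT 4096 (fun v => or (not (Nat.beq (mv (rM 1) v) v)) (not (allLT 16 fun i =>
    frc (Nat.xor (Nat.xor (Nat.mul 64 i) v) (mv (rM 1) (Nat.mul 64 i))) fun w => not (Nat.beq (mv mY w) w)))) =
    true := by decide +kernel

theorem cntA : cnt2 4096 (fun v => Nat.beq (mv mA v) v) 0 = 16 := by decide +kernel

theorem inner_mul {a b : P24} (ha : a ∈ DD) (hb : b ∈ DD) (e : a (pt 0) = pt 0 ↔ b (pt 0) = pt 0) :
    (a⁻¹ * b) (pt 0) = pt 0 := by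
  rw [Equiv.Perm.mul_apply, Equiv.Perm.inv_eq_iff_eq]
  by_cases h0 : a (pt 0) = pt 0
  · rw [h0, e.1 h0]
  · rw [(DD_swap ha h0).1, (DD_swap hb (mt e.2 h0)).1]

variable {H : Type*} [Group H] {z : H} {h : HM z}

theorem out_lin' (cH : ∀ k : H, k * z = z * k) {t : H} (h0 : h.θ t (pt 0) ≠ pt 0) (h2 : h.θ t * h.θ t = 1) :
    (∃ T : Finset ℕ, T.card ≤ 64 ∧ ∀ v < 4096, h.α t v ^^^ v ∈ T) ∧
      ∀ w < 4096, h.α t w = w → ∃ v < 4096, h.α t v ^^^ v = w := by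
  obtain ⟨k, -, hθ⟩ := norm_out (cH t) h0 h2
  obtain ⟨⟨T, c1, c2⟩, c3⟩ := out_lin (cH _) hθ
  have e : ∀ v < 4096, h.α (k * t * k⁻¹) (h.α k v) = h.α k (h.α t v) := fun v hv => by
    rw [h.α_mul (cH _) (cH _) (h.α_lt _ _), h.α_inv_α (cH k) hv, h.α_mul (cH _) (cH _) hv]
  refine ⟨⟨T.image (h.α k⁻¹), Finset.card_image_le.trans c1, fun v hv => Finset.mem_image.2
    ⟨_, c2 _ (h.α_lt k v), ?_⟩⟩, fun w hw e1 => ?_⟩
  · rw [e v hv, ← h.α_xor (cH k) (h.α_lt _ _) hv, h.α_inv_α (cH k) (xor_lt' (h.α_lt _ _) hv)]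
  · obtain ⟨v, hv, e2⟩ := c3 _ (h.α_lt k w) (by rw [e w hw, e1])
    rw [← h.α_α_inv (cH k) hv, e _ (h.α_lt _ _), ← h.α_xor (cH k) (h.α_lt _ _) (h.α_lt _ _)] at e2
    exact ⟨_, h.α_lt _ _, h.α_inj (cH k) (xor_lt' (h.α_lt _ _) (h.α_lt _ _)) hw e2⟩

/-- the elements of `E` commuting with `t` modulo `z` -/
def Dt (h : HM z) (cH : ∀ k : H, k * z = z * k) (t : H) : Subgroup H where
  carrier := {e | e ∈ h.E ∧ h.α t (vec h e) = vec h e}
  one_mem' := ⟨one_mem _, by rw [vec_one, h.α_zero (cH t)]⟩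
  mul_mem' := by
    rintro a b ⟨a1, a2⟩ ⟨b1, b2⟩
    exact ⟨mul_mem a1 b1, by rw [vec_mul a1 b1, h.α_xor (cH t) (vec_lt _) (vec_lt _), a2, b2]⟩
  inv_mem' := by
    rintro a ⟨a1, a2⟩
    exact ⟨inv_mem a1, by rw [vec_inv a1, a2]⟩

variable [Finite H]

theorem card_le_of_vec {A : Subgroup H} (hA : A ≤ h.E) {T : Finset ℕ} (hT : ∀ a ∈ A, vec h a ∈ T) :
    Nat.card A ≤ 2 * T.card := by
  refine (index_le A (zpowers z) (vec h) (T : Set ℕ) hT fun a ha b hb e => ?_).trans ?_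
  · rcases eq_of_vec (hA ha) (hA hb) e with rfl | rfl
    · simp
    · simp
  · rw [Nat.card_coe_set_eq, Set.ncard_coe_finset]
    refine Nat.mul_le_mul_right _ ((card_le_of_le inf_le_right).trans ?_)
    rw [Nat.card_zpowers, h.orderOf_z]

theorem card_Dt (cH : ∀ k : H, k * z = z * k) {t : H} (h0 : h.θ t (pt 0) ≠ pt 0) (h2 : h.θ t * h.θ t = 1) :
    Nat.card (Dt h cH t) = 128 := by
  obtain ⟨⟨T, c1, c2⟩, c3⟩ := out_lin' cH h0 h2
  apply le_antisymm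
  · refine (card_le_of_vec (h := h) (A := Dt h cH t) (fun _ hx => hx.1) (T := T) fun a ha => ?_).trans (by omega)
    obtain ⟨v, hv, e⟩ := c3 _ (vec_lt a) ha.2
    exact e ▸ c2 v hv
  · have := index_le h.E (Dt h cH t) (fun e => h.α t (vec h e) ^^^ vec h e) (T : Set ℕ)
      (fun a _ => c2 _ (vec_lt _)) fun a ha b hb e => ⟨mul_mem (inv_mem ha) hb, by
        rw [vec_mul (inv_mem ha) hb, vec_inv ha, h.α_xor (cH t) (vec_lt _) (vec_lt _), ← Nat.xor_eq_zero_iff]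
        have e' : h.α t (vec h a) ^^^ vec h a = h.α t (vec h b) ^^^ vec h b := e
        calc _ = (h.α t (vec h a) ^^^ vec h a) ^^^ (h.α t (vec h b) ^^^ vec h b) := by ac_rfl
          _ = 0 := by rw [e', Nat.xor_self]⟩
    rw [h.card_E, Nat.card_coe_set_eq, Set.ncard_coe_finset,
      inf_eq_right.2 (show Dt h cH t ≤ h.E from fun _ hx => hx.1)] at this
    nlinarith

theorem card_fix_le (cH : ∀ k : H, k * z = z * k) {a b : H} (g : Gens h a b) {r : H} (hr : r = h.ρ ∨ r = a) :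
    Nat.card (h.E ⊓ centralizer {r} : Subgroup H) ≤ 32 := by
  have key : ∀ e ∈ (h.E ⊓ centralizer {r} : Subgroup H), h.α r (vec h e) = vec h e := fun e he =>
    α_of_comm (cH r) he.1 (mem_cent.1 he.2).symm
  rcases hr with rfl | rfl
  · refine (card_le_of_vec inf_le_left (T := {0}) fun e he => ?_).trans (by simp)
    have := key e he
    rw [h.α_rho _ (vec_lt _)] at this
    rw [Finset.mem_singleton]
    by_contra h0
    exact J4T.rho_ne (vec_lt _) h0 this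
  · have c := cntA
    rw [cnt2_eq, Nat.add_zero, cntLT_eq_card] at c
    refine (card_le_of_vec inf_le_left fun e he => ?_).trans (by rw [c])
    exact Finset.mem_filter.2 ⟨Finset.mem_range.2 (vec_lt _),
      beq_iff'.2 (by rw [← g.ra.α_eq (vec_lt _), key e he])⟩

end Sc

open Sc

variable {H : Type*} [Group H] {z : H} {h : HM z} {Γ Q : Type*} [Group Γ] [Group Q] {φ : H →* Γ} {π : Γ →* Q}

/-- an element outside `E` fused into `E` -/
def Bad (h : HM z) (φ : H →* Γ) (t : H) : Prop := t ∉ h.E ∧ ∃ e ∈ h.E, ∃ c : Γ, c * φ e * c⁻¹ = φ t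

theorem Emb.bad_conj (b : Emb h φ) {t : H} (ht : Bad h φ t) (k : H) : Bad h φ (k * t * k⁻¹) := by
  obtain ⟨h1, e, he, c, hc⟩ := ht
  refine ⟨fun h2 => h1 (by simpa [mul_assoc] using h.conj_mem_E (b.cH k⁻¹) h2), e, he, φ k * c, ?_⟩
  rw [map_mul, map_mul, map_inv, ← hc]; group

theorem Emb.bad_sq (b : Emb h φ) {t : H} (ht : Bad h φ t) : t * t = 1 ∨ t * t = z := by
  obtain ⟨-, e, he, c, hc⟩ := ht
  refine (h.pre.es.sq he).imp (fun e1 => b.inj ?_) fun e1 => b.inj ?_ <;>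
    rw [map_mul, ← hc, conj_mul, ← map_mul, e1]
  · simp
  · exact conj_eq_of_comm (b.cΓ c)

theorem Emb.bad_θ (b : Emb h φ) {t : H} (ht : Bad h φ t) : h.θ t * h.θ t = 1 := by
  rw [← h.θ_mul _ _ (b.cH t) (b.cH t)]
  rcases b.bad_sq ht with e | e <;> rw [e]
  exacts [h.θ_one, h.θ_z]

theorem Emb.md_E (b : Emb h φ) (m : Md (φ z) π) {x y : H} (hx : x ∈ h.E) (hy : y ∈ h.E) :
    π (φ x) * π (φ y) = π (φ y) * π (φ x) := (b.md_comm m hy).2 (h.α_E hx (vec_lt _))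

theorem Emb.md_sq (b : Emb h φ) (m : Md (φ z) π) {x : H} (hx : x * x = 1 ∨ x * x = z) :
    π (φ x) * π (φ x) = 1 := by
  rw [← map_mul, ← map_mul, ← map_one π, ← map_one φ, eq_comm, b.md_iff m, one_mul]
  exact hx

theorem Emb.md_cjh (b : Emb h φ) (m : Md (φ z) π) (c : Γ) : Md (cjh c φ z) π := by rwa [b.cjh_z]

theorem Md.conj {ζ g x : Γ} (m : Md ζ π) (e : π g * π x = π x * π g) : g * x * g⁻¹ = x ∨ g * x * g⁻¹ = x * ζ :=
  (m _ _).1 (by rw [map_mul, map_mul, map_inv, e, mul_inv_cancel_right])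

variable [Finite H] [Finite Γ]

theorem Emb.not_bad (b : Emb h φ) (m : Md (φ z) π) {t w : H} (w1 : w ≠ 1) (w3 : w ^ 3 = 1)
    (hw : π (φ w) * π (φ t) = π (φ t) * π (φ w)) : ¬ Bad h φ t := by
  rintro ⟨h1, e, he, c, hc⟩
  obtain ⟨g, rfl⟩ := b.fus' he hc w1 w3 ((b.md_iff m).1 (by
    rw [map_mul φ (w * _), map_mul φ w, map_mul π (_ * _), map_mul π (φ w), hw, map_inv, map_inv,
      mul_inv_cancel_right]))
  exact h1 (h.conj_mem_E (b.cH g) he)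

theorem Emb.bad_outer (b : Emb h φ) {t : H} (ht : Bad h φ t) : h.θ t (pt 0) ≠ pt 0 := by
  intro h0
  obtain ⟨Q, _, π, m⟩ := b.exists_md
  have h1 : h.θ t ≠ 1 := fun e => ht.1 (h.mem_E_of_two (b.cH t) e (n := 2) (by
    rw [show t ^ 2 ^ 2 = t * t * (t * t) by rw [show 2 ^ 2 = 2 + 2 from rfl, pow_add, pow_two]]
    rcases b.bad_sq ht with e | e <;> rw [e]
    exacts [mul_one _, h.zz]))
  obtain ⟨r, hr, -, e⟩ := inv_inner (h.θ_mem t (b.cH t)) h0 (b.bad_θ ht) h1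
  obtain ⟨k, -, hθ⟩ := exists_θ (b.cH t) hr e
  have ht' := b.bad_conj ht k
  generalize k * t * k⁻¹ = t' at hθ ht'
  obtain ⟨v, hv, k0, hk, rfl⟩ := h.decomp t' (b.cH _)
  have hs := h.s_mem hv
  rw [h.θ_E_mul hs (b.cH _)] at hθ
  have hE : h.s v * k0 * (h.s v * k0) ∈ h.E := by
    rcases b.bad_sq ht' with e | e <;> rw [e]
    exacts [one_mem _, h.z_mem]
  have one : (1 : ℕ) < 4096 := by norm_num
  have h2 := h.α_E hE one
  rw [h.α_mul (b.cH _) (b.cH _) one, h.α_E_mul hs (b.cH _) one, h.α_E_mul hs (b.cH _) (h.α_lt _ _)] at h2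
  have c1 := HM.chkL_rE (x := 1) (by norm_num)
  have r0 : h.Rk k0 (rE 1) (rM 1) := by
    rcases HM.rk_of_θ hk (hθ ▸ pm_rp (HM.chkL_DD c1).1) c1 with r | r | r
    · exact r
    all_goals
      rw [r.α_eq one, r.α_eq (mv_lt _ _)] at h2
      exact absurd h2 (by decide +kernel)
  have h3 : mv (rM 1) v = v := by
    have e1 := b.md_sq m (b.bad_sq ht')
    have e2 := b.md_sq m (x := k0) (by rw [← pow_two]; exact r0.pow_eq (by decide +kernel))
    have e3 := b.md_sq m (h.pre.es.sq hs)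
    have := (b.md_comm m (k := k0) hs).1 (by
      rw [map_mul, map_mul] at e1
      calc _ = π (φ (h.s v)) * (π (φ (h.s v)) * π (φ k0) * (π (φ (h.s v)) * π (φ k0))) * π (φ k0) := by
            simp only [← mul_assoc]
            rw [e3, one_mul, mul_assoc _ (π (φ k0)), e2, mul_one]
        _ = _ := by rw [e1, mul_one])
    rwa [vec_s hv, r0.α_eq hv] at this
  have c2 := of_allLT chkY hv
  rw [beq_iff'.2 h3, Bool.not_true, Bool.false_or, Bool.not_eq_true', ← Bool.not_eq_true, allLT_iff] at c2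
  push Not at c2
  obtain ⟨i, hi, c2⟩ := c2
  rw [frc_eq, Ne, Bool.not_eq_true', Bool.not_eq_false, beq_iff'] at c2
  have hu : 64 * i < 4096 := by omega
  have hsu := h.s_mem hu
  obtain ⟨y, ry, y3⟩ := lift3 h (p := pY) (A := mY) (by decide +kernel) (by decide +kernel)
  have y1 : y ≠ 1 := fun e => absurd (ry.rp.isId_iff.2 (by rw [e, h.θ_one])) (by decide +kernel)
  have hm := h.conj_mem_E (b.cH k0) (inv_mem hsu)
  have he := mul_mem (mul_mem hsu hs) hm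
  refine b.not_bad m y1 y3 ?_ (b.bad_conj ht' (h.s (64 * i)))
  rw [show h.s (64 * i) * (h.s v * k0) * (h.s (64 * i))⁻¹ =
    h.s (64 * i) * h.s v * (k0 * (h.s (64 * i))⁻¹ * k0⁻¹) * k0 by group, map_mul φ _ k0, map_mul π _ (φ k0)]
  refine Commute.mul_right ((b.md_comm m he).2 ?_) ?_
  · rw [vec_mul (mul_mem hsu hs) hm, vec_mul hsu hs, vec_conj (b.cH _) (inv_mem hsu), vec_inv hsu, vec_s hu,
      vec_s hv, r0.α_eq hu, ry.α_eq (xor_lt' (xor_lt' hu hv) (mv_lt _ _))]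
    exact c2
  · change _ = _
    rw [← map_mul, ← map_mul, ← map_mul, ← map_mul, b.md_iff m]
    exact (ry.mul r0).unique ((r0.mul ry).congr rfl (by decide +kernel))

theorem Emb.mem_E_of_inner (b : Emb h φ) {t e : H} (he : e ∈ h.E) {c : Γ} (hc : c * φ e * c⁻¹ = φ t)
    (h0 : h.θ t (pt 0) = pt 0) : t ∈ h.E := by
  by_contra h1
  exact b.bad_outer ⟨h1, e, he, c, hc⟩ h0

omit [Finite Γ] in
theorem card_le_inner (cH : ∀ k : H, k * z = z * k) {A K : Subgroup H} (δ : H → H)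
    (hK : ∀ a ∈ A, ∀ a' ∈ A, h.θ ((δ a)⁻¹ * δ a') (pt 0) = pt 0 → a⁻¹ * a' ∈ K) :
    Nat.card A ≤ Nat.card (A ⊓ K : Subgroup H) * 2 := by
  refine (index_le A K (fun a => h.θ (δ a) (pt 0) = pt 0) Set.univ (fun _ _ => trivial)
    fun a ha a' ha' e => hK a ha a' ha' ?_).trans (by simp)
  rw [h.θ_mul _ _ (cH _) (cH _), h.θ_inv (cH _)]
  exact inner_mul (h.θ_mem _ (cH _)) (h.θ_mem _ (cH _)) (Iff.of_eq e)

/-- weak closure -/
theorem Emb.map_cjh_eq (b : Emb h φ) {c : Γ} (hc : h.E.map (cjh c φ) ≤ φ.range) :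
    h.E.map (cjh c φ) = h.E.map φ := by
  obtain ⟨Q, _, π, m⟩ := b.exists_md
  refine eq_of_le_of_card_ge ?_ (by rw [card_map_of_injective b.inj, card_map_of_injective (b.conj c).inj])
  rintro _ ⟨e, he, rfl⟩
  obtain ⟨t, ht⟩ := hc ⟨e, he, rfl⟩
  rw [← ht]
  refine mem_map_of_mem φ ?_
  by_contra h1
  have bt : Bad h φ t := ⟨h1, e, he, c, ht.symm⟩
  let A := (h.E.map (cjh c φ)).comap φ
  have cA : Nat.card A = 8192 := by
    rw [← card_map_of_injective (K := A) b.inj, map_comap_eq_self hc, card_map_of_injective (b.conj c).inj,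
      h.card_E]
  have h2 := card_le_inner (h := h) b.cH (A := A) (K := Dt h b.cH t) id fun a ha a' ha' h0 => by
    obtain ⟨x, hx, e1⟩ := mul_mem (inv_mem ha) ha'
    have h3 := b.mem_E_of_inner hx e1 h0
    refine ⟨h3, (b.md_comm m h3).1 ?_⟩
    rw [ht, ← e1]
    exact (b.conj c).md_E (b.md_cjh m c) he hx
  have h3 := card_le_of_le (inf_le_right : A ⊓ Dt h b.cH t ≤ _)
  rw [card_Dt b.cH (b.bad_outer bt) (b.bad_θ bt)] at h3
  omega

theorem Emb.two_le (b : Emb h φ) {P : Subgroup Γ} (hP : IsPGroup 2 P) (hE : h.E.map φ ≤ P) : P ≤ φ.range := by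
  by_contra hn
  obtain ⟨g, hg, h1⟩ := SetLike.exists_of_lt (Core.lt_inf_normalizer_of_isPGroup hP
    (lt_of_le_of_ne (inf_le_left : P ⊓ φ.range ≤ P) fun e => hn (e ▸ inf_le_right)))
  refine h1 ⟨hg.1, b.norm_E fun e he => ?_⟩
  rw [← b.map_cjh_eq (c := g) (by
    rintro _ ⟨e, he, rfl⟩
    exact ((mem_normalizer_iff.1 hg.2 _).1 ⟨hE ⟨e, he, rfl⟩, e, rfl⟩).2)]
  exact ⟨e, he, rfl⟩

omit [Finite H] in
/-- Sylow's theorem for a conjugate of `E` -/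
theorem exists_cjh_le {K U : Subgroup Γ} (hUK : U ≤ K) (hU : IsPGroup 2 U) {c : Γ} (hc : h.E.map (cjh c φ) ≤ K) :
    ∃ P : Subgroup Γ, IsPGroup 2 P ∧ U ≤ P ∧ ∃ k ∈ K, h.E.map (cjh (k * c) φ) ≤ P := by
  obtain ⟨P, h1, h2, h3, h4⟩ := Coprime.exists_le_sylow_relIndex hUK hU
  obtain ⟨k, hk, h5⟩ := Coprime.exists_conj_smul_le_sylow h2 h3 h4 hc (h.pre.es.isPGroup.map _)
  refine ⟨P, h3, h1, k⁻¹, inv_mem hk, ?_⟩
  rintro _ ⟨e, he, rfl⟩
  have := Frob.mem_conj_smul_iff.1 (h5 ⟨e, he, rfl⟩)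
  rw [cjh_apply] at this ⊢
  simpa [mul_assoc] using this

theorem Emb.case_one (b : Emb h φ) (m : Md (φ z) π) {t : H} (bt : Bad h φ t) {c : Γ}
    (ht : φ t ∈ h.E.map (cjh c φ)) (hD : ∀ d ∈ Dt h b.cH t, φ d ∈ h.E.map (cjh c φ)) : False := by
  let U₀ : Subgroup H := Dt h b.cH t ⊔ zpowers t
  let U : Subgroup Q := (U₀.map φ).map π
  have hn : h.E ≤ normalizer (U₀ : Set H) := fun e he => mem_normalizer_fintype fun x hx => by
    refine (show U₀ ≤ U₀.comap (MulAut.conj e).toMonoidHom from sup_le (fun d hd => mem_sup_left ?_)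
      (zpowers_le.2 ?_)) hx
    · exact ⟨h.conj_mem_E (b.cH e) hd.1, by
        change h.α t (vec h (e * d * e⁻¹)) = vec h (e * d * e⁻¹)
        rw [vec_conj (b.cH e) hd.1, h.α_E he (vec_lt _), hd.2]⟩
    · change e * t * e⁻¹ ∈ U₀
      rw [show e * t * e⁻¹ = (yy t e)⁻¹ * t by rw [yy]; group]
      refine mul_mem (mem_sup_left (inv_mem ⟨yy_mem (b.cH t) he, ?_⟩)) (mem_sup_right (mem_zpowers t))
      have hE : t * t ∈ h.E := by
        rcases b.bad_sq bt with e | e <;> rw [e]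
        exacts [one_mem _, h.z_mem]
      rw [vec_yy (b.cH t) he, h.α_xor (b.cH t) (h.α_lt _ _) (vec_lt _), ← h.α_mul (b.cH t) (b.cH t) (vec_lt _),
        h.α_E hE (vec_lt _), Nat.xor_comm]
  have h1 : h.E.map φ ≤ (normalizer (U : Set Q)).comap π := by
    rintro _ ⟨e, he, rfl⟩
    exact le_normalizer_map π ⟨_, le_normalizer_map φ ⟨e, hn he, rfl⟩, rfl⟩
  have h2 : h.E.map (cjh c φ) ≤ (centralizer (U : Set Q)).comap π := by
    rintro _ ⟨e, he, rfl⟩ _ ⟨_, ⟨u, hu, rfl⟩, rfl⟩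
    obtain ⟨x, hx, e1⟩ := (show U₀ ≤ (h.E.map (cjh c φ)).comap φ from sup_le hD (zpowers_le.2 ht)) hu
    rw [← e1]
    exact (b.conj c).md_E (b.md_cjh m c) hx he
  obtain ⟨P, p1, p2, k, hk, p3⟩ := exists_cjh_le h1 (h.pre.es.isPGroup.map _)
    (h2.trans (comap_mono (centralizer_le_normalizer _)))
  have h3 := b.map_cjh_eq (p3.trans (b.two_le p1 p2))
  refine bt.1 (h.mem_E_of_α (b.cH t) fun v hv => ?_)
  obtain ⟨e, he, e1⟩ : φ (h.s v) ∈ h.E.map (cjh (k * c) φ) := h3 ▸ mem_map_of_mem φ (h.s_mem hv)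
  have h4 : π (φ t) ∈ U := ⟨_, ⟨t, mem_sup_right (mem_zpowers t), rfl⟩, rfl⟩
  have h5 := cj2 (g := π k) (h2 ⟨e, he, rfl⟩ _ ((mem_normalizer_iff''.1 hk _).1 h4))
  have h6 := (b.md_comm m (k := t) (h.s_mem hv)).1 (by
    rw [← e1, cjh_apply]
    rw [cjh_apply] at h5
    simpa [mul_assoc] using h5)
  rwa [vec_s hv] at h6

theorem cyc3 {T A E₁ E₂ : Q} (h1 : T * E₁ * T⁻¹ * E₁⁻¹ = A) (h2 : A * E₂ * A⁻¹ * E₂⁻¹ = T)
    (h3 : E₁ * A = A * E₁) (h4 : E₂ * T = T * E₂) (h5 : T * A = A * T) (a2 : A * A = 1) (t2 : T * T = 1) :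
    (E₁ * E₂) ^ 3 * T = T * (E₁ * E₂) ^ 3 ∧ (E₁ * E₂ * T = T * (E₁ * E₂) → A = 1) := by
  have i1 : T⁻¹ = T := inv_eq_of_mul_eq_one_right t2
  have i2 : A⁻¹ = A := inv_eq_of_mul_eq_one_right a2
  have e1 : E₁ * T * E₁⁻¹ = T * A := by rw [← h1, i1, ← mul_assoc, ← mul_assoc, ← mul_assoc, t2, one_mul]
  have e2 : E₂ * A * E₂⁻¹ = A * T := by rw [← h2, i2, ← mul_assoc, ← mul_assoc, ← mul_assoc, a2, one_mul]
  have f1 : E₁ * E₂ * T * (E₁ * E₂)⁻¹ = T * A := by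
    rw [← e1, mul_assoc E₁ E₂, h4]; group
  have f2 : E₁ * E₂ * A * (E₁ * E₂)⁻¹ = T := by
    calc _ = E₁ * (E₂ * A * E₂⁻¹) * E₁⁻¹ := by group
      _ = E₁ * A * E₁⁻¹ * (E₁ * T * E₁⁻¹) := by rw [e2]; group
      _ = T := by rw [e1, conj_eq_of_comm h3, h5, ← mul_assoc, a2, one_mul]
  generalize E₁ * E₂ = G at f1 f2
  refine ⟨comm_of_conj_eq ?_, fun e => ?_⟩
  · calc _ = G * (G * (G * T * G⁻¹) * G⁻¹) * G⁻¹ := by rw [pow_three]; group
      _ = G * (G * T * G⁻¹ * (G * A * G⁻¹)) * G⁻¹ := by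
          conv_lhs => rw [f1]
          group
      _ = T := by rw [f1, f2, h5, mul_assoc A, t2, mul_one, f2]
  · rw [conj_eq_of_comm e] at f1
    exact left_eq_mul.1 f1

theorem Emb.case_two (b : Emb h φ) (m : Md (φ z) π) {t : H} (bt : Bad h φ t) {c : Γ}
    (ht : φ t ∈ h.E.map (cjh c φ)) (hD : ∀ d ∈ Dt h b.cH t, φ d ∈ (cjh c φ).range) {a : H}
    (ha : a ∈ Dt h b.cH t) (hn : φ a ∉ h.E.map (cjh c φ)) : False := by
  have b' := b.conj c
  have m' := b.md_cjh m c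
  obtain ⟨t', ht', et⟩ := ht
  choose! δ eδ using hD
  have back : ∀ d, c⁻¹ * cjh c φ d * c⁻¹⁻¹ = φ d := fun d => by rw [cjh_apply]; group
  have ba : Bad h (cjh c φ) (δ a) := ⟨fun h1 => hn ⟨_, h1, eδ a ha⟩, a, ha.1, c⁻¹, by rw [back, eδ a ha]⟩
  have cta := (b.md_comm m ha.1).2 ha.2
  obtain ⟨v₁, hv₁, e1⟩ := (out_lin' b.cH (b.bad_outer bt) (b.bad_θ bt)).2 _ (vec_lt a) ha.2
  obtain ⟨v₂, hv₂, e2⟩ := (out_lin' b.cH (b'.bad_outer ba) (b'.bad_θ ba)).2 _ (vec_lt t')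
    ((b'.md_comm m' ht').1 (by rw [eδ a ha, et, cta]))
  have s1 := h.s_mem hv₁
  have s2 := h.s_mem hv₂
  have r1 := (b.md_vec m (yy_mem (b.cH t) s1) ha.1).2 (by rw [vec_yy (b.cH t) s1, vec_s hv₁, e1])
  have r2 := (b'.md_vec m' (yy_mem (b.cH (δ a)) s2) ht').2 (by rw [vec_yy (b.cH _) s2, vec_s hv₂, e2])
  simp only [yy, map_mul, map_inv, eδ a ha, et] at r1 r2
  obtain ⟨c1, c2⟩ := cyc3 r1 r2 (b.md_E m s1 ha.1) (et ▸ b'.md_E m' s2 ht') cta
    (b.md_sq m (h.pre.es.sq ha.1)) (b.md_sq m (b.bad_sq bt))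
  rw [← map_mul] at c1 c2
  set g := φ (h.s v₁) * cjh c φ (h.s v₂) with hg
  have h3 : 3 ∣ orderOf g := by
    by_contra h3
    have := KMS.mem_of_pow_mem_of_coprime (S := (centralizer {π (φ t)}).comap π) (c := g)
      ((Nat.Prime.coprime_iff_not_dvd Nat.prime_three).2 h3) (mem_cent.2 (by rw [map_pow, c1]))
      (by rw [pow_orderOf_eq_one]; exact one_mem _)
    have h4 := c2 (mem_cent.1 this)
    rw [← map_one π, ← map_one φ, eq_comm, b.md_iff m, one_mul] at h4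
    refine hn ?_
    rcases h4 with rfl | rfl
    · rw [map_one]; exact one_mem _
    · exact ⟨_, h.z_mem, b.cjh_z c⟩
  have ow := orderOf_pow_orderOf_div (orderOf_pos g).ne' h3
  set w := g ^ (orderOf g / 3) with hw
  have w3 : w ^ 3 = 1 := by rw [← ow, pow_orderOf_eq_one]
  have w1 : w ≠ 1 := fun e => by rw [e, orderOf_one] at ow; norm_num at ow
  let I := Dt h b.cH t ⊓ (h.E.map (cjh c φ)).comap φ
  have cI := card_le_inner (h := h) b.cH (A := Dt h b.cH t) (K := (h.E.map (cjh c φ)).comap φ) δ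
    fun d hd d' hd' h0 => by
      have e : cjh c φ ((δ d)⁻¹ * δ d') = φ (d⁻¹ * d') := by
        rw [map_mul, map_inv, eδ d hd, eδ d' hd', map_mul, map_inv]
      exact ⟨_, b'.mem_E_of_inner (mul_mem (inv_mem hd) hd').1 (by rw [back, e]) h0, e⟩
  rw [card_Dt b.cH (b.bad_outer bt) (b.bad_θ bt)] at cI
  have wI : ∀ x ∈ I, w * φ x = φ x * w := by
    rintro x ⟨hx, x', hx', ex⟩
    refine comm_of_mod w3 (b.cΓ w) (by rw [← map_mul, h.zz, map_one]) (m.conj ?_)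
    rw [hw, map_pow, hg, map_mul]
    exact ((Commute.mul_left (b.md_E m s1 hx.1) (ex ▸ b'.md_E m' s2 hx')).pow_left _).eq
  obtain ⟨a₀, b₀, g₀⟩ := exists_gens h
  obtain ⟨r, hr, r1, r3, hc, n, en⟩ : ∃ r, (r = h.ρ ∨ r = a₀) ∧ r ≠ 1 ∧ r ^ 3 = 1 ∧
      (∀ x, x * φ r = φ r * x → x ∈ φ.range) ∧ ∃ n, n * w * n⁻¹ = φ r := by
    rcases b.three_conj (pa_a g₀) w1 w3 with e | e
    · exact ⟨_, Or.inl rfl, h.rho_ne, h.rho_three, fun x hx => b.rho x (N3_of_comm hx), e⟩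
    · exact ⟨_, Or.inr rfl, (pa_a g₀).a_ne, g₀.a3, b.cent _ (pa_a g₀), e⟩
  have hle : I.map (cjh n φ) ≤ (h.E ⊓ centralizer {r}).map φ := by
    rintro _ ⟨x, hx, rfl⟩
    have e1 : cjh n φ x * φ r = φ r * cjh n φ x := by rw [← en]; exact cj2 (wI x hx).symm
    obtain ⟨x', ex⟩ := hc _ e1
    have e2 : x' * r = r * x' := b.inj (by rw [map_mul, map_mul, ex, e1])
    obtain ⟨l, el⟩ := b.fus' hx.1.1 ex.symm r1 r3 (Or.inl (conj_eq_of_comm e2.symm))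
    exact ⟨x', ⟨el ▸ h.conj_mem_E (b.cH l) hx.1.1, mem_cent.2 e2⟩, ex⟩
  have h5 := card_le_of_le hle
  rw [card_map_of_injective b.inj, card_map_of_injective (b.conj n).inj] at h5
  have h6 := card_fix_le b.cH g₀ hr
  change 128 ≤ Nat.card I * 2 at cI
  omega

/-- SC (file Sc.lean), 1: strong closure -/
theorem Emb.sc {H Γ : Type*} [Group H] [Finite H] [Group Γ] [Finite Γ] {z : H} {h : HM z} {φ : H →* Γ}
    (b : Emb h φ) {e t : H} (he : e ∈ h.E) {c : Γ} (hc : c * φ e * c⁻¹ = φ t) : t ∈ h.E := by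
  by_contra h1
  have bt : Bad h φ t := ⟨h1, e, he, c, hc⟩
  obtain ⟨Q, _, π, m⟩ := b.exists_md
  obtain ⟨P, p1, p2, k, hk, p3⟩ := exists_cjh_le (h := h) (φ := φ) (K := (centralizer {π (φ t)}).comap π)
    (U := (Dt h b.cH t).map φ) (c := c) (by
      rintro _ ⟨d, hd, rfl⟩
      exact mem_cent.2 ((b.md_comm m hd.1).2 hd.2).symm)
    ((h.pre.es.isPGroup.to_le (show Dt h b.cH t ≤ h.E from fun _ hx => hx.1)).map _) (by
      rintro _ ⟨x, hx, rfl⟩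
      rw [← hc]
      exact mem_cent.2 ((b.conj c).md_E (b.md_cjh m c) hx he))
  have h2 := (b.conj (k * c)).two_le p1 p3
  have h3 : φ t ∈ h.E.map (cjh (k * c) φ) := by
    have h4 : k * φ t * k⁻¹ ∈ h.E.map (cjh (k * c) φ) := ⟨e, he, by rw [cjh_apply, ← hc]; group⟩
    rcases m.conj (mem_cent.1 hk) with e1 | e1 <;> rw [e1] at h4
    · exact h4
    · simpa using mul_mem h4 (inv_mem (⟨_, h.z_mem, b.cjh_z _⟩ : φ z ∈ h.E.map (cjh (k * c) φ)))
  refine b.case_one m bt h3 fun a ha => ?_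
  by_contra hn
  exact b.case_two m bt h3 (fun d hd => h2 (p2 ⟨d, hd, rfl⟩)) ha hn

end CfsgLib.J4X
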