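import Mathlib
import Cfsg.Agent.Lib.J4X.GoldA
import Cfsg.Agent.Lib.J4X.H0
import Cfsg.Agent.Lib.J4X.Sc

/-! # The embedding is onto -/

set_option autoImplicit false

namespace CfsgLib.J4X

open Cfsg CfsgLib.Golay CfsgLib.M24E CfsgLib.J4T CfsgLib.J4T.G3 Subgroup

theorem Emb.surj {H Γ : Type*} [Group H] [Finite H] [Group Γ] [Finite Γ] {z : H} {h : HM z} {φ : H →* Γ}
    (b : Emb h φ) : Function.Surjective φ :=
  Go.Hy.surj ⟨b, fun _ he _ _ hc => b.sc he hc, fun _ hc => b.norm_E hc⟩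

end CfsgLib.J4X
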