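import Mathlib
import Cfsg.Agent.Lib.J4X.LocA

/-!
# From the centraliser of one element of order 3 to the global hypothesis
-/

set_option autoImplicit false

namespace CfsgLib.J4X

open Cfsg CfsgLib.Golay CfsgLib.M24E CfsgLib.J4T CfsgLib.J4T.G3 Subgroup
open scoped Pointwise

namespace Ks

variable {G : Type*} [Group G]

theorem pow_back {d x : G} (h3 : d ^ 3 = 1) {m : ℕ} (e : x = d ^ m) (h1 : x ≠ 1) : ∃ i : ℕ, d = x ^ i := by
  rw [← pow_mod3 h3] at e
  have : m % 3 < 3 := Nat.mod_lt _ (by norm_num)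
  generalize m % 3 = j at e this
  interval_cases j
  · exact absurd (e.trans (pow_zero _)) h1
  · exact ⟨1, by rw [e, pow_one, pow_one]⟩
  · exact ⟨2, by rw [e, ← pow_mul, show 2 * 2 = 3 + 1 from rfl, pow_succ, h3, one_mul]⟩

theorem exists_aut {A B : Type*} [Group A] [Group B] {f g : A →* B} (hf : Function.Surjective f)
    (hg : Function.Surjective g) (h : f.ker = g.ker) : ∃ e : B ≃* B, ∀ a, e (f a) = g a := by
  refine ⟨(QuotientGroup.quotientKerEquivOfSurjective f hf).symm.trans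
    ((QuotientGroup.quotientMulEquivOfEq h).trans (QuotientGroup.quotientKerEquivOfSurjective g hg)), fun a => ?_⟩
  have : (QuotientGroup.quotientKerEquivOfSurjective f hf).symm (f a) = (a : A ⧸ f.ker) :=
    (MulEquiv.symm_apply_eq _).2 rfl
  rw [MulEquiv.trans_apply, this]; rfl

variable {w z : G} {θ : G → P24}

/-- central elements of the centraliser lie in the kernel -/
theorem θ_central (k : KS0 w z θ) {c : G} (hc : c * w = w * c) (h : ∀ a, a * w = w * a → c * a = a * c) :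
    θ c = 1 := by
  refine eq_one_of_cent_M22 (k.mem c hc).1 fun g hg => ?_
  obtain ⟨a, ha, rfl⟩ := k.surj g (mem_M22.1 hg).1 (mem_M22.1 hg).2
  rw [← k.mul _ _ hc ha, ← k.mul _ _ ha hc, h a ha]

theorem z_unique (k : KS0 w z θ) {z' : G} {θ' : G → P24} (k' : KS0 w z' θ') : z' = z := by
  have f : ∀ {z z' : G} {θ θ' : G → P24}, KS0 w z θ → KS0 w z' θ' → z' = 1 ∨ z' = z := fun k k' =>
    k.ker_two k'.z_w (θ_central k k'.z_w fun a ha => (k'.z_comm a ha).symm) (n := 1) (by rw [pow_one, pow_two, k'.zz])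
  rcases f k k' with e | e
  · rcases f k' k with e' | e'
    exacts [e.trans e'.symm, e'.symm]
  · exact e

theorem conj0 (k : KS0 w z θ) (g : G) : KS0 (g * w * g⁻¹) (g * z * g⁻¹) fun a => θ (g⁻¹ * a * g) where
  ne := fun e => k.ne (by simpa [mul_inv_eq_one] using e)
  three := by rw [conj_pow, k.three]; simp
  zz := by rw [conj_mul, k.zz]; simp
  z_comm := fun a ha => by simpa [mul_assoc] using comm_conj' (g := g) (k.z_comm _ (comm_conj ha))
  mul := fun a b ha hb => by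
    rw [← k.mul _ _ (comm_conj ha) (comm_conj hb)]; congr 1; group
  mem := fun a ha => k.mem _ (comm_conj ha)
  surj := fun p hp h0 => by
    obtain ⟨a, ha, e⟩ := k.surj p hp h0
    exact ⟨g * a * g⁻¹, comm_conj' ha, by rw [← e]; congr 1; group⟩
  ker := fun a ha => by
    rw [k.ker _ (comm_conj ha)]
    refine exists_congr fun i => exists_congr fun j => ?_
    rw [conj_pow, conj_pow, conj_mul]
    constructor
    · intro e; rw [← e]; group
    · intro e; rw [e]; group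
  perf := by
    have h1 := mem_map_of_mem (MulAut.conj g).toMonoidHom k.perf
    rw [map_commutator] at h1
    have h2 : (centralizer ({w} : Set G)).map (MulAut.conj g).toMonoidHom ≤ centralizer {g * w * g⁻¹} := by
      rintro _ ⟨a, ha, rfl⟩
      exact mem_centralizer_singleton_iff.2 (comm_conj' (mem_centralizer_singleton_iff.1 ha))
    exact commutator_mono h2 h2 h1

theorem conj (k : KS w z θ) (g : G) : KS (g * w * g⁻¹) (g * z * g⁻¹) fun a => θ (g⁻¹ * a * g) where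
  toKS0 := conj0 k.toKS0 g
  z_comm2 := fun a ha => by simpa [mul_assoc] using comm_conj' (g := g) (k.z_comm2 _ (N3_conj ha))
  mul2 := fun a ha b hb => by
    rw [← k.mul2 _ (N3_conj ha) _ (N3_conj hb)]; congr 1; group
  mem2 := fun a ha => k.mem2 _ (N3_conj ha)
  surj2 := fun p hp => by
    obtain ⟨a, ha, e⟩ := k.surj2 p hp
    refine ⟨g * a * g⁻¹, ?_, by rw [← e]; congr 1; group⟩
    have := N3_conj (g := g⁻¹) (w := g * w * g⁻¹) (a := a) (by simpa [mul_assoc] using ha)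
    rwa [inv_inv] at this
  inner := fun a ha h => by simpa [mul_assoc] using comm_conj' (g := g) (k.inner _ (N3_conj ha) h)

theorem zf_conj (g : Gl G) (h1 : w ≠ 1) (h3 : w ^ 3 = 1) (c : G) : g.zf (c * w * c⁻¹) = c * g.zf w * c⁻¹ := by
  obtain ⟨θ, k⟩ := g.ks w h1 h3
  have k1 := conj0 k.toKS0 c
  obtain ⟨θ', k'⟩ := g.ks _ k1.ne k1.three
  exact z_unique k1 k'.toKS0

/-- the automorphism of `M22` induced by an element of the normaliser -/
theorem exists_ind (k : KS0 w z θ) {n : G} (hn : n ∈ N3 w) :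
    ∃ p ∈ DD, ∀ a, a * w = w * a → θ (n * a * n⁻¹) = p * θ a * p⁻¹ := by
  let f : centralizer ({w} : Set G) →* Spor.M22 := k.hom.codRestrict _ fun a => k.range_hom ▸ ⟨a, rfl⟩
  have hf : Function.Surjective f := fun ⟨p, hp⟩ => by
    rw [← k.range_hom] at hp
    obtain ⟨a, rfl⟩ := hp
    exact ⟨a, rfl⟩
  let c : centralizer ({w} : Set G) →* centralizer ({w} : Set G) :=
    ((MulAut.conj n).toMonoidHom.comp (centralizer ({w} : Set G)).subtype).codRestrict _ fun a =>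
      mem_centralizer_singleton_iff.2 (N3_comm hn (mem_centralizer_singleton_iff.1 a.2))
  have back : ∀ a, a * w = w * a → n⁻¹ * a * n * w = w * (n⁻¹ * a * n) := fun a ha => by
    simpa using N3_comm (inv_mem hn) ha
  have hc : Function.Surjective c := fun ⟨a, ha⟩ =>
    ⟨⟨n⁻¹ * a * n, mem_centralizer_singleton_iff.2 (back a (mem_centralizer_singleton_iff.1 ha))⟩,
      Subtype.ext (by show n * (n⁻¹ * a * n) * n⁻¹ = a; group)⟩
  have hk : f.ker = (f.comp c).ker := by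
    ext ⟨a, ha⟩
    have ha' := mem_centralizer_singleton_iff.1 ha
    rw [MonoidHom.mem_ker, MonoidHom.mem_ker, Subtype.ext_iff, Subtype.ext_iff]
    show θ a = 1 ↔ θ (n * a * n⁻¹) = 1
    refine ⟨fun e => θ_central k (N3_comm hn ha') fun b hb => ?_, fun e => θ_central k ha' fun b hb => ?_⟩
    · simpa [mul_assoc] using comm_conj' (g := n) (k.ker_comm ha' (back b hb) e)
    · have := k.ker_comm (N3_comm hn ha') (N3_comm hn hb) e
      rwa [conj_mul, conj_mul, mul_left_inj, mul_right_inj] at this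
  obtain ⟨α, hα⟩ := exists_aut (g := f.comp c) hf (hf.comp hc) hk
  obtain ⟨e, he⟩ := dd_equiv'
  obtain ⟨p, rfl⟩ := e.surjective α
  refine ⟨p, p.2, fun a ha => ?_⟩
  have := he p (f ⟨a, mem_centralizer_singleton_iff.2 ha⟩)
  rw [hα] at this
  exact this

theorem ind_unique (k : KS0 w z θ) {p q : P24} (hp : p ∈ DD) (hq : q ∈ DD)
    (h : ∀ a, a * w = w * a → p * θ a * p⁻¹ = q * θ a * q⁻¹) : p = q := by
  have := eq_one_of_cent_M22 (mul_mem (inv_mem hq) hp) fun g hg => by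
    obtain ⟨a, ha, rfl⟩ := k.surj g (mem_M22.1 hg).1 (mem_M22.1 hg).2
    calc q⁻¹ * p * θ a = q⁻¹ * (p * θ a * p⁻¹) * p := by group
      _ = _ := by rw [h a ha]; group
  exact (inv_mul_eq_one.1 this).symm

/-- an element acting trivially modulo the kernel centralises `w` -/
theorem comm_of_triv (k : KS0 w z θ) {c : G} (hc : c ∈ N3 w) (h : ∀ a, a * w = w * a → θ (c * a * c⁻¹) = θ a) :
    c * w = w * c := by
  have h1 : ⁅centralizer ({w} : Set G), centralizer ({w} : Set G)⁆ ≤ centralizer {c} := by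
    rw [commutator_le]
    intro a ha b hb
    rw [mem_centralizer_singleton_iff] at ha hb ⊢
    have f : ∀ a, a * w = w * a → ∃ u, c * a * c⁻¹ = u * a ∧ u * w = w * u ∧ ∀ d, d * w = w * d → Commute u d :=
      fun a ha => ⟨c * a * c⁻¹ * a⁻¹, by group, comm_mul (N3_comm hc ha) (comm_inv ha), fun d hd =>
        k.ker_comm (comm_mul (N3_comm hc ha) (comm_inv ha)) hd (k.θ_eq (N3_comm hc ha) ha (h a ha))⟩
    obtain ⟨u, eu, -, cu⟩ := f a ha
    obtain ⟨v, ev, hv, cv⟩ := f b hb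
    have e1 : c * (a * b * a⁻¹ * b⁻¹) * c⁻¹ = u * a * (v * b) * (u * a)⁻¹ * (v * b)⁻¹ := by
      rw [← eu, ← ev]; group
    have e2 : u * a * (v * b) * (u * a)⁻¹ = v * (a * b * a⁻¹) := by
      calc _ = u * (a * v * b * a⁻¹) * u⁻¹ := by group
        _ = _ := by
          rw [(cu _ (comm_mul (comm_mul (comm_mul ha hv) hb) (comm_inv ha))).eq, mul_inv_cancel_right,
            ← (cv a ha).eq]; group
    have e3 : v * (a * b * a⁻¹) * (v * b)⁻¹ = a * b * a⁻¹ * b⁻¹ := by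
      calc _ = v * (a * b * a⁻¹ * b⁻¹) * v⁻¹ := by group
        _ = _ := by
          rw [(cv _ (comm_mul (comm_mul (comm_mul ha hb) (comm_inv ha)) (comm_inv hb))).eq, mul_inv_cancel_right]
    rw [e2, e3, mul_inv_eq_iff_eq_mul] at e1
    rw [commutatorElement_def]
    exact e1.symm
  exact (mem_centralizer_singleton_iff.1 (h1 k.perf)).symm

theorem exists_ks (k : KS0 w z θ) {n : G} (hn : n * w * n⁻¹ = w⁻¹) : ∃ θ', KS w z θ' := by
  classical
  have ex : ∀ a : G, ∃ p, a ∈ N3 w → p ∈ DD ∧ ∀ b, b * w = w * b → θ (a * b * a⁻¹) = p * θ b * p⁻¹ := fun a => by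
    by_cases ha : a ∈ N3 w
    · obtain ⟨p, h1, h2⟩ := exists_ind k ha
      exact ⟨p, fun _ => ⟨h1, h2⟩⟩
    · exact ⟨1, fun h => absurd h ha⟩
  choose τ hτ using ex
  have eq : ∀ a, a * w = w * a → τ a = θ a := fun a ha =>
    ind_unique k (hτ a (N3_of_comm ha)).1 (k.mem a ha).1 fun b hb => by
      rw [← (hτ a (N3_of_comm ha)).2 b hb, k.θ_conj ha hb]
  have mul : ∀ a ∈ N3 w, ∀ b ∈ N3 w, τ (a * b) = τ a * τ b := fun a ha b hb =>
    ind_unique k (hτ _ (mul_mem ha hb)).1 (mul_mem (hτ a ha).1 (hτ b hb).1) fun c hc => by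
      rw [← (hτ _ (mul_mem ha hb)).2 c hc, show a * b * c * (a * b)⁻¹ = a * (b * c * b⁻¹) * a⁻¹ by group,
        (hτ a ha).2 _ (N3_comm hb hc), (hτ b hb).2 c hc]
      group
  have inner : ∀ a ∈ N3 w, τ a (pt 0) = pt 0 → a * w = w * a := fun a ha h0 => by
    obtain ⟨b, hb, e⟩ := k.surj _ (hτ a ha).1 h0
    have h1 := comm_of_triv k (mul_mem (inv_mem (N3_of_comm hb)) ha) fun c hc => by
      rw [show b⁻¹ * a * c * (b⁻¹ * a)⁻¹ = b⁻¹ * (a * c * a⁻¹) * b⁻¹⁻¹ by group,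
        k.θ_conj (comm_inv hb) (N3_comm ha hc), (hτ a ha).2 c hc, k.θ_inv hb, e]
      group
    simpa using comm_mul hb h1
  have hn' : n ∈ N3 w := Or.inr hn
  have out : τ n (pt 0) ≠ pt 0 := fun h => by
    rw [inner n hn' h, mul_inv_cancel_right, eq_inv_iff_mul_eq_one, ← pow_two] at hn
    exact k.ne (eq_one_of_coprime (by norm_num) hn k.three)
  refine ⟨τ, ⟨k.ne, k.three, k.zz, k.z_comm, fun a b ha hb => mul a (N3_of_comm ha) b (N3_of_comm hb),
    fun a ha => eq a ha ▸ k.mem a ha, fun p hp h0 => ?_, fun a ha => eq a ha ▸ k.ker a ha, k.perf⟩,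
    fun a ha => ?_, mul, fun a ha => (hτ a ha).1, fun p hp => ?_, inner⟩
  · obtain ⟨a, ha, e⟩ := k.surj p hp h0
    exact ⟨a, ha, (eq a ha).trans e⟩
  · rcases k.ker_two (N3_comm ha k.z_w) (by rw [(hτ a ha).2 z k.z_w, k.θ_z]; simp) (n := 1)
      (by rw [pow_one, pow_two, conj_mul, k.zz]; simp) with e | e
    · rw [show z = 1 by simpa [mul_inv_eq_one] using e]; simp
    · exact mul_inv_eq_iff_eq_mul.1 e
  · by_cases h0 : p (pt 0) = pt 0
    · obtain ⟨a, ha, e⟩ := k.surj p hp h0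
      exact ⟨a, N3_of_comm ha, (eq a ha).trans e⟩
    · obtain ⟨a, ha, e⟩ := k.surj (p * (τ n)⁻¹) (mul_mem hp (inv_mem (hτ n hn').1)) (by
        rw [Equiv.Perm.mul_apply, Equiv.Perm.inv_eq_iff_eq.2 (DD_swap (hτ n hn').1 out).2.symm, (DD_swap hp h0).2])
      exact ⟨a * n, mul_mem (N3_of_comm ha) hn', by rw [mul _ (N3_of_comm ha) _ hn', eq a ha, e, inv_mul_cancel_right]⟩

theorem pa_inv {a : G} (p : Pa w a) : Pa w a⁻¹ :=
  ⟨p.ne, p.w3, by rw [inv_pow, p.a3, inv_one], comm_inv p.comm, fun i e => p.na (i * 2) (by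
    rw [pow_mul, ← e, inv_pow, eq_inv_iff_mul_eq_one, ← pow_succ', p.a3])⟩

theorem mem_smul {p : ℕ} {P : Sylow p G} {h s : G} : s ∈ ((h • P : Sylow p G) : Subgroup G) ↔ h⁻¹ * s * h ∈ (P : Subgroup G) := by
  rw [Sylow.coe_subgroup_smul, mem_pointwise_smul_iff_inv_smul_mem, ← map_inv, MulAut.smul_def, MulAut.conj_apply,
    inv_inv]

theorem exists_central [Finite G] {P : Subgroup G} (hP : IsPGroup 3 P) {x : G} (hx : x ∈ P) (h1 : x ≠ 1) :
    ∃ c ∈ P, c ≠ 1 ∧ c ^ 3 = 1 ∧ ∀ s ∈ P, s * c = c * s := by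
  have : Fact (Nat.Prime 3) := ⟨Nat.prime_three⟩
  have : Nontrivial P := ⟨⟨⟨x, hx⟩, 1, fun e => h1 (congrArg Subtype.val e)⟩⟩
  have := hP.center_nontrivial
  obtain ⟨n, hn0, hn⟩ := ((hP.to_subgroup (center P)).nontrivial_iff_card).1 inferInstance
  obtain ⟨c, hc⟩ := exists_prime_orderOf_dvd_card' (G := center P) 3 (hn ▸ dvd_pow_self 3 hn0.ne')
  refine ⟨c, c.1.2, fun e => ?_, ?_, fun s hs => congrArg Subtype.val (mem_center_iff.1 c.2 ⟨s, hs⟩)⟩
  · rw [show c = 1 from Subtype.ext (Subtype.ext e), orderOf_one] at hc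
    omega
  · have := pow_orderOf_eq_one c
    rw [hc] at this
    exact congrArg (fun t : center P => ((t : P) : G)) this

theorem pgroup_zpowers {x : G} (h : x ^ 3 = 1) : IsPGroup 3 (zpowers x) := by
  rintro ⟨_, n, rfl⟩
  refine ⟨1, Subtype.ext ?_⟩
  show (x ^ n) ^ 3 ^ 1 = 1
  rw [pow_one, ← zpow_natCast, ← zpow_mul, mul_comm, zpow_mul, zpow_natCast, h, one_zpow]

/-- a Sylow 3-subgroup with centre `⟨w⟩` -/
theorem exists_sylow [Finite G] (k : KS0 w z θ) : ∃ P : Sylow 3 G, w ∈ (P : Subgroup G) ∧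
    (∀ s ∈ (P : Subgroup G), s * w = w * s) ∧
      ∀ c ∈ (P : Subgroup G), (∀ s ∈ (P : Subgroup G), s * c = c * s) → ∃ i : ℕ, c = w ^ i := by
  have : Fact (Nat.Prime 3) := ⟨Nat.prime_three⟩
  obtain ⟨a, ha, ea, a3⟩ := k.exists_lift3 (is22_spec is22_A).2.1 (is22_spec is22_A).2.2 A3
  obtain ⟨b, hb, eb, b3⟩ := k.exists_lift3 (is22_spec is22_B).2.1 (is22_spec is22_B).2.2 B3
  have nc := k.not_comm ha hb ea eb
  obtain ⟨i, -, e⟩ := k.eq_of_three (comm_mul (comm_mul hb ha) (comm_inv hb)) ha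
    (by rw [k.θ_conj hb ha, ea, eb, ← AB.eq, mul_inv_cancel_right]) (by rw [conj_pow, a3]; simp) a3
  have nrm : ∀ {A : Subgroup G} {S : Set G} {g : G}, A = closure S → (∀ s ∈ S, g * s * g⁻¹ ∈ A) →
      zpowers g ≤ normalizer (A : Set G) := fun {A S g} hA h => by
    rw [zpowers_le]
    refine mem_normalizer_fintype fun x hx => ?_
    have : closure S ≤ A.comap (MulAut.conj g).toMonoidHom := (closure_le _).2 h
    exact this (hA ▸ hx)
  have p1 : IsPGroup 3 ↥(zpowers a ⊔ zpowers w) :=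
    (pgroup_zpowers a3).to_sup_of_normal_right' (pgroup_zpowers k.three)
      (nrm (zpowers_eq_closure w) (by rintro _ rfl; rw [ha, mul_inv_cancel_right]; exact mem_zpowers _))
  have m1 : a ∈ zpowers a ⊔ zpowers w := mem_sup_left (mem_zpowers a)
  have m2 : w ∈ zpowers a ⊔ zpowers w := mem_sup_right (mem_zpowers w)
  have p2 : IsPGroup 3 ↥(zpowers b ⊔ (zpowers a ⊔ zpowers w)) :=
    (pgroup_zpowers b3).to_sup_of_normal_right' p1
      (nrm (S := {a} ∪ {w}) (by rw [Subgroup.closure_union, zpowers_eq_closure, zpowers_eq_closure]) (by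
        rintro _ (rfl | rfl)
        · rw [e]; exact mul_mem (pow_mem m2 _) m1
        · rw [hb, mul_inv_cancel_right]; exact m2))
  obtain ⟨P, hP⟩ := p2.exists_le_sylow
  have wP : w ∈ (P : Subgroup G) := hP (mem_sup_right m2)
  have cen : ∀ c ∈ (P : Subgroup G), (∀ s ∈ (P : Subgroup G), s * c = c * s) → ∃ i : ℕ, c = w ^ i := by
    intro c hc h
    have cw := (h w wP).symm
    have ca : Commute c a := (h a (hP (mem_sup_right m1))).symm
    have cb : Commute c b := (h b (hP (mem_sup_left (mem_zpowers b)))).symm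
    obtain ⟨⟨u, hu, i, hi, j, hj, e⟩, -⟩ := centA (k.mem c cw).1 (k.mem c cw).2
      (by rw [← ea, ← k.mul _ _ cw ha, ← k.mul _ _ ha cw, ca.eq])
    have hl : ∀ u ∈ [0, 1, 6, 7], u < 16 ∧ (fB.getD u 0 = u → u = 0) := by decide
    have u0 : u = 0 := by
      have h1 : Commute (pm qB) (θ c) := by rw [← eb, Commute, SemiconjBy, ← k.mul _ _ cw hb, ← k.mul _ _ hb cw, cb.eq]
      have h2 : Commute (pm qB) (pm (uE u)) := by
        have := h1.mul_right ((AB.symm.pow_right i).mul_right ((Commute.refl _).pow_right j)).inv_right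
        rwa [e, mul_inv_cancel_right] at this
      obtain ⟨h3, h4⟩ := actF_spec actF_B (hl u hu).1
      rw [h2.eq, mul_inv_cancel_right] at h4
      exact (hl u hu).2 (uE_injective (hl u hu).1 h3 h4).symm
    rw [u0, uE_one, one_mul] at e
    have hab := comm_mul (comm_pow ha i) (comm_pow hb j)
    have h1 := k.θ_eq cw hab (by rw [k.mul _ _ (comm_pow ha i) (comm_pow hb j), k.θ_pow ha, k.θ_pow hb, ea, eb, e])
    have h2 : ∀ d, d * w = w * d → Commute c d → Commute (a ^ i * b ^ j) d := fun d hd hcd => by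
      have := (show Commute (c * (a ^ i * b ^ j)⁻¹) d from
        k.ker_comm (comm_mul cw (comm_inv hab)) hd h1).inv_left.mul_left hcd
      rwa [mul_inv_rev, inv_inv, inv_mul_cancel_right] at this
    have h3 : ∀ {a b : G} {i : ℕ}, a ^ 3 = 1 → i < 3 → Commute (a ^ i) b → ¬ Commute a b → i = 0 := by
      intro a b i a3 hi h hn
      interval_cases i
      · rfl
      · exact absurd (pow_one a ▸ h) hn
      · have := h.pow_left 2
        rw [← pow_mul, show 2 * 2 = 3 + 1 from rfl, pow_succ, a3, one_mul] at this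
        exact absurd this hn
    have j0 : j = 0 := h3 b3 hj (by
      have := ((Commute.refl a).pow_left i).inv_left.mul_left (h2 a ha ca)
      rwa [inv_mul_cancel_left] at this) fun h => nc h.symm
    have i0 : i = 0 := h3 a3 hi (by simpa [j0] using h2 b hb cb) nc
    rw [i0, j0, pow_zero, pow_zero, one_mul] at e
    obtain ⟨n, hn⟩ := P.isPGroup' ⟨c, hc⟩
    have c3 : c ^ 3 = 1 := eq_one_of_coprime (m := 2) (n := 3 ^ n) (Nat.Coprime.pow_right _ (by norm_num))
      (by rw [← pow_mul]; exact k.ker_six cw e)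
      (by rw [← pow_mul, mul_comm, pow_mul, show c ^ 3 ^ n = 1 from congrArg Subtype.val hn, one_pow])
    obtain ⟨i, -, e⟩ := k.ker_three cw e c3
    exact ⟨i, e⟩
  refine ⟨P, wP, fun s hs => ?_, cen⟩
  obtain ⟨c, hc, c1, -, h⟩ := exists_central P.isPGroup' wP k.ne
  obtain ⟨i, e⟩ := cen c hc h
  obtain ⟨j, e⟩ := pow_back k.three e c1
  rw [e]
  exact ((show Commute s c from h s hs).pow_right j).eq

end Ks

variable {G : Type*} [Group G] [Finite G]

/-- KS (file Ks.lean), 1 -/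
theorem ks0_of_hyp (x : G) (hx : orderOf x = 3)
    (hperf : ⁅(⊤ : Subgroup ↥(centralizer ({x} : Set G))), (⊤ : Subgroup ↥(centralizer ({x} : Set G)))⁆ = ⊤)
    (hZ : IsCyclic ↥(center ↥(centralizer ({x} : Set G))))
    (hZc : Nat.card ↥(center ↥(centralizer ({x} : Set G))) = 3 ∨ Nat.card ↥(center ↥(centralizer ({x} : Set G))) = 6)
    (e : ↥(centralizer ({x} : Set G)) ⧸ center ↥(centralizer ({x} : Set G)) ≃* ↥Spor.M22) :
    ∃ z θ, KS0 x z θ ∧ (Nat.card ↥(center ↥(centralizer ({x} : Set G))) = 6 → z ≠ 1) := by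
  classical
  obtain ⟨c0, hc0⟩ := hZ.exists_monoid_generator
  have ho : orderOf c0 = Nat.card (center (centralizer ({x} : Set G))) :=
    orderOf_eq_card_of_forall_mem_powers hc0
  set c : G := ((c0 : centralizer ({x} : Set G)) : G) with hc
  have hoc : orderOf c = orderOf c0 := by rw [hc, orderOf_coe, orderOf_coe]
  have c6 : c ^ 6 = 1 := orderOf_dvd_iff_pow_eq_one.1 (by rw [hoc, ho]; rcases hZc with h | h <;> rw [h] <;> norm_num)
  have x3 : x ^ 3 = 1 := hx ▸ pow_orderOf_eq_one x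
  have x1 : x ≠ 1 := by rintro rfl; simp at hx
  have cc : ∀ k, k * x = x * k → Commute k c := fun k hk =>
    congrArg Subtype.val (mem_center_iff.1 c0.2 ⟨k, mem_centralizer_singleton_iff.2 hk⟩)
  have hz : ∀ k : centralizer ({x} : Set G), k ∈ center _ → ∃ m : ℕ, (k : G) = c ^ m := fun k hk => by
    obtain ⟨m, hm⟩ := hc0 ⟨k, hk⟩
    exact ⟨m, (congrArg (fun t : center (centralizer ({x} : Set G)) => ((t : centralizer ({x} : Set G)) : G)) hm).symm⟩
  have hxx : x ∈ centralizer ({x} : Set G) := mem_centralizer_singleton_iff.2 rfl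
  have xz : (⟨x, hxx⟩ : centralizer ({x} : Set G)) ∈ center _ :=
    mem_center_iff.2 fun k => Subtype.ext (mem_centralizer_singleton_iff.1 k.2)
  obtain ⟨j, hj⟩ := hz _ xz
  obtain ⟨i, hi⟩ := Ks.pow_back (d := c ^ 2) (x := x) (by rw [← pow_mul, c6]) (m := j * 2) (by
    rw [← pow_mul, mul_comm 2, mul_assoc, pow_mul, ← hj]
    exact (by rw [show 2 * 2 = 3 + 1 from rfl, pow_succ, x3, one_mul])) x1
  have ec : c = c ^ 3 * x ^ (i * 2) := by
    rw [pow_mul, ← hi, ← pow_mul, ← pow_add, show 3 + 2 * 2 = 6 + 1 from rfl, pow_succ, c6, one_mul]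
  let f : centralizer ({x} : Set G) →* P24 :=
    Spor.M22.subtype.comp (e.toMonoidHom.comp (QuotientGroup.mk' _))
  have fk : ∀ k, f k = 1 ↔ k ∈ center _ := fun k => by
    rw [← QuotientGroup.eq_one_iff, ← e.map_eq_one_iff, Subtype.ext_iff]; rfl
  let θ : G → P24 := fun k => if h : k * x = x * k then f ⟨k, mem_centralizer_singleton_iff.2 h⟩ else 1
  have hθ : ∀ k (h : k * x = x * k), θ k = f ⟨k, mem_centralizer_singleton_iff.2 h⟩ := fun k h => dif_pos h
  refine ⟨c ^ 3, θ, ⟨x1, x3, by rw [← pow_add, c6], fun k hk => ((cc k hk).pow_right 3).eq, fun a b ha hb => ?_,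
    fun a ha => ?_, fun p hp h0 => ?_, fun k hk => ?_, ?_⟩, fun h6 h => ?_⟩
  · rw [hθ _ (comm_mul ha hb), hθ _ ha, hθ _ hb, ← map_mul]; rfl
  · rw [hθ _ ha]; exact mem_M22.1 (e _).2
  · obtain ⟨q, hq⟩ := e.surjective ⟨p, mem_M22.2 ⟨hp, h0⟩⟩
    obtain ⟨k, rfl⟩ := QuotientGroup.mk_surjective q
    exact ⟨k, mem_centralizer_singleton_iff.1 k.2, by
      rw [hθ _ (mem_centralizer_singleton_iff.1 k.2)]; exact congrArg Subtype.val hq⟩
  · rw [hθ _ hk, fk]
    constructor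
    · intro h
      obtain ⟨m, hm⟩ := hz _ h
      refine ⟨m, i * 2 * m, ?_⟩
      rw [pow_mul x, ← ((cc x rfl).symm.pow_pow 3 (i * 2)).mul_pow, ← ec]; exact hm
    · rintro ⟨a, b, rfl⟩
      refine mem_center_iff.2 fun k => Subtype.ext ?_
      have hk := mem_centralizer_singleton_iff.1 k.2
      exact ((((cc k hk).pow_right 3).pow_right a).mul_right ((show Commute (k : G) x from hk).pow_right b)).eq
  · rw [← map_subtype_commutator]
    exact ⟨⟨x, hxx⟩, by rw [SetLike.mem_coe, commutator_def, hperf]; trivial, rfl⟩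
  · have := orderOf_dvd_iff_pow_eq_one.2 h
    rw [hoc, ho, h6] at this
    norm_num at this

/-- KS, 2 -/
theorem KS0.exists_pa {x z : G} {θ : G → P24} (k : KS0 x z θ) (S : Sylow 3 G) (g : G)
    (hng : ((center ↥(S : Subgroup G)).map (S : Subgroup G).subtype).map (MulAut.conj g).toMonoidHom ≤ (S : Subgroup G))
    (hne : ((center ↥(S : Subgroup G)).map (S : Subgroup G).subtype).map (MulAut.conj g).toMonoidHom ≠
      (center ↥(S : Subgroup G)).map (S : Subgroup G).subtype) : ∃ y, Pa x y ∧ IsConj x y := by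
  have : Fact (Nat.Prime 3) := ⟨Nat.prime_three⟩
  obtain ⟨P, wP, hP, cen⟩ := Ks.exists_sylow k
  obtain ⟨h, rfl⟩ := MulAction.exists_smul_eq G P S
  have hZ : (center ↥((h • P : Sylow 3 G) : Subgroup G)).map ((h • P : Sylow 3 G) : Subgroup G).subtype =
      zpowers (h * x * h⁻¹) := by
    apply le_antisymm
    · rintro _ ⟨⟨c, hc⟩, h1, rfl⟩
      obtain ⟨i, e⟩ := cen _ (Ks.mem_smul.1 hc) fun s hs => by
        have := congrArg Subtype.val (mem_center_iff.1 h1 ⟨h * s * h⁻¹, Ks.mem_smul.2 (by simpa [mul_assoc] using hs)⟩)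
        simpa [mul_assoc] using comm_conj' (g := h⁻¹) (show h * s * h⁻¹ * c = c * (h * s * h⁻¹) from this)
      refine ⟨i, ?_⟩
      show (h * x * h⁻¹) ^ (i : ℤ) = c
      rw [zpow_natCast, conj_pow, ← e]; group
    · rw [zpowers_le]
      refine ⟨⟨h * x * h⁻¹, Ks.mem_smul.2 (by simpa [mul_assoc] using wP)⟩, mem_center_iff.2 fun s => Subtype.ext ?_, rfl⟩
      simpa [mul_assoc] using comm_conj' (g := h) (hP _ (Ks.mem_smul.1 s.2))
  rw [hZ, MonoidHom.map_zpowers] at hng hne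
  have h1 := Ks.mem_smul.1 (hng (mem_zpowers _))
  have e1 : h⁻¹ * (MulAut.conj g).toMonoidHom (h * x * h⁻¹) * h = h⁻¹ * g * h * x * (h⁻¹ * g * h)⁻¹ := by
    show h⁻¹ * (g * (h * x * h⁻¹) * g⁻¹) * h = _
    group
  rw [e1] at h1
  have k1 := Ks.conj0 k (h⁻¹ * g * h)
  refine ⟨_, ⟨k.ne, k.three, k1.three, hP _ h1, fun i e => hne ?_⟩, isConj_iff.2 ⟨_, rfl⟩⟩
  obtain ⟨j, e'⟩ := Ks.pow_back k.three e k1.ne
  have e2 : (MulAut.conj g).toMonoidHom (h * x * h⁻¹) = h * (h⁻¹ * g * h * x * (h⁻¹ * g * h)⁻¹) * h⁻¹ := by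
    rw [← e1]; group
  rw [e2]
  apply le_antisymm <;> rw [zpowers_le]
  · rw [e, ← conj_pow]; exact pow_mem (mem_zpowers _) _
  · conv_rhs => rw [e', ← conj_pow]
    exact pow_mem (mem_zpowers _) _

/-- KS, 3 -/
theorem KS0.exists_gl {x z y : G} {θ : G → P24} (k : KS0 x z θ) (p : Pa x y) (h : IsConj x y) :
    ∃ g : Gl G, g.zf x = z := by
  have : Fact (Nat.Prime 3) := ⟨Nat.prime_three⟩
  have h1 : ∀ a, Pa x a → IsConj x a := fun a ha => by
    obtain ⟨c, -, e⟩ := k.conj3 p ha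
    exact h.trans (isConj_iff.2 ⟨c, e⟩)
  have h2 : IsConj x x⁻¹ := by
    obtain ⟨c, e⟩ := isConj_iff.1 h
    refine (h1 _ (Ks.pa_inv p)).trans (isConj_iff.2 ⟨c⁻¹, ?_⟩)
    rw [← e]; group
  obtain ⟨n, hn⟩ := isConj_iff.1 h2
  obtain ⟨τ, k'⟩ := Ks.exists_ks k hn
  have h3 : ∀ a, a * x = x * a → a ≠ 1 → a ^ 3 = 1 → IsConj x a := fun a ha a1 a3 => by
    by_cases e : θ a = 1
    · obtain ⟨i, hi, rfl⟩ := k.ker_three ha e a3
      interval_cases i
      · exact absurd (pow_zero _) a1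
      · rw [pow_one]
      · rwa [show x ^ 2 = x⁻¹ by rw [eq_inv_iff_mul_eq_one, ← pow_succ, k.three]]
    · exact h1 a (k.pa_of_θ ha a3 e)
  obtain ⟨P, -, hP, -⟩ := Ks.exists_sylow k
  have h4 : ∀ w : G, w ≠ 1 → w ^ 3 = 1 → IsConj x w := fun w w1 w3 => by
    obtain ⟨Q, hQ⟩ := (Ks.pgroup_zpowers w3).exists_le_sylow
    obtain ⟨c, rfl⟩ := MulAction.exists_smul_eq G P Q
    refine (h3 _ (hP _ (Ks.mem_smul.1 (hQ (mem_zpowers w)))) (fun e => w1 ?_) ?_).trans (isConj_iff.2 ⟨c, by group⟩)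
    · calc w = c * (c⁻¹ * w * c) * c⁻¹ := by group
        _ = 1 := by rw [e]; simp
    · simpa [w3] using conj_pow (a := c⁻¹) (b := w) (i := 3)
  have ex : ∀ w : G, ∃ c : G, w ≠ 1 → w ^ 3 = 1 → c * x * c⁻¹ = w := fun w => by
    by_cases hw : w ≠ 1 ∧ w ^ 3 = 1
    · obtain ⟨c, e⟩ := isConj_iff.1 (h4 w hw.1 hw.2)
      exact ⟨c, fun _ _ => e⟩
    · exact ⟨1, fun a b => absurd ⟨a, b⟩ hw⟩
  choose c hc using ex
  refine ⟨⟨fun w => c w * z * (c w)⁻¹, fun w w1 w3 => ⟨_, by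
    have := Ks.conj k' (c w)
    rwa [hc w w1 w3] at this⟩, fun w w' a b a' b' => (h4 w a b).symm.trans (h4 w' a' b')⟩, ?_⟩
  show c x * z * (c x)⁻¹ = z
  rw [k.z_comm _ (mul_inv_eq_iff_eq_mul.1 (hc x k.ne k.three)), mul_inv_cancel_right]

/-- KS, 4: passage to `C(z) / ⟨z⟩` -/
theorem Gl.quot.{u} {G : Type u} [Group G] [Finite G] (g : Gl G) {x y : G} (p : Pa x y) (h : g.zf y = g.zf x) :
    ∃ (X : Type u) (_ : Group X) (_ : Finite X) (g' : Gl X) (x' y' : X), Pa x' y' ∧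
      ∀ w : X, w ≠ 1 → w ^ 3 = 1 → g'.zf w = 1 := by
  obtain ⟨θ, ⟨k, -⟩⟩ := g.ks x p.ne p.w3
  have y1 : y ≠ 1 := fun e => p.na 0 (e.trans (pow_zero _).symm)
  obtain ⟨c, hc⟩ := isConj_iff.1 (g.conj x y p.ne p.w3 y1 p.a3)
  have cz : c * g.zf x = g.zf x * c := by
    have := Ks.zf_conj g p.ne p.w3 c
    rw [hc, h] at this
    exact mul_inv_eq_iff_eq_mul.1 this.symm
  generalize g.zf x = z at k cz
  let C := centralizer ({z} : Set G)
  have mC : ∀ {a}, a * x = x * a → a ∈ C := fun ha => mem_centralizer_singleton_iff.2 (k.z_comm _ ha)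
  let z' : C := ⟨z, mC k.z_w⟩
  have zc : ∀ a : C, a * z' = z' * a := fun a => Subtype.ext (mem_centralizer_singleton_iff.1 a.2)
  have : (zpowers z').Normal := ⟨by
    rintro _ ⟨n, rfl⟩ a
    rw [((show Commute a z' from zc a).zpow_right n).eq, mul_inv_cancel_right]
    exact ⟨n, rfl⟩⟩
  let π := QuotientGroup.mk' (zpowers z')
  have hπ : ∀ a b : C, π a = π b ↔ ∃ i : ℕ, (a : G) = z ^ i * b := fun a b => by
    rw [← mul_inv_eq_one, ← map_inv, ← map_mul, QuotientGroup.mk'_apply, QuotientGroup.eq_one_iff,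
      ← mem_powers_iff_mem_zpowers]
    refine exists_congr fun i => ?_
    rw [eq_comm, mul_inv_eq_iff_eq_mul, Subtype.ext_iff]; rfl
  have three : ∀ a b : C, π a = π b → (a : G) ^ 3 = 1 → (b : G) ^ 3 = 1 → a = b := fun a b e a3 b3 => by
    obtain ⟨i, e⟩ := (hπ a b).1 e
    rw [e, ((show Commute (b : G) z from mem_centralizer_singleton_iff.1 b.2).symm.pow_left i).mul_pow, b3,
      mul_one] at a3
    rw [eq_one_of_coprime (by norm_num) a3 (k.z_sq i), one_mul] at e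
    exact Subtype.ext e
  let x' : C := ⟨x, mC rfl⟩
  let y' : C := ⟨y, mC p.comm⟩
  have cm : ∀ a : C, π a * π x' = π x' * π a ↔ (a : G) * x = x * a := fun a => by
    refine ⟨fun e => ?_, fun e => by rw [← map_mul, ← map_mul, show a * x' = x' * a from Subtype.ext e]⟩
    have := three (a * x' * a⁻¹) x' (by rw [map_mul, map_mul, e, map_inv, mul_inv_cancel_right])
      (by show ((a : G) * x * (a : G)⁻¹) ^ 3 = 1; rw [conj_pow, k.three]; simp) k.three
    exact mul_inv_eq_iff_eq_mul.1 (congrArg Subtype.val this)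
  have hs : Function.Surjective π := QuotientGroup.mk'_surjective _
  choose σ hσ using hs
  have hθ : ∀ a : C, (a : G) * x = x * a → θ (σ (π a)) = θ a := fun a ha => by
    obtain ⟨i, e⟩ := (hπ _ _).1 (hσ (π a))
    rw [e, k.mul _ _ (comm_pow k.z_w i) ha, k.θ_pow k.z_w, k.θ_z, one_pow, one_mul]
  have x3 : π x' ^ 3 = 1 := by rw [← map_pow, show x' ^ 3 = 1 from Subtype.ext k.three, map_one]
  have x1 : π x' ≠ 1 := fun e => k.ne (congrArg Subtype.val (three x' 1 (e.trans (map_one π).symm) k.three (one_pow _)))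
  have k' : KS0 (π x') 1 fun a => θ (σ a) := by
    refine ⟨x1, x3, one_mul _, fun a _ => by simp, fun a b ha hb => ?_, fun a ha => ?_, fun q hq h0 => ?_,
      fun a ha => ?_, ?_⟩
    · rw [← hσ a, cm] at ha
      rw [← hσ b, cm] at hb
      rw [← k.mul _ _ ha hb]
      conv_lhs => rw [← hσ a, ← hσ b, ← map_mul]
      exact hθ _ (comm_mul ha hb)
    · rw [← hσ a, cm] at ha
      exact k.mem _ ha
    · obtain ⟨a, ha, e⟩ := k.surj q hq h0
      exact ⟨π ⟨a, mC ha⟩, (cm _).2 ha, (hθ _ ha).trans e⟩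
    · rw [← hσ a, cm] at ha
      rw [k.ker _ ha]
      constructor
      · rintro ⟨i, j, e⟩
        exact ⟨0, j, by rw [one_pow, one_mul, ← map_pow, ← hσ a]; exact (hπ _ _).2 ⟨i, e⟩⟩
      · rintro ⟨i, j, e⟩
        rw [one_pow, one_mul, ← map_pow, ← hσ a] at e
        obtain ⟨i, e⟩ := (hπ _ _).1 e
        exact ⟨i, j, e⟩
    · let φ : centralizer ({x} : Set G) →* C ⧸ zpowers z' :=
        π.comp (inclusion fun a ha => mC (mem_centralizer_singleton_iff.1 ha))
      have h1 := k.perf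
      rw [← map_subtype_commutator] at h1
      obtain ⟨a, ha, e⟩ := h1
      have h2 := mem_map_of_mem φ ha
      rw [commutator_def, map_commutator] at h2
      have h3 : (⊤ : Subgroup _).map φ ≤ centralizer {π x'} := by
        rintro _ ⟨b, -, rfl⟩
        exact mem_centralizer_singleton_iff.2 ((cm _).2 (mem_centralizer_singleton_iff.1 b.2))
      have h4 : φ a = π x' := congrArg π (Subtype.ext e)
      exact h4 ▸ commutator_mono h3 h3 h2
  have p' : Pa (π x') (π y') := ⟨x1, x3, by rw [← map_pow, show y' ^ 3 = 1 from Subtype.ext p.a3, map_one],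
    (cm _).2 p.comm, fun i e => p.na i (congrArg Subtype.val
      (three y' (x' ^ i) (e.trans (map_pow π _ _).symm) p.a3 (k.w_cube i)))⟩
  obtain ⟨g', e⟩ := k'.exists_gl p' (isConj_iff.2 ⟨π ⟨c, mem_centralizer_singleton_iff.2 cz⟩, by
    rw [← map_inv, ← map_mul, ← map_mul]; exact congrArg π (Subtype.ext hc)⟩)
  refine ⟨_, inferInstance, inferInstance, g', _, _, p', fun w w1 w3 => ?_⟩
  obtain ⟨d, rfl⟩ := isConj_iff.1 (g'.conj _ w x1 x3 w1 w3)
  rw [Ks.zf_conj g' x1 x3, e]; simp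

end CfsgLib.J4X
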