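import Mathlib
import Cfsg.Agent.Lib.J4X.Loc
import Cfsg.Agent.Lib.J4X.DichA
import Cfsg.Agent.Lib.Sect.Tools
import Cfsg.Agent.Lib.ClassSz.Isaacs

/-!
# `NoneC` is impossible if all centralisers of elements of order 3 are `3.M22`
-/

set_option autoImplicit false

namespace CfsgLib.J4X

open Cfsg CfsgLib.Golay CfsgLib.M24E CfsgLib.J4T CfsgLib.J4T.G3 Subgroup CfsgLib.Tech

variable {G : Type*} [Group G]

namespace NA

/-- an involution of `M22` centralising `qI` -/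
def qG : ℕ := 0xbd0369b86f849a82a92c3896489aa0
/-- action of `qG` -/
def fG : List ℕ := [0, 1, 2, 3, 7, 6, 5, 4, 9, 8, 11, 10, 14, 15, 12, 13]

theorem actF_G : actF qG fG = true := by decide +kernel
theorem is22_G : is22 qG = true := by decide +kernel
theorem rp_G : Rp (ap qG) (pm qG) := pm_rp (is22_spec is22_G).1
theorem GG : pm qG * pm qG = 1 := (rp_G.mul rp_G).isId_iff.1 (by decide +kernel)
theorem II : pm qI * pm qI = 1 := ((pm_rp isM_I).mul (pm_rp isM_I)).isId_iff.1 (by decide +kernel)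
theorem IG : pm qI * pm qG = pm qG * pm qI := ((pm_rp isM_I).intw_iff rp_G rp_G).1 (by decide +kernel)

theorem srch {g : P24} (hg : g ∈ DD) (h1 : g * pm (uE 1) = pm (uE 1) * g) (h3 : g * pm (uE 3) = pm (uE 3) * g) :
    (g * pm (uE 6) = pm (uE 6) * g → ∃ f < 16, g = pm (uE f) ∨ g = pm qI * pm (uE f)) ∧
      (g * pm (uE 6) = pm (uE 5) * g → ∀ j < 16, 8 ≤ j → g * pm (uE j) ≠ pm (uE j) * g) := by
  obtain ⟨q, hq, h⟩ := cU_spec (good := fun q => or (not (intw (ap q) (ap (uE 3)) (ap (uE 3))))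
    (and (or (not (intw (ap q) (ap (uE 6)) (ap (uE 6)))) (not (allLT 16 fun f => not (or (eqF (ap q) (ap (uE f)))
        (eqF (ap q) fun x => ap qI (ap (uE f) x))))))
      (or (not (intw (ap q) (ap (uE 6)) (ap (uE 5)))) (allLT 16 fun j =>
        or (Nat.blt j 8) (not (intw (ap q) (ap (uE j)) (ap (uE j)))))))) (by decide +kernel) hg h1
  rw [(hq.intw_iff (rp_uE (by norm_num)) (rp_uE (by norm_num))).2 h3, Bool.not_true, Bool.false_or,
    Bool.and_eq_true] at h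
  refine ⟨fun e => ?_, fun e j hj h8 e' => ?_⟩
  · have h2 := h.1
    rw [(hq.intw_iff (rp_uE (by norm_num)) (rp_uE (by norm_num))).2 e, Bool.not_true, Bool.false_or] at h2
    obtain ⟨f, hf, h4⟩ := exists_of_not_allLT h2
    exact ⟨f, hf, (Bool.or_eq_true_iff.1 h4).imp (hq.eqF_iff (rp_uE hf)).1 (hq.eqF_iff ((pm_rp isM_I).mul (rp_uE hf))).1⟩
  · have h2 := h.2
    rw [(hq.intw_iff (rp_uE (by norm_num)) (rp_uE (by norm_num))).2 e, Bool.not_true, Bool.false_or] at h2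
    have h4 := of_allLT h2 hj
    rw [(hq.intw_iff (rp_uE hj) (rp_uE hj)).2 e', Bool.not_true, Bool.or_false, Nat.blt_eq] at h4
    omega

/-- a fixed-point-free automorphism of a four-group -/
theorem cyc {P : G → Prop} {a b r : G} (hP : ∀ u, P u → u = 1 ∨ u = a ∨ u = b ∨ u = a * b) (ha : P a) (hb : P b)
    (hab : P (a * b)) (aa : a * a = 1) (bb : b * b = 1) (ba : b * a = a * b) (a1 : a ≠ 1) (b1 : b ≠ 1) (n : a * b ≠ 1)
    (hr : ∀ u, P u → P (r * u * r⁻¹)) (hf : ∀ u, P u → r * u * r⁻¹ = u → u = 1) :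
    ∃ ρ, (ρ = r ∨ ρ = r⁻¹) ∧ ρ * a * ρ⁻¹ = b ∧ ρ * b * ρ⁻¹ = a * b := by
  have h1 : r * a * r⁻¹ * (r * b * r⁻¹) ≠ 1 := by rwa [conj_mul, Ne, conj_eq_one_iff]
  have h2 : r * a * r⁻¹ * (r * b * r⁻¹) ≠ a * b := by rw [conj_mul]; exact fun e => n (hf _ hab e)
  rcases hP _ (hr a ha) with e | e | e | e
  · exact absurd (conj_eq_one_iff.1 e) a1
  · exact absurd (hf a ha e) a1
  all_goals rcases hP _ (hr b hb) with e' | e' | e' | e'
  · exact absurd (conj_eq_one_iff.1 e') b1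
  · exact absurd (by rw [e, e', ba]) h2
  · exact absurd (hf b hb e') b1
  · exact ⟨r, Or.inl rfl, e, e'⟩
  · exact absurd (conj_eq_one_iff.1 e') b1
  rotate_left
  · exact absurd (hf b hb e') b1
  · exact absurd (by rw [e, e', mul_assoc, ← mul_assoc b, ba, mul_assoc, bb, mul_one, aa]) h1
  · refine ⟨r⁻¹, Or.inr rfl, by rw [← e']; group, ?_⟩
    have : b = r * a * r⁻¹ * (r * b * r⁻¹) := by rw [e, e', mul_assoc, ba, ← mul_assoc, aa, one_mul]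
    conv_lhs => rw [this]
    group

/-- the lifts of the elements of the hexad group -/
structure Lf (w a : G) (θ : G → P24) (L : ℕ → G) : Prop where
  m : Fm w a 1 θ
  F : ∀ i < 16, InF (AA w a) w (L i)
  th : ∀ i < 16, θ (L i) = pm (uE i)

theorem exists_Lf {w a : G} {θ : G → P24} (m : Fm w a 1 θ) : ∃ L, Lf w a θ L := by
  have h : ∀ i, ∃ f, i < 16 → InF (AA w a) w f ∧ θ f = pm (uE i) := fun i => by
    by_cases hi : i < 16
    · obtain ⟨f, h1, h2, h3⟩ := m.ks.exists_lift2 (uE_mem hi) (uE_in hi) (uE_sq hi)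
      exact ⟨f, fun _ => ⟨m.F_iff.2 ⟨h1, h3, i, hi, h2⟩, h2⟩⟩
    · exact ⟨1, fun e => absurd e hi⟩
  choose L hL using h
  exact ⟨L, m, fun i hi => (hL i hi).1, fun i hi => (hL i hi).2⟩

namespace Lf

variable {w a k f : G} {θ : G → P24} {L : ℕ → G} {i j : ℕ} (l : Lf w a θ L)
include l

theorem sq (hi : i < 16) : L i * L i = 1 := (l.F i hi).2.2

theorem N (hi : i < 16) : L i ∈ N3 w := N3_of_comm (l.F i hi).1

theorem uniq {g : G} (h1 : f * w = w * f) (h2 : f * f = 1) (h3 : g * w = w * g) (h4 : g * g = 1) (e : θ f = θ g) :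
    f = g := by
  simpa using l.m.ks.eq_of_two h1 h3 e (n := 1) (by rwa [pow_one, pow_two]) (by rwa [pow_one, pow_two])

theorem eq_L (hi : i < 16) (h1 : f * w = w * f) (h2 : f * f = 1) (e : θ f = pm (uE i)) : f = L i :=
  l.uniq h1 h2 (l.F i hi).1 (l.sq hi) (e.trans (l.th i hi).symm)

theorem ex (hf : InF (AA w a) w f) : ∃ i < 16, f = L i := by
  obtain ⟨h1, h2, i, hi, e⟩ := l.m.F_iff.1 hf
  exact ⟨i, hi, l.eq_L hi h1 h2 e⟩

theorem mul (hi : i < 16) (hj : j < 16) : L i * L j = L (i ^^^ j) :=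
  have h := l.m.F_mul (l.F i hi) (l.F j hj)
  l.eq_L (xor16 hi hj) h.1 h.2.2 (by rw [l.m.ks.mul _ _ (l.F i hi).1 (l.F j hj).1, l.th i hi, l.th j hj, uE_mul hi hj])

theorem zero : L 0 = 1 := (l.eq_L (by norm_num) (by simp) (by simp) (l.m.ks.θ_one.trans uE_one.symm)).symm

theorem inj (hi : i < 16) (hj : j < 16) (e : L i = L j) : i = j :=
  uE_injective hi hj (by rw [← l.th i hi, e, l.th j hj])

theorem conj (hk : k ∈ N3 w) {p : ℕ} {σ : List ℕ} (h : actF p σ = true) (e : θ k = pm p) (hi : i < 16) :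
    k * L i * k⁻¹ = L (σ.getD i 0) :=
  l.eq_L (actF_spec h hi).1 (N3_comm hk (l.F i hi).1) (by rw [conj_mul, l.sq hi, mul_one, mul_inv_cancel])
    (by rw [l.m.ks.θ_conj2 hk (l.N hi), e, l.th i hi, (actF_spec h hi).2])

theorem conj' (hk : k ∈ N3 w) (hi : i < 16) (hj : j < 16) (e : k * L i * k⁻¹ = L j) :
    θ k * pm (uE i) = pm (uE j) * θ k := by
  rw [← l.th j hj, ← e, l.m.ks.θ_conj2 hk (l.N hi), l.th i hi, inv_mul_cancel_right]

theorem U_iff : InU (AA w a) f ↔ ∃ i ∈ [0, 1, 6, 7], f = L i := by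
  have hl : ∀ i ∈ [0, 1, 6, 7], i < 16 := by decide
  rw [l.m.U_iff]
  constructor
  · rintro ⟨h1, h2, i, hi, e⟩
    exact ⟨i, hi, l.eq_L (hl i hi) h1 h2 e⟩
  · rintro ⟨i, hi, rfl⟩
    exact ⟨(l.F i (hl i hi)).1, l.sq (hl i hi), i, hi, l.th i (hl i hi)⟩

theorem exists_r [Finite G] : ∃ r, r * w = w * r ∧ r * a * r⁻¹ = a * w ∧ Cj r (AA w a) (AA w a) ∧
    ∀ u, InU (AA w a) u → r * u * r⁻¹ = u → u = 1 := by
  obtain ⟨r, h1, -, h2, h3⟩ := l.m.ks.exists_r l.m.pa.comm l.m.pa.a3 l.m.θa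
  refine ⟨r, h1, h2, l.m.pa.cj_self (by rw [h1, mul_inv_cancel_right]; exact l.m.pa.w_mem)
    (h2 ▸ mul_mem l.m.pa.a_mem l.m.pa.w_mem), fun u hu e => ?_⟩
  obtain ⟨i, hi, rfl⟩ := l.U_iff.1 hu
  obtain ⟨hl, h4⟩ := (by decide : ∀ i ∈ [0, 1, 6, 7], i < 16 ∧ (fB.getD i 0 = i → i = 0)) i hi
  have h5 : Commute (θ r) (pm (uE i)) := l.conj' (N3_of_comm h1) hl hl e
  have h6 : Commute (pm qB) (pm (uE i)) := by
    rcases h3 with e | e <;> rw [e] at h5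
    exacts [h5, Commute.inv_left_iff.1 h5]
  rw [h4 (uE_injective (actF_spec actF_B hl).1 hl (by rw [← (actF_spec actF_B hl).2, h6.eq, mul_inv_cancel_right])),
    l.zero]

theorem cyc {r : G} (h : Cj r (AA w a) (AA w a)) (hf : ∀ u, InU (AA w a) u → r * u * r⁻¹ = u → u = 1) :
    ∃ ρ, (ρ = r ∨ ρ = r⁻¹) ∧ ρ * L 1 * ρ⁻¹ = L 6 ∧ ρ * L 6 * ρ⁻¹ = L 1 * L 6 := by
  have e : L 1 * L 6 = L 7 := l.mul (by norm_num) (by norm_num)
  have n : ∀ i < 16, i ≠ 0 → L i ≠ 1 := fun i hi h e => h (l.inj hi (by norm_num) (e.trans l.zero.symm))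
  refine NA.cyc (P := InU (AA w a)) (fun u hu => ?_) (l.U_iff.2 ⟨1, by simp, rfl⟩) (l.U_iff.2 ⟨6, by simp, rfl⟩)
    (l.U_iff.2 ⟨7, by simp, e⟩) (l.sq (by norm_num)) (l.sq (by norm_num))
    (e ▸ l.mul (by norm_num) (by norm_num)) (n _ (by norm_num) (by norm_num)) (n _ (by norm_num) (by norm_num))
    (e ▸ n _ (by norm_num) (by norm_num)) (fun _ => InU.conj h) hf
  simpa [e, l.zero] using l.U_iff.1 hu

/-- the normaliser of `F` -/
theorem norm [Finite G] (hn : NoneC (AA w a)) (hj : j < 16) (h8 : 8 ≤ j) (h1 : ∀ i < 8, InF (AA w a) w (k * L i * k⁻¹))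
    (h2 : InF (AA w a) w (k * L j * k⁻¹)) : k ∈ N3 w := by
  obtain ⟨F, hF, -⟩ := l.m.exists_F
  have hk : k ∈ normalizer (F : Set G) := mem_normalizer_of_forall fun f hf => (hF _).2 (by
    obtain ⟨i, hi, rfl⟩ := l.ex ((hF f).1 hf)
    rcases (by decide : ∀ j < 16, 8 ≤ j → ∀ i < 16, i < 8 ∨ j ^^^ i < 8 ∧ j ^^^ (j ^^^ i) = i) j hj h8 i hi with e | e
    · exact h1 i e
    · rw [← e.2, ← l.mul hj (xor16 hj hi), ← conj_mul]
      exact l.m.F_mul h2 (h1 _ e.1))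
  have h3 : ∀ f, InF (AA w a) w f → k * w * k⁻¹ * f = f * (k * w * k⁻¹) := fun f hf => by
    have := comm_conj' (g := k) ((hF _).1 (conj_mem_of_mem_normalizer' hk ((hF f).2 hf))).1
    rwa [show k * (k⁻¹ * f * k) * k⁻¹ = f by group, eq_comm] at this
  obtain ⟨f, hf, i, e⟩ := hn w l.m.pa.w_mem l.m.pa.ne _ (fun u hu => h3 u (l.m.U_F hu)) fun f hf => by
    rw [h3 f hf, mul_inv_cancel_right, mul_inv_cancel]
    exact ⟨by simp, by simp⟩
  have h4 := Di.eq_pow_of_three l.m.pa.w3 hf.1 hf.2.2 e (k := 1) (by rw [pow_one, conj_pow, l.m.pa.w3]; simp)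
  rcases Di.pow_cases l.m.pa.w3 i with e | e | e <;> rw [e] at h4
  exacts [absurd (conj_eq_one_iff.1 h4) l.m.pa.ne, Or.inl h4, Or.inr h4]

theorem exists_ι : ∃ ι, ι * w * ι⁻¹ = w⁻¹ ∧ ι * ι = 1 ∧ θ ι = pm qI := by
  obtain ⟨ι, h1, h2⟩ := l.m.ks.surj2 _ I_DD
  have h3 : ι * w * ι⁻¹ = w⁻¹ := h1.resolve_left fun e => I_outer (h2 ▸ (l.m.ks.mem ι (mul_inv_eq_iff_eq_mul.1 e)).2)
  obtain ⟨b, i, e⟩ := l.m.ks.ker2 (mul_mem h1 h1) (by rw [l.m.ks.mul2 _ h1 _ h1, h2, II])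
  rw [one_pow, one_mul] at e
  refine ⟨ι, h3, eq_one_of_coprime (m := 2) (n := 3) (by norm_num) ?_ (by rw [e, ← pow_mul, mul_comm, pow_mul, l.m.pa.w3, one_pow]), h2⟩
  have : ι * w ^ i * ι⁻¹ = (w ^ i)⁻¹ := by rw [← conj_pow, h3, inv_pow]
  rwa [← e, ← mul_assoc, mul_inv_cancel_right, eq_inv_iff_mul_eq_one, ← pow_two] at this

/-- a Sylow 2-subgroup of `C(U)` -/
theorem exists_sylow [Finite G] (hn : NoneC (AA w a)) {U : Subgroup G} (hU : ∀ u, u ∈ U ↔ InU (AA w a) u) :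
    ∃ P, IsSylowIn 2 P (centralizer (U : Set G)) ∧ Nat.card P ≤ 32 ∧ ∀ i < 16, L i ∈ P := by
  obtain ⟨F, hF, cF⟩ := l.m.exists_F
  obtain ⟨ι, ιw, ιι, ιθ⟩ := l.exists_ι
  have ιi : ι⁻¹ = ι := inv_eq_of_mul_eq_one_right ιι
  have ιN : ι ∈ N3 w := Or.inr ιw
  have ιL : ∀ i < 16, ι * L i * ι⁻¹ = L (fI.getD i 0) := fun i => l.conj ιN actF_I ιθ
  have LF : ∀ i < 16, L i ∈ F := fun i hi => (hF _).2 (l.F i hi)
  have hP : ∀ c, c ∈ zpowers ι ⊔ F ↔ ∃ i < 16, c = L i ∨ c = ι * L i := fun c => by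
    rw [Sect.mem_sup_of_norm fun b hb f hf => ?_]
    · simp only [Sect.mem_zpowers_two ιι, hF]
      constructor
      · rintro ⟨b, hb, f, hf, rfl⟩
        obtain ⟨i, hi, rfl⟩ := l.ex hf
        exact ⟨i, hi, hb.imp (fun e => by simp [e]) fun e => by rw [e]⟩
      · rintro ⟨i, hi, rfl | rfl⟩
        exacts [⟨1, Or.inl rfl, _, l.F i hi, (one_mul _).symm⟩, ⟨ι, Or.inr rfl, _, l.F i hi, rfl⟩]
    · obtain ⟨i, hi, rfl⟩ := l.ex ((hF f).1 hf)
      rcases (Sect.mem_zpowers_two ιι).1 hb with rfl | rfl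
      exacts [by simpa using hf, ιL i hi ▸ LF _ (actF_spec actF_I hi).1]
  have sq : ∀ i < 16, ι * L i * (ι * L i) = L (fI.getD i 0 ^^^ i) := fun i hi => by
    rw [← l.mul (actF_spec actF_I hi).1 hi, ← ιL i hi, ιi, mul_assoc (ι * L i)]
  have sq' : ∀ c ∈ zpowers ι ⊔ F, c * c = 1 ∨ c * c = L 3 := fun c hc => by
    obtain ⟨i, hi, rfl | rfl⟩ := (hP c).1 hc
    · exact Or.inl (l.sq hi)
    · rw [sq i hi, ← l.zero]
      exact ((by decide : ∀ i < 16, fI.getD i 0 ^^^ i = 0 ∨ fI.getD i 0 ^^^ i = 3) i hi).imp (congrArg L) (congrArg L)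
  have p2 : IsPGroup 2 (zpowers ι ⊔ F : Subgroup G) := isPGroup_iff_mem.2 fun c hc => ⟨2, by
    rw [pow_two, pow_mul, pow_two, pow_two]
    rcases sq' c hc with e | e <;> rw [e]
    exacts [one_mul 1, l.sq (by norm_num)]⟩
  have PC : zpowers ι ⊔ F ≤ centralizer (U : Set G) := sup_le (zpowers_le.2 fun u hu => by
    obtain ⟨i, hi, rfl⟩ := l.U_iff.1 ((hU u).1 hu)
    obtain ⟨h1, h2⟩ := (by decide : ∀ i ∈ [0, 1, 6, 7], i < 16 ∧ fI.getD i 0 = i) i hi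
    exact (mul_inv_eq_iff_eq_mul.1 ((ιL i h1).trans (congrArg L h2))).symm)
    fun f hf u hu => (((hF f).1 hf).2.1 u ((hU u).1 hu)).symm
  refine ⟨zpowers ι ⊔ F, by_contra fun hS => ?_, ?_, fun i hi => mem_sup_right (LF i hi)⟩
  swap
  · have h1 := Sect.relIndex_le_two (L := F) (H := zpowers ι ⊔ F) fun b hb c hc h1 h2 => by
      obtain ⟨i, hi, rfl | rfl⟩ := (hP b).1 hb
      · exact absurd (LF i hi) h1
      obtain ⟨j, hj, rfl | rfl⟩ := (hP c).1 hc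
      exacts [absurd (LF j hj) h2, by simpa [mul_assoc] using mul_mem (inv_mem (LF i hi)) (LF j hj)]
    rw [← card_mul_relIndex' (le_sup_right : F ≤ zpowers ι ⊔ F), cF, orderOf_one]
    omega
  obtain ⟨R, -, hlt, hRK, hRN⟩ := exists_lt_pgroup_normalizer p2 PC hS
  refine hlt.not_ge fun s hs => ?_
  have sN := hRN hs
  have s3 : s * L 3 * s⁻¹ = L 3 := by
    have e : ι * L 8 * (ι * L 8) = L 3 := sq 8 (by norm_num)
    have := sq' _ (conj_mem_of_mem_normalizer sN ((hP _).2 ⟨8, by norm_num, Or.inr rfl⟩))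
    rw [conj_mul, e, conj_eq_one_iff, ← l.zero] at this
    exact this.resolve_left fun e => absurd (l.inj (by norm_num) (by norm_num) e) (by norm_num)
  have sU : ∀ i ∈ [0, 1, 6, 7], s * L i * s⁻¹ = L i := fun i hi =>
    mul_inv_eq_iff_eq_mul.2 (hRK hs _ ((hU _).2 (l.U_iff.2 ⟨i, hi, rfl⟩))).symm
  have sV : ∀ i < 8, s * L i * s⁻¹ = L i := fun i hi => by
    rcases (by decide : ∀ i < 8, i ∈ [0, 1, 6, 7] ∨ 3 ^^^ i ∈ [0, 1, 6, 7] ∧ 3 ^^^ i < 16 ∧ 3 ^^^ (3 ^^^ i) = i) i hi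
      with e | e
    · exact sU i e
    · rw [← e.2.2, ← l.mul (by norm_num) e.2.1, ← conj_mul, s3, sU _ e.1]
  obtain ⟨i, hi, e | e⟩ := (hP _).1 (conj_mem_of_mem_normalizer sN (mem_sup_right (LF 8 (by norm_num))))
  · have h1 : s ∈ N3 w := l.norm hn (j := 8) (by norm_num) le_rfl
      (fun i hi => (sV i hi).symm ▸ l.F i (by omega)) (e ▸ l.F i hi)
    obtain ⟨p, hp, pN, e⟩ : ∃ p ∈ zpowers ι ⊔ F, p ∈ N3 w ∧ θ s = θ p := by
      obtain ⟨j, hj, e | e⟩ := (srch (l.m.ks.mem2 s h1) (l.conj' h1 (by norm_num) (by norm_num) (sV 1 (by norm_num)))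
        (l.conj' h1 (by norm_num) (by norm_num) s3)).1 (l.conj' h1 (by norm_num) (by norm_num) (sV 6 (by norm_num)))
      · exact ⟨_, (hP _).2 ⟨j, hj, Or.inl rfl⟩, l.N hj, e.trans (l.th j hj).symm⟩
      · exact ⟨_, (hP _).2 ⟨j, hj, Or.inr rfl⟩, mul_mem ιN (l.N hj), by
          rw [l.m.ks.mul2 _ ιN _ (l.N hj), ιθ, l.th j hj, e]⟩
    obtain ⟨b, n, e⟩ := l.m.ks.ker2 (mul_mem h1 (inv_mem pN)) (by
      rw [l.m.ks.mul2 _ h1 _ (inv_mem pN), l.m.ks.θ_inv2 pN, e, mul_inv_cancel])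
    rw [one_pow, one_mul] at e
    have h2 := mul_mem (conj_mem_of_mem_normalizer (mul_mem sN (inv_mem (le_normalizer hp)))
      (mem_sup_left (mem_zpowers ι))) (inv_mem (mem_sup_left (mem_zpowers ι)))
    rw [e, mul_assoc, mul_assoc, ← mul_assoc ι, ← conj_inv, ← conj_pow, ιw, inv_pow, inv_inv] at h2
    have h3 := mul_mem h2 h2
    rw [← pow_two, ← pow_two, ← pow_mul, show 2 * 2 = 3 + 1 from rfl, pow_succ, ← pow_mul, mul_comm n, pow_mul,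
      l.m.pa.w3, one_pow, one_mul, ← e] at h3
    exact (mul_mem_cancel_right (inv_mem hp)).1 h3
  · have i8 : i < 8 := (by decide : ∀ i < 16, fI.getD i 0 ^^^ i = 0 → i < 8) i hi (l.inj
      (xor16 (actF_spec actF_I hi).1 hi) (by norm_num) (by
        rw [← sq i hi, ← e, conj_mul, l.sq (by norm_num), l.zero, mul_one, mul_inv_cancel]))
    have e1 : s * L (8 ^^^ i) * s⁻¹ = ι := by
      rw [← l.mul (by norm_num) hi, ← conj_mul, e, sV i i8, mul_assoc, l.sq hi, mul_one]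
    obtain ⟨j8, j16⟩ := (by decide : ∀ i < 8, 8 ≤ 8 ^^^ i ∧ 8 ^^^ i < 16) i i8
    obtain ⟨g, gw, gθ, gg⟩ := l.m.ks.exists_lift2 (is22_spec is22_G).2.1 (is22_spec is22_G).2.2 GG
    have gι : ι * g * ι⁻¹ = g := l.uniq (N3_comm ιN gw) (by rw [conj_mul, gg, mul_one, mul_inv_cancel]) gw gg
      (by rw [l.m.ks.θ_conj2 ιN (N3_of_comm gw), ιθ, gθ, IG, mul_inv_cancel_right])
    have h1 : ∀ i < 8, s⁻¹ * g * s * L i * (s⁻¹ * g * s)⁻¹ = L (fG.getD i 0) := fun i hi => by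
      calc _ = s⁻¹ * (g * (s * L i * s⁻¹) * g⁻¹) * s := by group
        _ = _ := by
          rw [sV i hi, l.conj (N3_of_comm gw) actF_G gθ (by omega), mul_assoc,
            ← mul_inv_eq_iff_eq_mul.1 (sV _ ((by decide : ∀ i < 8, fG.getD i 0 < 8) i hi)), inv_mul_cancel_left]
    have h2 : s⁻¹ * g * s * L (8 ^^^ i) * (s⁻¹ * g * s)⁻¹ = L (8 ^^^ i) := by
      calc _ = s⁻¹ * (g * (s * L (8 ^^^ i) * s⁻¹) * g⁻¹) * s := by group
        _ = _ := by rw [e1, ← mul_inv_eq_iff_eq_mul.1 gι, mul_inv_cancel_right, ← e1]; group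
    have h3 : s⁻¹ * g * s ∈ N3 w := l.norm hn j16 j8
      (fun i hi => (h1 i hi).symm ▸ l.F _ (actF_spec actF_G (by omega)).1) (h2.symm ▸ l.F _ j16)
    exact absurd (l.conj' h3 j16 j16 h2) ((srch (l.m.ks.mem2 _ h3)
      (l.conj' h3 (by norm_num) (by norm_num) (h1 1 (by norm_num)))
      (l.conj' h3 (by norm_num) (by norm_num) (h1 3 (by norm_num)))).2
      (l.conj' h3 (by norm_num) (by norm_num) (h1 6 (by norm_num))) _ j16 j8)

end Lf

/-- an involution normalising `A` and centralising `U` lies in `U` or inverts `A` -/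
theorem inverts (g : Gl G) {x y f b : G} (p : Pa x y) (h1 : Cj f (AA x y) (AA x y))
    (h2 : ∀ u, InU (AA x y) u → f * u = u * f) (ff : f * f = 1) (hn : ¬ InU (AA x y) f) (hb : b ∈ AA x y) :
    f * b * f⁻¹ = b⁻¹ := by
  by_contra h
  have h3 := mul_mem hb ((h1 b).1 hb)
  obtain ⟨a, q, e⟩ := p.exists_a h3 fun e => h (eq_inv_of_mul_eq_one_right e)
  obtain ⟨θ, m⟩ := g.fm q
  have hf : InF (AA x y) (b * (f * b * f⁻¹)) f := ⟨by
    calc _ = f * b * f⁻¹ * (f * f * b * (f * f)⁻¹) * f := by group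
      _ = _ := by rw [ff, one_mul, inv_one, mul_one, p.A_comm ((h1 b).1 hb) hb], h2, ff⟩
  generalize b * (f * b * f⁻¹) = w at q e m hf
  rw [← e] at h1 hf hn
  have h4 := InF.conj (q.cj_self (g := a) (by rw [q.comm, mul_inv_cancel_right]; exact q.w_mem) (by simpa using q.a_mem)) hf
  rw [q.comm, mul_inv_cancel_right] at h4
  have h5 : a * f * a⁻¹ * f = 1 := eq_one_of_coprime (m := 2) (n := 3) (by norm_num)
    (by rw [pow_two]; exact (m.F_mul h4 hf).2.2) (q.A_three (by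
      simpa [inv_eq_of_mul_eq_one_right ff, mul_assoc] using mul_mem q.a_mem ((h1 _).1 (inv_mem q.a_mem))))
  have h6 : Commute f a := by
    rw [mul_eq_one_iff_eq_inv, inv_eq_of_mul_eq_one_right ff, mul_inv_eq_iff_eq_mul] at h5
    exact h5.symm
  refine hn ⟨fun c hc => ?_, ff⟩
  obtain ⟨i, -, j, -, rfl⟩ := q.mem_AA.1 hc
  exact ((Commute.pow_right hf.1 i).mul_right (h6.pow_right j)).eq

end NA

open NA in
theorem Gl.noneA [Finite G] (g : Gl G) {x y : G} (p : Pa x y) (h : ∀ w : G, w ≠ 1 → w ^ 3 = 1 → g.zf w = 1) :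
    ¬ NoneC (AA x y) := fun hn => by
  obtain ⟨θ, m⟩ := g.fm p
  obtain ⟨θ', m'⟩ := g.fm p.symm
  rw [h x p.ne p.w3] at m
  rw [h y p.a_ne p.a3] at m'
  obtain ⟨L, l⟩ := exists_Lf m
  obtain ⟨L', l'⟩ := exists_Lf m'
  obtain ⟨r, rx, ry, rA, rf⟩ := l.exists_r
  obtain ⟨t, ty, tx, tA, tf⟩ := l'.exists_r
  rw [show AA y x = AA x y by rw [AA, AA, Set.pair_comm]] at tA tf
  obtain ⟨U, hU, cU⟩ := m.exists_U
  obtain ⟨P, hP, cP, LP⟩ := l.exists_sylow hn hU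
  obtain ⟨N, hN⟩ : ∃ N, N = normalizer (AA x y : Set G) ⊓ centralizer (U : Set G) := ⟨_, rfl⟩
  obtain ⟨O, hO⟩ : ∃ O, O = {z | ∃ e ∈ N, e * x * e⁻¹ = z} := ⟨_, rfl⟩
  have cN : ∀ k, Cj k (AA x y) (AA x y) → ∀ c ∈ N, k * c * k⁻¹ ∈ N := fun k hk c hc => by
    rw [hN] at hc ⊢
    have h1 : k ∈ normalizer (AA x y : Set G) := hk
    refine mem_inf.2 ⟨mul_mem (mul_mem h1 hc.1) (inv_mem h1), fun u hu => ?_⟩
    have := comm_conj' (g := k) (hc.2 _ ((hU _).2 (((hU u).1 hu).conj hk.symm)))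
    rwa [show k * (k⁻¹ * u * k⁻¹⁻¹) * k⁻¹ = u by group] at this
  have cO : ∀ k, Cj k (AA x y) (AA x y) → ∀ b ∈ O, k * b * k⁻¹ = b → ∀ c ∈ O, k * c * k⁻¹ ∈ O := by
    rw [hO]
    rintro k hk _ ⟨b, hb, rfl⟩ e _ ⟨c, hc, rfl⟩
    refine ⟨_, mul_mem (cN k hk _ (mul_mem hc (inv_mem hb))) hb, ?_⟩
    calc _ = k * (c * b⁻¹) * k⁻¹ * (b * x * b⁻¹) * (k * (c * b⁻¹) * k⁻¹)⁻¹ := by group
      _ = _ := by rw [← e]; group
  have xO : x ∈ O := hO ▸ ⟨1, one_mem _, by simp⟩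
  have rx' : r * x * r⁻¹ = x := by rw [rx, mul_inv_cancel_right]
  have ty' : t * y * t⁻¹ = y := by rw [ty, mul_inv_cancel_right]
  have xy : Commute x y := p.comm.symm
  have r1 : ∀ i j, x ^ i * y ^ j ∈ O → x ^ ((i + j) % 3) * y ^ j ∈ O := fun i j h => by
    have := cO r rA x xO rx' _ h
    rwa [← conj_mul, ← conj_pow, ← conj_pow, rx', ry, ← xy.eq, xy.mul_pow, ← mul_assoc, ← pow_add,
      ← pow_mod3 p.w3] at this
  have h1 : x ^ 1 * y ^ 1 ∈ O ∨ x ^ 1 * y ^ 2 ∈ O := by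
    obtain ⟨ρ, hρ, e1, e2⟩ := l.cyc rA rf
    obtain ⟨τ, hτ, e3, e4⟩ := l.cyc tA tf
    have ρA : Cj ρ (AA x y) (AA x y) ∧ ρ * x * ρ⁻¹ = x := by
      rcases hρ with rfl | rfl
      exacts [⟨rA, rx'⟩, ⟨rA.symm, by rw [inv_inv, mul_assoc, ← rx, inv_mul_cancel_left]⟩]
    have τA : Cj τ (AA x y) (AA x y) := by
      rcases hτ with rfl | rfl
      exacts [tA, tA.symm]
    have h2 : ρ⁻¹ * τ ∈ N := hN ▸ mem_inf.2 ⟨mul_mem (inv_mem (show ρ ∈ normalizer (AA x y : Set G) from ρA.1))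
      (show τ ∈ normalizer (AA x y : Set G) from τA), fun u hu => by
        have a1 : ∀ {c d}, ρ * c * ρ⁻¹ = d → τ * c * τ⁻¹ = d → Commute c (ρ⁻¹ * τ) := fun {c d} e e' => by
          calc c * (ρ⁻¹ * τ) = ρ⁻¹ * (ρ * c * ρ⁻¹) * τ := by group
            _ = _ := by rw [e, ← e']; group
        obtain ⟨i, hi, rfl⟩ := l.U_iff.1 ((hU u).1 hu)
        simp only [List.mem_cons, List.not_mem_nil, or_false] at hi
        rcases hi with rfl | rfl | rfl | rfl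
        · simp [l.zero]
        exacts [a1 e1 e3, a1 e2 e4, (l.mul (i := 1) (j := 6) (by norm_num) (by norm_num)).subst
          (motive := fun c => Commute c _) ((a1 e1 e3).mul_left (a1 e2 e4))]⟩
    have h3 := cO ρ ρA.1 x xO ρA.2 (ρ⁻¹ * τ * x * (ρ⁻¹ * τ)⁻¹) (by rw [hO]; exact ⟨_, h2, rfl⟩)
    rw [show ρ * (ρ⁻¹ * τ * x * (ρ⁻¹ * τ)⁻¹) * ρ⁻¹ = τ * x * τ⁻¹ by group] at h3
    rcases hτ with rfl | rfl
    · exact Or.inl (by rwa [pow_one, pow_one, ← tx])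
    · refine Or.inr ?_
      have e : t * (x * y⁻¹) * t⁻¹ = x := by rw [← conj_mul, ← conj_inv, ty', tx, mul_inv_cancel_right]
      rw [pow_one, ← Di.inv_eq_sq p.a3]
      convert h3 using 1
      conv_rhs => rw [← e]
      group
  have h2 : ∀ j, x ^ 0 * y ^ j ∈ O → ∀ i j, x ^ i * y ^ j ∈ O → x ^ i * y ^ ((i + j) % 3) ∈ O := fun n hn i j h => by
    have := cO t tA _ hn (by rw [pow_zero, one_mul, ← conj_pow, ty']) _ h
    rwa [← conj_mul, ← conj_pow, ← conj_pow, tx, ty', xy.mul_pow, mul_assoc, ← pow_add, ← pow_mod3 p.a3] at this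
  have r2 : ∀ i j, x ^ i * y ^ j ∈ O → x ^ i * y ^ ((i + j) % 3) ∈ O :=
    h1.elim (fun h => h2 1 (r1 2 1 (r1 1 1 h))) fun h => h2 2 (r1 1 2 h)
  have p10 : x ^ 1 * y ^ 0 ∈ O := by simpa using xO
  have p11 : x ^ 1 * y ^ 1 ∈ O := r2 1 0 p10
  have p12 : x ^ 1 * y ^ 2 ∈ O := r2 1 1 p11
  have eO : O = (AA x y : Set G) \ {1} := Set.Subset.antisymm (by
    rw [hO, hN]
    rintro _ ⟨c, hc, rfl⟩
    exact ⟨conj_mem_of_mem_normalizer hc.1 p.w_mem, fun e => p.ne (conj_eq_one_iff.1 e)⟩) fun b hb => by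
      obtain ⟨i, hi, j, hj, rfl⟩ := p.mem_AA.1 hb.1
      interval_cases i <;> interval_cases j
      exacts [absurd (by simp) hb.2, r1 2 1 (r1 1 1 p11), r1 1 2 p12, p10, p11, p12, r2 2 1 (r1 1 1 p11), r1 1 1 p11,
        r1 0 2 (r1 1 2 p12)]
  have h8 : (centralizer {x}).relIndex N = 8 := by
    rw [ClassSz.relIndex_cent_eq_ncard, ← hO, eO, Set.ncard_diff_singleton_of_mem (one_mem _), ← Nat.card_coe_set_eq]
    exact congrArg (· - 1) p.card_AA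
  have UN : U ≤ centralizer {x} ⊓ N := fun u hu => hN ▸ mem_inf.2 ⟨mem_centralizer_singleton_iff.2
    (((hU u).1 hu).1 x p.w_mem), mem_inf.2 ⟨mem_normalizer_of_forall fun b hb => by
      rwa [((hU u).1 hu).1 b hb, mul_inv_cancel_right], fun v hv => m.F_comm (m.U_F ((hU v).1 hv)) (m.U_F ((hU u).1 hu))⟩⟩
  obtain ⟨T, hT⟩ := exists_isSylowIn 2 N
  obtain ⟨c, hc, e⟩ := hP.exists_cj_le hT.pgroup (hT.le.trans (hN ▸ inf_le_right))
  have h32 : 32 ∣ Nat.card T := by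
    have h3 : 32 ∣ Nat.card N := by
      rw [Sect.card_eq_relIndex (centralizer {x}) N, h8]
      exact mul_dvd_mul_right (by simpa [cU] using card_dvd_of_le UN : 4 ∣ _) 8
    rw [← card_mul_relIndex' hT.le] at h3
    exact Nat.Coprime.dvd_of_dvd_mul_right (Nat.Coprime.pow_left 5 ((Nat.prime_two.coprime_iff_not_dvd).2 hT.not_dvd)) h3
  have e' := eq_of_le_of_card_ge e (by rw [card_cj]; exact cP.trans (Nat.le_of_dvd Nat.card_pos h32))
  have h4 : ∀ i ∈ [3, 13, 14], ¬ InU (AA x y) (c⁻¹ * L i * c) ∧ ∀ b ∈ AA x y,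
      c⁻¹ * L i * c * b * (c⁻¹ * L i * c)⁻¹ = b⁻¹ := fun i hi => by
    obtain ⟨i1, i2⟩ := (by decide : ∀ i ∈ [3, 13, 14], i < 16 ∧ ∀ j ∈ [0, 1, 6, 7], j < 16 ∧ i ≠ j) i hi
    have a1 := mem_inf.1 (hN ▸ hT.le (mem_cj.1 (e'.ge (LP i i1))))
    have a2 : ¬ InU (AA x y) (c⁻¹ * L i * c) := fun e => by
      obtain ⟨j, hj, e'⟩ := l.U_iff.1 e
      refine (i2 j hj).2 (l.inj i1 (i2 j hj).1 ?_)
      rw [← mul_inv_cancel_right (L j) c, hc _ ((hU _).2 (e' ▸ e)), ← e']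
      group
    exact ⟨a2, fun b => inverts g p a1.1 (fun u hu => (a1.2 u ((hU u).2 hu)).symm)
      (by simp [mul_assoc, ← mul_assoc (L i), l.sq i1]) a2⟩
  refine (h4 14 (by simp)).1 ⟨fun b hb => mul_inv_eq_iff_eq_mul.1 ?_, by
    simp [mul_assoc, ← mul_assoc (L 14), l.sq (show 14 < 16 by norm_num)]⟩
  calc _ = c⁻¹ * L 3 * c * (c⁻¹ * L 13 * c * b * (c⁻¹ * L 13 * c)⁻¹) * (c⁻¹ * L 3 * c)⁻¹ := by
        rw [show L 14 = L 3 * L 13 from (l.mul (i := 3) (j := 13) (by norm_num) (by norm_num)).symm]; group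
    _ = b := by rw [(h4 13 (by simp)).2 b hb, (h4 3 (by simp)).2 _ (inv_mem hb), inv_inv]

end CfsgLib.J4X
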