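import Mathlib
import Cfsg.Agent.Lib.J4X.FinA
import Cfsg.Agent.Lib.J4X.Ks
import Cfsg.Agent.Lib.J4X.Dich
import Cfsg.Agent.Lib.J4X.NoneA
import Cfsg.Agent.Lib.J4X.AllA
import Cfsg.Agent.Lib.J4X.Ee
import Cfsg.Agent.Lib.J4X.Gold
import Cfsg.Agent.Lib.J4T.Iso

/-! # The odd characterisation of `J4` -/

set_option autoImplicit false

namespace CfsgLib.J4X

open Cfsg CfsgLib.Golay CfsgLib.M24E CfsgLib.J4T CfsgLib.J4T.G3 Subgroup CfsgLib.LargeExtra

variable {G : Type*} [Group G] [Finite G]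

theorem Gl.exists_HM (g : Gl G) {x y : G} (p : Pa x y) (h : g.zf y ≠ g.zf x) {E : Subgroup G}
    (e : EX x (g.zf x) E) : ∃ b : Base (g.zf x), b.E = E := by
  obtain ⟨θ, k⟩ := g.ks x p.ne p.w3
  have u : Fn.EY x (g.zf x) θ E := ⟨k, e.es, e.card, e.norm, e.fpf⟩
  obtain ⟨z, m, hm⟩ := Fn.exists_emb g p h e u
  obtain ⟨b, hb, -⟩ := u.base fun c hc => by
    obtain ⟨a, ha⟩ := hm.surj ⟨c, mem_cent.2 hc⟩
    rw [← show (a : G) = c from congrArg Subtype.val ha]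
    exact a.2
  exact ⟨b, hb⟩

theorem Gl.zf_ne_of_pa (g : Gl G) {x y : G} (p : Pa x y) : g.zf y ≠ g.zf x := fun h => by
  obtain ⟨X, _, _, g', x', y', p', h'⟩ := g.quot p h
  exact (g'.dich p').elim (g'.allA p' h') (g'.noneA p' h')

theorem Gl.exists_good (g : Gl G) {x y : G} (p : Pa x y) : ∃ j : JM (g.zf x), j.Good := by
  have h := g.zf_ne_of_pa p
  obtain ⟨E, e⟩ := g.exists_EX p h ((g.dich p).resolve_right (g.noneB p h))
  obtain ⟨b, -⟩ := g.exists_HM p h e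
  obtain ⟨m, -⟩ := b.exists_HM
  obtain ⟨c, hc⟩ := isConj_iff.1 (g.conj x y p.ne p.w3 p.a_ne p.a3)
  obtain ⟨θ, k⟩ := g.ks x p.ne p.w3
  obtain ⟨j, hj, -⟩ := m.exists_good (by
    by_contra hw
    exact NW.Pr.false (h := m) (g := c) (x := g.zf y) ⟨fun a ha => by_contra fun hn => hw ⟨a, ha, hn⟩,
      by rw [← hc, g.zf_conj p.ne p.w3], k.z_comm _ ((g.zf_U p p.a_mem p.a_ne).1 x p.w_mem), h⟩)
  exact ⟨j, hj⟩

theorem good_of_hyp (x : G) (hx : orderOf x = 3)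
    (hperf : ⁅(⊤ : Subgroup ↥(centralizer ({x} : Set G))), (⊤ : Subgroup ↥(centralizer ({x} : Set G)))⁆ = ⊤)
    (hZ : IsCyclic ↥(center ↥(centralizer ({x} : Set G))))
    (hZc : Nat.card ↥(center ↥(centralizer ({x} : Set G))) = 3 ∨ Nat.card ↥(center ↥(centralizer ({x} : Set G))) = 6)
    (e : ↥(centralizer ({x} : Set G)) ⧸ center ↥(centralizer ({x} : Set G)) ≃* ↥Spor.M22) (S : Sylow 3 G) (g : G)
    (hng : ((center ↥(S : Subgroup G)).map (S : Subgroup G).subtype).map (MulAut.conj g).toMonoidHom ≤ (S : Subgroup G))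
    (hne : ((center ↥(S : Subgroup G)).map (S : Subgroup G).subtype).map (MulAut.conj g).toMonoidHom ≠
      (center ↥(S : Subgroup G)).map (S : Subgroup G).subtype) : ∃ (z : G) (j : JM z), j.Good := by
  obtain ⟨z, θ, k, -⟩ := ks0_of_hyp x hx hperf hZ hZc e
  obtain ⟨y, p, hy⟩ := k.exists_pa S g hng hne
  obtain ⟨γ, -⟩ := k.exists_gl p hy
  exact ⟨_, γ.exists_good p⟩

theorem jof_of_good {z : G} (j : JM z) : IsOfJankoFourType G := ⟨z, _, jof j.toHM⟩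

end CfsgLib.J4X
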